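import Groth.Agent.L07.BlowLib.DeformStrict
import Groth.Agent.L22.Cyc.P1Zero
import Groth.Agent.L22.BlowUp
import Groth.Agent.L22.CurveDeg.ZeroDim
import Groth.Agent.L21.Mod.Stalks
import Groth.Agent.L12.RR.ConormalRank

/-!
# Auxiliary facts for the deformation to the normal cone
-/

set_option autoImplicit false
set_option maxHeartbeats 800000
set_option linter.style.haveILetI false
set_option linter.unusedSectionVars false
set_option backward.isDefEq.respectTransparency false
set_option backward.isDefEq.respectTransparency.types false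

universe u

open CategoryTheory CategoryTheory.Limits AlgebraicGeometry TopologicalSpace

noncomputable section

namespace Groth.L12.RR

/-- A square of closed immersions whose ideals correspond is cartesian. -/
theorem isPullback_of_ker {X Y P M : Scheme.{u}} (f : X ⟶ Y) (ψ : X ⟶ P) (φ : Y ⟶ M) (F : P ⟶ M)
    [IsClosedImmersion f] [IsClosedImmersion F] (w : f ≫ φ = ψ ≫ F) (h : f.ker = F.ker.comap φ) :
    IsPullback f ψ φ F := by
  let fst := pullback.fst φ F
  haveI : IsClosedImmersion fst := inferInstanceAs (IsClosedImmersion (pullback.fst φ F))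
  have hk : fst.ker = f.ker := by
    rw [h]; exact Scheme.IdealSheafData.ker_fst_of_isClosedImmersion _ _
  let l : X ⟶ pullback φ F := pullback.lift f ψ w
  have hl : l ≫ fst = f := pullback.lift_fst _ _ _
  let g := IsClosedImmersion.lift f fst hk.ge
  have hg : g ≫ f = fst := IsClosedImmersion.lift_fac _ _ _
  have h1 : l ≫ g = 𝟙 X := by rw [← cancel_mono f, Category.assoc, hg, hl, Category.id_comp]
  have h2 : g ≫ l = 𝟙 (pullback φ F) := by rw [← cancel_mono fst, Category.assoc, hl, hg, Category.id_comp]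
  exact IsPullback.of_iso_pullback ⟨w⟩ ⟨l, g, h1, h2⟩ (pullback.lift_fst _ _ _) (pullback.lift_snd _ _ _)

/-- A map into the locus over which a morphism is an isomorphism lifts uniquely. -/
theorem exists_lift_isIso {M P Y : Scheme.{u}} (b : M ⟶ P) (U : P.Opens) [IsIso (b ∣_ U)] (s : Y ⟶ P)
    (hs : ∀ y, s y ∈ U) : ∃ t : Y ⟶ M, IsPullback t (𝟙 Y) b s := by
  let s' : Y ⟶ U.toScheme := IsOpenImmersion.lift U.ι s (by rintro _ ⟨y, rfl⟩; rw [Scheme.Opens.range_ι]; exact hs y)
  have hs' : s' ≫ U.ι = s := IsOpenImmersion.lift_fac _ _ _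
  let t := s' ≫ inv (b ∣_ U) ≫ (b ⁻¹ᵁ U).ι
  have ht : t ≫ b = s := by
    simp only [t, Category.assoc, ← morphismRestrict_ι, IsIso.inv_hom_id_assoc, hs']
  refine ⟨t, ⟨⟨by rw [ht, Category.id_comp]⟩, ⟨PullbackCone.IsLimit.mk _ (fun c => c.snd) (fun c => ?_)
    (fun c => Category.comp_id _) (fun c m _ h2 => by simpa using h2)⟩⟩⟩
  have hc : c.fst ≫ b = c.snd ≫ s := c.condition
  have hr : Set.range c.fst ⊆ Set.range (b ⁻¹ᵁ U).ι := by
    rintro _ ⟨z, rfl⟩
    rw [Scheme.Opens.range_ι]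
    show b (c.fst z) ∈ U
    rw [← Scheme.Hom.comp_apply, hc, Scheme.Hom.comp_apply]
    exact hs _
  let w := IsOpenImmersion.lift (b ⁻¹ᵁ U).ι c.fst hr
  have hw : w ≫ (b ⁻¹ᵁ U).ι = c.fst := IsOpenImmersion.lift_fac _ _ _
  have hw2 : w ≫ (b ∣_ U) = c.snd ≫ s' := by
    rw [← cancel_mono U.ι, Category.assoc, morphismRestrict_ι, reassoc_of% hw, hc, Category.assoc, hs']
  show c.snd ≫ t = c.fst
  rw [← hw, show w = c.snd ≫ s' ≫ inv (b ∣_ U) by rw [← Category.assoc, ← hw2, Category.assoc, IsIso.hom_inv_id, Category.comp_id]]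
  simp only [t, Category.assoc]

/-- An epimorphism of locally free modules of the same rank is an isomorphism. -/
theorem isIso_of_epi_rank {X : Scheme.{u}} {A B : X.Modules} (φ : A ⟶ B) [Epi φ] {d : ℕ}
    (hA : FlatMod.IsFinLocFreeOfRank d A) (hB : FlatMod.IsFinLocFreeOfRank d B) : IsIso φ := by
  haveI : Mono φ := by
    refine (Groth.L21.Mod.mono_iff_stalk_injective φ).2 fun x => ?_
    obtain ⟨a⟩ := Groth.L22.CurveDeg.nonempty_stalk_equiv hA x
    obtain ⟨b⟩ := Groth.L22.CurveDeg.nonempty_stalk_equiv hB x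
    have hs : Function.Surjective (Groth.L21.RR.st φ x) := (Groth.L21.Mod.epi_iff_stalk_surjective φ).1 inferInstance x
    let e : (Fin d → X.presheaf.stalk x) →ₗ[X.presheaf.stalk x] (Fin d → X.presheaf.stalk x) :=
      b.symm.toLinearMap ∘ₗ Groth.L21.RR.st φ x ∘ₗ a.toLinearMap
    have hes : Function.Surjective e := b.symm.surjective.comp (hs.comp a.surjective)
    have hei := OrzechProperty.injective_of_surjective_endomorphism e hes
    intro v w hvw
    obtain ⟨v, rfl⟩ := a.surjective v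
    obtain ⟨w, rfl⟩ := a.surjective w
    have : e v = e w := congrArg b.symm hvw
    rw [hei this]
  exact isIso_of_mono_of_epi φ

section Codim

variable {X Y : Scheme.{u}} (f : X ⟶ Y)

/-- A regular closed immersion with conormal module of rank `d` is regular of codimension `d`. -/
theorem codim_of_regular (hf : Mor2.IsRegularClosedImmersion f) {d : ℕ}
    (hd : FlatMod.IsFinLocFreeOfRank d (Omega.conormal f)) :
    RegImm.IsRegularImmersionOfCodim RegImm.Kind.regular d f := by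
  haveI := hf.1
  refine ⟨inferInstance, fun z => ?_⟩
  obtain ⟨U, hU, hz, rs, hrs, hker⟩ := hf.2 z
  obtain ⟨c, hc⟩ := exists_chart_of_seq f ⟨U, hU⟩ hrs.toIsWeaklyRegular hker
  have hzc : z ∈ f ⁻¹ᵁ c.U.1 := by rw [hc]; exact hz
  obtain ⟨V, hzV, ⟨e⟩⟩ := hd z
  obtain ⟨e'⟩ := Groth.L12.FinCov.nonempty_restrict_iso_free (b := c.cl) c.isBasisS_cl
  obtain rfl := Groth.L18.KRRAmple.rank_unique hzV hzc e e'
  haveI : IsClosedImmersion (f ∣_ U) := IsZariskiLocalAtTarget.restrict (P := @IsClosedImmersion) hf.1 U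
  exact ⟨⟨U, hU⟩, hz, inferInstance, rs, rfl, hrs, (Scheme.Hom.ker_apply f ⟨U, hU⟩).symm.trans hker⟩

/-- A closed immersion regular of codimension `d` is a regular closed immersion with conormal module of rank `d`. -/
theorem regular_of_codim [IsClosedImmersion f] {d : ℕ}
    (h : RegImm.IsRegularImmersionOfCodim RegImm.Kind.regular d f) :
    Mor2.IsRegularClosedImmersion f ∧ FlatMod.IsFinLocFreeOfRank d (Omega.conormal f) := by
  refine ⟨⟨inferInstance, fun z => ?_⟩, fun z => ?_⟩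
  · obtain ⟨U, hz, -, rs, -, hrs, hker⟩ := h.2 z
    exact ⟨U.1, U.2, hz, rs, hrs, (Scheme.Hom.ker_apply f U).trans hker⟩
  · obtain ⟨c, hc⟩ := Groth.L22.FLI.exists_chart f h z
    exact ⟨f ⁻¹ᵁ c.U.1, hc, Groth.L12.FinCov.nonempty_restrict_iso_free (b := c.cl) c.isBasisS_cl⟩

end Codim

section Sections

open Groth.L16.ProjSpace

/-- The points `0` and `∞` of the projective line are disjoint. -/
theorem sect_apply_ne {X : Scheme.{u}} (x y : X) : P1.sect X 0 x ≠ P1.sect X 1 y := by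
  intro h
  let q : CohB1.ProjSpaceOver 1 X ⟶ CohB1.ProjSpace 1 P1.R0.{u} :=
    pullback.fst (CohB1.ProjSpace.toSpec 1 (ULift.{u} ℤ)) (specULiftZIsTerminal.from X)
  have hq : ∀ i, P1.sect X i ≫ q = specULiftZIsTerminal.from X ≫ P1.point i := fun i => pullback.lift_fst _ _ _
  have h2 : P1.point.{u} 0 (specULiftZIsTerminal.from X x) = P1.point.{u} 1 (specULiftZIsTerminal.from X y) := by
    rw [← Scheme.Hom.comp_apply, ← Scheme.Hom.comp_apply, ← hq, ← hq, Scheme.Hom.comp_apply, Scheme.Hom.comp_apply, h]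
  generalize specULiftZIsTerminal.from X x = a at h2
  generalize specULiftZIsTerminal.from X y = b at h2
  have hm : P1.point.{u} 0 a ∈ Proj.basicOpen P1.grading (P1.T.{u} 0) := by
    rw [← Proj.opensRange_awayι P1.grading (P1.T.{u} 0) (P1.X_mem 0) one_pos]
    exact ⟨_, rfl⟩
  rw [h2] at hm
  have hm' : Spec.map (CommRingCat.ofHom (P1.evalAway.{u} 1)) b ∈
      Proj.awayι P1.grading (P1.T.{u} 1) (P1.X_mem 1) one_pos ⁻¹ᵁ Proj.basicOpen P1.grading (P1.T.{u} 0) := hm
  rw [Proj.awayι_preimage_basicOpen P1.grading (P1.X_mem 1) one_pos (P1.X_mem 0) one_pos] at hm'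
  refine hm' ?_
  have h0 : P1.evalAway.{u} 1 (HomogeneousLocalization.Away.isLocalizationElem (𝒜 := P1.grading.{u}) (P1.X_mem 1) (P1.X_mem 0)) = 0 := by
    show IsLocalization.Away.lift (S := Localization.Away (P1.T.{u} 1)) (P1.T.{u} 1) (g := (MvPolynomial.aeval (Pi.single 1 (1 : P1.R0.{u}) : Fin (1 + 1) → P1.R0)).toRingHom) (by simp)
      (HomogeneousLocalization.val (HomogeneousLocalization.Away.isLocalizationElem (𝒜 := P1.grading.{u})
        (P1.X_mem 1) (P1.X_mem 0))) = 0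
    rw [HomogeneousLocalization.Away.val_mk, Localization.mk_eq_mk']
    exact (IsLocalization.lift_mk'_spec _ _ _ _).2 (by simp)
  show P1.evalAway.{u} 1 (HomogeneousLocalization.Away.isLocalizationElem (𝒜 := P1.grading.{u}) (P1.X_mem 1) (P1.X_mem 0)) ∈ b.asIdeal
  rw [h0]
  exact zero_mem _

theorem isClosedImmersion_sect' (X : Scheme.{u}) (i : Fin (1 + 1)) : IsClosedImmersion (P1.sect X i) := by
  obtain ⟨L, σ, -, h⟩ := Groth.L22.P1Zero.exists_sections X
  exact (h i).1

/-- The chart of the projective line around the zero section. -/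
theorem exists_zero_chart {X : Scheme.{u}} (V : X.affineOpens) :
    ∃ (U : (CohB1.ProjSpaceOver 1 X).affineOpens)
      (_ : U.1 ≤ CohB1.ProjSpaceOver.toBase 1 X ⁻¹ᵁ V.1) (hs : P1.sect X 0 ⁻¹ᵁ U.1 = V.1)
      (e : MvPolynomial (ChartVar 1 0) Γ(X, V.1) ≃+* Γ(CohB1.ProjSpaceOver 1 X, U.1)),
      ∀ P, ((P1.sect X 0).appLE U.1 V.1 hs.ge).hom (e P) = MvPolynomial.constantCoeff P := by
  let A := Γ(X, V.1)
  let p := CohB1.ProjSpaceOver.toBase 1 X
  let s := P1.sect X 0
  let jV : Spec (CommRingCat.of A) ⟶ X := V.2.fromSpec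
  haveI : IsOpenImmersion jV := inferInstanceAs (IsOpenImmersion V.2.fromSpec)
  haveI : IsOpenImmersion (overMap 1 jV) := MorphismProperty.of_isPullback (isPullback_overMap 1 jV).flip inferInstance
  let χ := chart 1 A 0 ≫ (isoOver 1 A).hom ≫ overMap 1 jV
  let φ : ULift.{u} ℤ →+* A := (algebraMap ℤ A).comp ULift.ringEquiv.toRingHom
  let C₀ : A →+* MvPolynomial (ChartVar 1 0) A := MvPolynomial.C
  let ev : MvPolynomial (ChartVar 1 0) A →+* A := MvPolynomial.constantCoeff
  have hχp : χ ≫ p = Spec.map (CommRingCat.ofHom C₀) ≫ jV := by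
    simp only [χ, p, Category.assoc, (isPullback_overMap 1 jV).w, isoOver_hom_toBase_assoc, chart_toSpec_assoc]
    rfl
  have hev : ev.comp C₀ = RingHom.id A := RingHom.ext fun a => MvPolynomial.constantCoeff_C _ a
  have hsχ : jV ≫ s = Spec.map (CommRingCat.ofHom ev) ≫ χ := by
    apply pullback.hom_ext
    · have h1 : overMap 1 jV ≫ pullback.fst (CohB1.ProjSpace.toSpec 1 (ULift.{u} ℤ)) (specULiftZIsTerminal.from X) =
          pullback.fst (CohB1.ProjSpace.toSpec 1 (ULift.{u} ℤ)) (specULiftZIsTerminal.from (Spec (CommRingCat.of A))) :=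
        (pullback.lift_fst _ _ _).trans (Category.comp_id _)
      have h2 : (isoOver 1 A).hom ≫
          pullback.fst (CohB1.ProjSpace.toSpec 1 (ULift.{u} ℤ)) (specULiftZIsTerminal.from (Spec (CommRingCat.of A))) =
          Groth.L16.ProjSpace.map 1 φ :=
        (isPullback_over 1 (R := A)).isoPullback_hom_fst
      have hl : (jV ≫ s) ≫ pullback.fst _ _ = Spec.map (CommRingCat.ofHom φ) ≫ P1.point.{u} 0 := by
        show (jV ≫ s) ≫ pullback.fst (CohB1.ProjSpace.toSpec 1 (ULift.{u} ℤ)) (specULiftZIsTerminal.from X) = _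
        rw [Category.assoc]
        erw [pullback.lift_fst]
        rw [← Category.assoc, specULiftZIsTerminal.hom_ext (jV ≫ specULiftZIsTerminal.from X)
          (Spec.map (CommRingCat.ofHom φ))]
      refine hl.trans ?_
      show _ = (Spec.map _ ≫ χ) ≫ pullback.fst (CohB1.ProjSpace.toSpec 1 (ULift.{u} ℤ)) (specULiftZIsTerminal.from X)
      simp only [χ, Category.assoc, h1, h2, chart_map, Groth.L22.P1Zero.point_eq, ← Spec.map_comp_assoc]
      congr 2
    · show (jV ≫ s) ≫ p = (Spec.map _ ≫ χ) ≫ p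
      rw [Category.assoc, Category.assoc, hχp, Groth.L07.BlowLib.sect_toBase, ← Spec.map_comp_assoc,
        ← CommRingCat.ofHom_comp, hev, CommRingCat.ofHom_id, Spec.map_id, Category.id_comp, Category.comp_id]
  obtain ⟨U, ψ, hU, hψ, hψχ⟩ := Groth.L07.BlowLib.exists_ringEquiv χ
  have hp : U.1 ≤ p ⁻¹ᵁ V.1 := by
    rw [hU]
    rintro _ ⟨x, rfl⟩
    show p (χ x) ∈ V.1
    rw [← Scheme.Hom.comp_apply, hχp, Scheme.Hom.comp_apply]
    show _ ∈ (V.1 : Set X)
    rw [← V.2.range_fromSpec]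
    exact ⟨_, rfl⟩
  have hs : s ⁻¹ᵁ U.1 = V.1 := by
    refine le_antisymm (fun x hx => ?_) (fun x hx => ?_)
    · have h1 : p (s x) ∈ V.1 := hp hx
      rwa [← Scheme.Hom.comp_apply, Groth.L07.BlowLib.sect_toBase] at h1
    · obtain ⟨x, rfl⟩ : x ∈ Set.range jV := by rw [show Set.range jV = (V.1 : Set X) from V.2.range_fromSpec]; exact hx
      show s (jV x) ∈ U.1
      rw [hU, ← Scheme.Hom.comp_apply, hsχ]
      exact ⟨_, rfl⟩
  let e := RingEquiv.ofBijective ψ.hom (ConcreteCategory.bijective_of_isIso ψ)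
  refine ⟨U, hp, hs, e, fun P => ?_⟩
  have h1 : Spec.map (ψ ≫ s.appLE U.1 V.1 hs.ge) = Spec.map (CommRingCat.ofHom ev) := by
    rw [← cancel_mono χ, Spec.map_comp, Category.assoc, hψχ, U.2.SpecMap_appLE_fromSpec s V.2 hs.ge]
    exact hsχ
  exact ConcreteCategory.congr_hom (Spec.map_injective h1) P

/-- The zero section is an effective Cartier divisor. -/
theorem isEffCartier_sect_zero (Y : Scheme.{u}) : BlowUp.IsEffCartierIdeal (P1.sect Y 0).ker := by
  haveI := isClosedImmersion_sect' Y 0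
  intro z
  by_cases hz : z ∈ (P1.sect Y 0).ker.support
  · obtain ⟨y, rfl⟩ : z ∈ Set.range (P1.sect Y 0) := by
      have h : z ∈ ((P1.sect Y 0).ker.support : Set _) := hz
      rwa [Scheme.Hom.support_ker, (P1.sect Y 0).isClosedEmbedding.isClosed_range.closure_eq] at h
    obtain ⟨_, ⟨V, hV, rfl⟩, hy, -⟩ := Y.isBasis_affineOpens.exists_subset_of_mem_open (Set.mem_univ y) isOpen_univ
    obtain ⟨U, hp, hs, e, hev⟩ := exists_zero_chart (⟨V, hV⟩ : Y.affineOpens)
    let j : ChartVar 1 (0 : Fin (1 + 1)) := ⟨1, by decide⟩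
    refine ⟨U, show y ∈ P1.sect Y 0 ⁻¹ᵁ U.1 from hs.ge hy, e (MvPolynomial.X j), ?_, ?_⟩
    · rw [mem_nonZeroDivisors_iff_right]
      intro w hw
      obtain ⟨w, rfl⟩ := e.surjective w
      rw [← map_mul, map_eq_zero_iff _ e.injective] at hw
      rw [MvPolynomial.ext_iff] at hw
      rw [show w = 0 from MvPolynomial.ext _ _ fun d => by
        have h1 := hw (d + Finsupp.single j 1)
        rwa [MvPolynomial.coeff_mul_X] at h1, map_zero]
    · rw [show (P1.sect Y 0).ker = (𝟙 Y ≫ P1.sect Y 0).ker by rw [Category.id_comp],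
        Groth.L07.BlowLib.ker_comp_ideal (𝟙 Y) _ U ⟨V, hV⟩ hs, Scheme.Hom.ker_apply]
      have hb : RingHom.ker ((𝟙 Y : Y ⟶ Y).app V).hom = ⊥ := (RingHom.injective_iff_ker_eq_bot _).1 fun _ _ h => h
      rw [hb, Groth.L07.BlowLib.comap_equiv e _ _ hev, ← RingHom.ker_eq_comap_bot,
        Groth.L22.P1Zero.ker_constantCoeff _ j, Ideal.map_span, Set.image_singleton]
      rfl
  · obtain ⟨_, ⟨D, hD, rfl⟩, hzD, hle⟩ := (CohB1.ProjSpaceOver 1 Y).isBasis_affineOpens.exists_subset_of_mem_open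
      (show z ∈ (P1.sect Y 0).ker.support.compl from hz) (P1.sect Y 0).ker.support.compl.2
    refine ⟨⟨D, hD⟩, hzD, 1, one_mem _, ?_⟩
    rw [Groth.L07.BlowLib.ideal_eq_top_of_disjoint _ ⟨D, hD⟩ fun x hx => hle hx, Ideal.span_singleton_one]

/-- Either section is an effective Cartier divisor. -/
theorem isEffCartier_sect' (Y : Scheme.{u}) (i : Fin (1 + 1)) : BlowUp.IsEffCartierIdeal (P1.sect Y i).ker := by
  match i with
  | ⟨0, _⟩ => exact isEffCartier_sect_zero Y
  | ⟨1, _⟩ => exact Groth.L07.BlowLib.isEffCartier_sect Y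

/-- The sections are compatible with base change. -/
theorem isPullback_sect {X Y : Scheme.{u}} (f : X ⟶ Y) (i : Fin (1 + 1)) :
    IsPullback f (P1.sect X i) (P1.sect Y i) (P1.toP1 f) := by
  refine IsPullback.of_bot ?_ (Groth.L07.BlowLib.sect_toP1 f i).symm (Groth.L07.BlowLib.isPullback_toBase f)
  rw [Groth.L07.BlowLib.sect_toBase, Groth.L07.BlowLib.sect_toBase]
  exact IsPullback.of_vert_isIso ⟨by simp⟩

end Sections

end Groth.L12.RR
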