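import Groth.Agent.L12.RR.Def.PerfPush
import Groth.Agent.L12.KRes.PushPrPd
import Groth.Agent.L12.KRes.PushReg
import Groth.Agent.L18.ChowExtra
import Groth.Agent.L16.ProjEmb
import Groth.Agent.L27.Quot.ProjProper
import Groth.Agent.L18.ProjAlg.TwistAmple
import Groth.Agent.S1108

/-!
# A retraction of push forward along a section
-/

set_option autoImplicit false
set_option maxHeartbeats 800000
set_option linter.style.haveILetI false
set_option linter.unusedSectionVars false
set_option backward.isDefEq.respectTransparency false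
set_option backward.isDefEq.respectTransparency.types false

universe v u

open CategoryTheory CategoryTheory.Limits AlgebraicGeometry TopologicalSpace RingTheory.Sequence

attribute [local instance] HasDerivedCategory.standard

noncomputable section

namespace Groth.L12.RR

open Groth.L12.Kvb (KR toKR)
open Groth.L12.KBunQ (kc KR_hom_ext)
open Groth.L12.KRes (CohPd clPd)

/-- An ample module gives enough locally free modules. -/
theorem hasEnough_of_ample {X : Scheme.{u}} [IsNoetherian X] (h : ∃ L : X.Modules, CohB1.IsAmple L) :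
    _root_.KRR.HasEnoughLocFree X := fun F hF => by
  obtain ⟨L, hL⟩ := h
  exact Groth.Agent.S1108.result X L hL F hF.1 hF.2

/-- An affine scheme has an ample module. -/
theorem exists_ample_affine (S : Scheme.{u}) [IsAffine S] : ∃ L : S.Modules, CohB1.IsAmple L :=
  ⟨_, Groth.L18.Ample.isAmple_of_isQuasiAffine (Groth.L18.Ample.isInvertible_structureModule S)⟩

/-- A quasi-projective scheme over an affine has an ample module. -/
theorem exists_ample_of_qproj {S Y : Scheme.{u}} [IsAffine S] [IsNoetherian Y] {qY : Y ⟶ S}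
    (hqY : _root_.KRR.IsQProjOver qY) : ∃ L : Y.Modules, CohB1.IsAmple L := by
  obtain ⟨n, i, hi, hiq⟩ := hqY
  haveI := hi
  haveI : QuasiCompact i := inferInstance
  exact Groth.L16.ProjEmb.exists_ample_of_immersion qY (exists_ample_affine S) i hiq

/-- A quasi-projective scheme is of finite type over the affine base. -/
theorem lft_of_qproj {S Y : Scheme.{u}} {qY : Y ⟶ S}
    (hqY : _root_.KRR.IsQProjOver qY) : LocallyOfFiniteType qY := by
  obtain ⟨n, i, hi, hiq⟩ := hqY
  haveI := hi
  haveI : IsProper (_root_.KRR.pr n S) := Groth.L16.ProjSpace.isProper_toBase n S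
  rw [← hiq]
  infer_instance

/-- The projective line over a scheme with an ample module has one. -/
theorem exists_ample_PY {Y : Scheme.{u}} [IsNoetherian Y] (n : ℕ) (h : ∃ L : Y.Modules, CohB1.IsAmple L) :
    ∃ L : (_root_.KRR.PY n Y).Modules, CohB1.IsAmple L := by
  haveI := Groth.L12.KRes.isNoetherian_PY n Y
  exact Groth.L16.ProjEmb.exists_ample_of_immersion (_root_.KRR.pr n Y) h (𝟙 _) (Category.id_comp _)

/-- A projective scheme over one with an ample module has one. -/
theorem exists_ample_of_projective {X Y : Scheme.{u}} {b : X ⟶ Y} (hb : RelProj.IsProjective b)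
    (h : ∃ L : Y.Modules, CohB1.IsAmple L) : ∃ L : X.Modules, CohB1.IsAmple L := by
  obtain ⟨h1, h2, L, hL⟩ := Groth.L18.TwistAmp.isQuasiProjective_of_isProjective hb
  exact Groth.L16.ProjEmb.exists_ample_of_relAmple b h hL

/-- Push forward along the section followed by the projection is the identity. -/
theorem pushPr_section (n : ℕ) {Y : Scheme.{u}} [IsNoetherian Y] [IsNoetherian (_root_.KRR.PY n Y)]
    (hPe : _root_.KRR.HasEnoughLocFree (_root_.KRR.PY n Y)) (s : Y ⟶ _root_.KRR.PY n Y)
    (hs : s ≫ _root_.KRR.pr n Y = 𝟙 Y) (hsr : Mor2.IsRegularClosedImmersion s) (y : SGA6.Kvb Y) :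
    Groth.L12.KReg.pushK n Y (Groth.L12.KRes.pushCl s hsr hPe y) = y := by
  haveI := hsr.1
  suffices H : (Groth.L12.KReg.pushK n Y).comp (Groth.L12.KRes.pushCl s hsr hPe) = AddMonoidHom.id _ from
    DFunLike.congr_fun H y
  refine Groth.L29.KSub.hom_ext fun F hF => ?_
  show Groth.L12.KReg.pushK n Y (Groth.L12.KRes.pushCl s hsr hPe (_root_.KRR.cl Y F)) = _root_.KRR.cl Y F
  have hYe : _root_.KRR.HasEnoughLocFree Y := Groth.L12.KRes.hasEnough_of_closed s hPe
  have hgood : Groth.L12.KRes.Good ((Scheme.Modules.pushforward s).obj F) := by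
    refine ⟨Groth.L12.KRes.cohPd_push s hsr hPe hF, Groth.L12.KRes.isRegSheaf_push s F fun i hi W hW => ?_⟩
    have hG := Groth.L29.DC.isFinLocFree_tensor
      (Groth.L29.LocFree.pullback s (Groth.L12.KReg.isFinLocFree_O (n := n) (Y := Y) (-(i : ℤ)))) hF
    haveI := (Groth.L16.NegPow.isCoh_of_isFinLocFree hG).1
    obtain ⟨q, rfl⟩ := Nat.exists_eq_add_of_le' hi
    rw [hs]
    exact subsingleton_of_forall_eq 0 (Groth.L17.hu_affine_eq_zero _ hW q)
  obtain ⟨-, -, he⟩ := Groth.L12.KRes.nice_of_good hPe hYe hgood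
  have hid : Nonempty ((Scheme.Modules.pushforward (_root_.KRR.pr n Y)).obj
      ((Scheme.Modules.pushforward s).obj F) ≅ F) :=
    ⟨(Scheme.Modules.pushforwardComp s (_root_.KRR.pr n Y)).app F ≪≫
      (Scheme.Modules.pushforwardCongr hs).app F ≪≫ (Scheme.Modules.pushforwardId Y).app F⟩
  obtain ⟨e⟩ := hid
  rw [Groth.L12.KRes.pushCl_cl s hsr hPe hF, he,
    ← Groth.L12.KRes.clPd_iso hYe e.symm ((Groth.L12.KRes.hyp hYe).le F hF), Groth.L12.KRes.clPd_vb hYe hF]

/-- A perfect proper scheme over a quasi-projective base retracts the push forward along its sections. -/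
theorem exists_retr {S M Y : Scheme.{u}} [IsAffine S] [IsNoetherian M] [IsNoetherian Y] {qY : Y ⟶ S}
    (hqY : _root_.KRR.IsQProjOver qY) (g : M ⟶ Y) [IsProper g] (hg : MoreMor.IsPerfectMor g)
    (hM : ∃ L : M.Modules, CohB1.IsAmple L) (s : Y ⟶ M) (hs : s ≫ g = 𝟙 Y)
    (hsr : Mor2.IsRegularClosedImmersion s) (hMe : _root_.KRR.HasEnoughLocFree M) :
    ∃ r : KR M →+ KR Y, ∀ y, r (pushK s hsr hMe y) = y := by
  obtain ⟨L, hL⟩ := hM
  haveI := lft_of_qproj hqY
  haveI : QuasiCompact qY := inferInstance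
  obtain ⟨n, q, hq, -, hqg⟩ := Groth.L16.ProjEmb.exists_immersion (g ≫ qY) hL
  haveI := hq
  obtain ⟨N, k, hkc, hkg⟩ := Groth.L18.ChowExtra.isHProjective_of_immersion g q qY hqg
  haveI := hkc
  change M ⟶ _root_.KRR.PY N Y at k
  haveI := Groth.L12.KRes.isNoetherian_PY N Y
  haveI : IsProper (_root_.KRR.pr N Y) := Groth.L16.ProjSpace.isProper_toBase N Y
  haveI : Smooth (_root_.KRR.pr N Y) := Groth.L16.ProjSpace.smooth_toBase (n := N) (S := Y)
  have hPe := hasEnough_of_ample (exists_ample_PY N (exists_ample_of_qproj hqY))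
  have hk := isPerfectMor_of_smooth k (_root_.KRR.pr N Y) g hkg hg
  have hsk : (s ≫ k) ≫ _root_.KRR.pr N Y = 𝟙 Y := by
    rw [Category.assoc, show k ≫ _root_.KRR.pr N Y = g from hkg, hs]
  haveI : IsClosedImmersion s := hsr.1
  have hskr := Groth.Agent.S1676.result (_root_.KRR.pr N Y) (s ≫ k) hsk
  refine ⟨(show SGA6.Kvb (_root_.KRR.PY N Y) →+ KR Y from (toKR Y).comp (Groth.L12.KReg.pushK N Y)).comp
    (pushP k hk hPe : KR M →+ KR (_root_.KRR.PY N Y)), fun y => ?_⟩
  refine Eq.trans ?_ (pushPr_section N hPe (s ≫ k) hsk hskr y)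
  show toKR Y (Groth.L12.KReg.pushK N Y (pushP k hk hPe (pushK s hsr hMe y))) = _
  refine congrArg (Groth.L12.KReg.pushK N Y) ?_
  refine DFunLike.congr_fun (f := (pushP k hk hPe).comp (pushK s hsr hMe))
    (g := (pushK (s ≫ k) hskr hPe)) (KR_hom_ext fun F hF => ?_) y
  rw [AddMonoidHom.comp_apply, pushK_kc s hsr hMe hF,
    pushP_pd k hk hMe hPe (Groth.L12.KRes.cohPd_push s hsr hMe hF), pushK_kc (s ≫ k) hskr hPe hF]
  exact congrArg (toKR _) (Groth.L12.KRes.clPd_iso hPe ((Scheme.Modules.pushforwardComp s k).app F)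
    (cohPd_push_perfect' k hk hMe hPe _ (Groth.L12.KRes.cohPd_push s hsr hMe hF).1
      (Groth.L12.KRes.cohPd_push s hsr hMe hF).2.choose_spec))

end Groth.L12.RR
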