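import Groth.Agent.L12.RR.Def.Elem
import Groth.Agent.L12.RR.Def.Retr
import Groth.Agent.L12.RR.ARR
import Groth.Agent.L06.BlowProj
import Groth.Agent.L11.BlowPerfect.Sch
import Groth.Agent.L16.RegComp.Basic
import Groth.Agent.L13.BlowUp.Exists
import Groth.Agent.L27.Quot.ProjProper

/-!
# Adams Riemann–Roch for a regular immersion into a quasi-projective scheme
-/

set_option autoImplicit false
set_option maxHeartbeats 800000
set_option linter.style.haveILetI false
set_option linter.unusedSectionVars false
set_option backward.isDefEq.respectTransparency false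
set_option backward.isDefEq.respectTransparency.types false

universe u

open CategoryTheory CategoryTheory.Limits AlgebraicGeometry TopologicalSpace

attribute [local instance] HasDerivedCategory.standard

noncomputable section

namespace Groth.L12.RR

open Groth.L12.Kvb (KR)
open Groth.L12.KBunQ (kc)

/-- The deformation of a regular immersion into a quasi-projective scheme. -/
theorem exists_deformation {S X Y : Scheme.{u}} [IsAffine S] [IsNoetherian X] [IsNoetherian Y] {qY : Y ⟶ S}
    (hqY : _root_.KRR.IsQProjOver qY) (f : X ⟶ Y) (hf : Mor2.IsRegularClosedImmersion f) {d : ℕ}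
    (hd : FlatMod.IsFinLocFreeOfRank d (Omega.conormal f)) :
    ∃ D : Deformation f d, ∀ y, haveI := D.noethM; haveI := D.closed_it;
      D.retr (pushK D.it (isRegular_of_effCartier D.it D.cartier_it) D.enoughM y) = y := by
  haveI := hf.1
  haveI := isClosedImmersion_sect' Y 1
  haveI := isClosedImmersion_sect' X 1
  haveI hWn : IsNoetherian (CohB1.ProjSpaceOver 1 X) := Groth.L12.KRes.isNoetherian_PY 1 X
  haveI hPn : IsNoetherian (CohB1.ProjSpaceOver 1 Y) := Groth.L12.KRes.isNoetherian_PY 1 Y
  haveI hsm : Smooth (CohB1.ProjSpaceOver.toBase 1 Y) := Groth.L16.ProjSpace.smooth_toBase (n := 1) (S := Y)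
  haveI hpr : IsProper (CohB1.ProjSpaceOver.toBase 1 Y) := Groth.L16.ProjSpace.isProper_toBase 1 Y
  have hsect : Mor2.IsRegularClosedImmersion (P1.sect Y 1) :=
    Groth.Agent.S1676.result (CohB1.ProjSpaceOver.toBase 1 Y) (P1.sect Y 1) (Groth.L07.BlowLib.sect_toBase Y 1)
  have hc : Mor2.IsRegularClosedImmersion (centre f) := Groth.L16.RegComp.isRegularClosedImmersion_comp f _ hf hsect
  obtain ⟨M, b, hb⟩ := Groth.L13.BU.exists_isBlowUp (centre f).ker
  have hfg : BlowUp.IsFiniteTypeIdeal (centre f).ker := fun U => by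
    haveI : IsNoetherianRing Γ(CohB1.ProjSpaceOver 1 Y, U.1) := IsLocallyNoetherian.component_noetherian U
    exact (isNoetherianRing_iff_ideal_fg _).1 inferInstance _
  have hproj := Groth.L06.BlowProj.isProjective_of_isBlowUp (centre f).ker hfg b hb
  haveI : IsProper b := Groth.L27.ProjProper.isProper_of_isProjective hproj
  haveI : IsLocallyNoetherian M := LocallyOfFiniteType.isLocallyNoetherian b
  haveI : CompactSpace M := QuasiCompact.compactSpace_of_compactSpace b
  haveI hMn : IsNoetherian M := {}
  have hMa : ∃ L : M.Modules, CohB1.IsAmple L :=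
    exists_ample_of_projective hproj (exists_ample_PY 1 (exists_ample_of_qproj hqY))
  have hMe := hasEnough_of_ample hMa
  obtain ⟨F, hF⟩ := exists_F hb
  obtain ⟨hFr, hFd⟩ := regular_F hb hF hf hd
  haveI := hFr.1
  obtain ⟨it, hit, hitc, hitC, hitk⟩ := exists_it hb
  haveI := hitc
  obtain ⟨f0, π, hf0π, hπ, hf0c, hsqP⟩ := exists_iP hb hF
  haveI := hf0c
  let iP := ((centre f).ker.comap b).subschemeι
  haveI : IsLocallyNoetherian ((centre f).ker.comap b).subscheme := LocallyOfFiniteType.isLocallyNoetherian iP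
  haveI : CompactSpace ((centre f).ker.comap b).subscheme := QuasiCompact.compactSpace_of_compactSpace iP
  haveI hPn' : IsNoetherian ((centre f).ker.comap b).subscheme := {}
  obtain ⟨hf0r, hf0d⟩ := regular_f0 hb hF hFr hFd hsqP
  have hstrict := exists_strict hb hF
  obtain ⟨E, q, hq, hE⟩ := exists_elementary hd hstrict hb hπ hsqP
  haveI := hq
  haveI : Coh.IsQCoh E := (Groth.L16.NegPow.isCoh_of_isFinLocFree (Groth.L18.KRRAmple.isFinLocFree_of_rank hE)).1
  obtain ⟨rest, hr, hmul, hdisj⟩ := exists_rest hb hF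
  have hC := Groth.L18.KRRAmple.isFinLocFree_of_rank hFd
  have hsq0 := sq_it hF hit
  let g := b ≫ CohB1.ProjSpaceOver.toBase 1 Y
  have hgp : MoreMor.IsPerfectMor g :=
    Groth.L29.RelPC.perfect_comp (Groth.L11.BlowPerfect.isPerfectMor_blowUp b (centre f) hc hb)
      (isPerfectMor_of_flat _)
  have hsg : it ≫ g = 𝟙 Y := by
    rw [← Category.assoc, hit.w, Category.assoc, Groth.L07.BlowLib.sect_toBase, Category.id_comp]
  obtain ⟨r, hr'⟩ := exists_retr hqY g hgp hMa it hsg (isRegular_of_effCartier it hitC) hMe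
  obtain ⟨c0⟩ := nonempty_conormal_bc hsq0 hFd hd
  obtain ⟨c1⟩ := nonempty_conormal_bc hsqP hFd hf0d
  obtain ⟨c2⟩ := nonempty_pullback_elementary f0 q hE hf0d
  refine ⟨{
    W := CohB1.ProjSpaceOver 1 X
    P := ((centre f).ker.comap b).subscheme
    M := M
    noethW := hWn
    noethP := hPn'
    noethM := hMn
    enoughP := Groth.L12.KRes.hasEnough_of_closed iP hMe
    enoughM := hMe
    pW := CohB1.ProjSpaceOver.toBase 1 X
    s0 := P1.sect X 1
    st := P1.sect X 0
    s0_pW := Groth.L07.BlowLib.sect_toBase X 1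
    st_pW := Groth.L07.BlowLib.sect_toBase X 0
    F := F
    regF := hFr
    rankF := hFd
    it := it
    closed_it := hitc
    cartier_it := hitC
    sq_it := hsq0
    conormal_it := Groth.L12.KBunQ.kc_iso c0 (Groth.L29.LocFree.pullback _ hC)
    f0 := f0
    regf0 := hf0r
    rankf0 := hf0d
    π := π
    f0_π := hf0π
    E := E
    rankE := hE
    t := q ≫ ClSub.idealModι f0.ker
    ideal_t := ideal_of_epi f0 q
    iP := iP
    closed_iP := inferInstance
    cartier_iP := cartier_iP hb
    sq_iP := hsqP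
    conormal_iP := Groth.L12.KBunQ.kc_iso (c1 ≪≫ c2.symm) (Groth.L29.LocFree.pullback _ hC)
    rest := rest
    cartier_rest := hr
    disjoint_rest := hdisj
    linEquiv := by
      rw [hitk, show iP.ker = (centre f).ker.comap b from Scheme.IdealSheafData.ker_subschemeι _]
      exact linEquiv hb hr hmul
    retr := r }, fun y => hr' y⟩

/-- Adams Riemann–Roch for a regular immersion into a quasi-projective scheme. -/
theorem adamsRR {S X Y : Scheme.{u}} [IsAffine S] [IsNoetherian X] [IsNoetherian Y] {qY : Y ⟶ S}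
    (hqY : _root_.KRR.IsQProjOver qY) (f : X ⟶ Y) (hf : Mor2.IsRegularClosedImmersion f) {d : ℕ}
    (hd : FlatMod.IsFinLocFreeOfRank d (Omega.conormal f)) (hYe : _root_.KRR.HasEnoughLocFree Y)
    {j : ℕ} (hj : j ≠ 0) (x : KR X) :
    psi j (pushK f hf hYe x) = pushK f hf hYe (theta j d (kc X (Omega.conormal f)) * psi j x) := by
  obtain ⟨D, hD⟩ := exists_deformation hqY f hf hd
  exact adamsRR_of_deformation hYe hf hd D hD hj x

end Groth.L12.RR
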