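import Groth.Agent.L12.RR.Def.ExcessGr
import Groth.Agent.L12.RR.PushShift
import Groth.Agent.L12.RR.Def.Ample
import Groth.Agent.L29.K.KcohLoc
import Groth.Agent.L12.KBun.Transfer
import Groth.Agent.S3746

/-!
# Restricting the rational gamma filtration to an open
-/

set_option autoImplicit false
set_option maxHeartbeats 800000
set_option linter.style.haveILetI false
set_option linter.unusedSectionVars false
set_option backward.isDefEq.respectTransparency false
set_option backward.isDefEq.respectTransparency.types false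

universe u

open CategoryTheory CategoryTheory.Limits AlgebraicGeometry TopologicalSpace LambdaRing

attribute [local instance] HasDerivedCategory.standard

noncomputable section

namespace Groth.L12.RR.Loc

open Groth.L12.Kvb (KR toKR posStructure)
open Groth.L12.KBunQ (kc KR_hom_ext)

local notation "clc" => KZero.clSub (fun M : Scheme.Modules _ => Coh.IsCoh M)

variable {X : Scheme.{u}}

/-- Forgetting the ring structure. -/
def ofK (X : Scheme.{u}) : KR X →+ SGA6.Kvb X where
  toFun x := x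
  map_zero' := rfl
  map_add' _ _ := rfl

theorem ofK_toKR (z : SGA6.Kvb X) : ofK X (toKR X z) = z := rfl

/-- The Poincaré map from the ring of bundles. -/
def dlt (X : Scheme.{u}) [IsLocallyNoetherian X] : KR X →+ SGA6.Kcoh X :=
  (Groth.L29.KSub.lift (P := _root_.KRR.vbP X)
    (fun M : X.Modules => KZero.clSub (fun M : X.Modules => Coh.IsCoh M) M) fun _ hS h₁ h₂ h₃ =>
      Groth.L29.KSub.clSub_shortExact (fun M : X.Modules => Coh.IsCoh M) hS
        (Groth.L16.NegPow.isCoh_of_isFinLocFree h₁) (Groth.L16.NegPow.isCoh_of_isFinLocFree h₂)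
        (Groth.L16.NegPow.isCoh_of_isFinLocFree h₃)).comp (ofK X)

theorem dlt_kc [IsLocallyNoetherian X] {M : X.Modules} (hM : FlatMod.IsFinLocFree M) :
    dlt X (kc X M) = KZero.clSub (fun M : X.Modules => Coh.IsCoh M) M := by
  rw [dlt, AddMonoidHom.comp_apply, show ofK X (kc X M) = _root_.KRR.cl X M from rfl]
  exact Groth.L29.KSub.lift_clSub (P := _root_.KRR.vbP X) _ _ hM

/-- The Poincaré map is the map induced by the inclusion. -/
theorem dlt_eq [IsLocallyNoetherian X] (h : ∀ M : X.Modules, FlatMod.IsFinLocFree M → Coh.IsCoh M)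
    (z : SGA6.Kvb X) :
    dlt X (toKR X z) = SGA6.mapSub (𝟭 X.Modules) (_root_.KRR.vbP X) (fun M : X.Modules => Coh.IsCoh M) h z := by
  refine DFunLike.congr_fun (Groth.L29.KSub.hom_ext (φ := (dlt X).comp (toKR X))
    (ψ := SGA6.mapSub (𝟭 X.Modules) (_root_.KRR.vbP X) (fun M : X.Modules => Coh.IsCoh M) h) fun M hM => ?_) z
  refine (dlt_kc hM).trans ?_
  show KZero.clSub (fun M : X.Modules => Coh.IsCoh M) M =
    SGA6.mapSub (𝟭 X.Modules) (_root_.KRR.vbP X) (fun M : X.Modules => Coh.IsCoh M) h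
      (KZero.clSub (_root_.KRR.vbP X) M)
  rw [Groth.L29.KSub.clSub_of _ hM, Groth.L29.KSub.clSub_of _ (h M hM)]
  exact Eq.symm (congrArg QuotientAddGroup.mk (FreeAbelianGroup.map_of_apply _))

theorem dlt_bijective [IsNoetherian X] (hreg : ∀ x : X, IsRegularLocalRing (X.presheaf.stalk x))
    (hX : _root_.KRR.HasEnoughLocFree X) : Function.Bijective (dlt X) := by
  have hb := Groth.Agent.S3746.result X hreg hX fun M hM => Groth.L16.NegPow.isCoh_of_isFinLocFree hM
  refine ⟨fun a b hab => ?_, fun y => ?_⟩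
  · obtain ⟨a, rfl⟩ := Groth.L12.Kvb.toKR_bijective.2 a
    obtain ⟨b, rfl⟩ := Groth.L12.Kvb.toKR_bijective.2 b
    rw [dlt_eq (fun M hM => Groth.L16.NegPow.isCoh_of_isFinLocFree hM),
      dlt_eq (fun M hM => Groth.L16.NegPow.isCoh_of_isFinLocFree hM)] at hab
    exact congrArg _ (hb.1 hab)
  · obtain ⟨z, hz⟩ := hb.2 y
    exact ⟨toKR X z, (dlt_eq _ z).trans hz⟩

/-- The push forward of a bundle along a regular immersion is the class of its direct image. -/
theorem dlt_pushK {Z Y : Scheme.{u}} [IsNoetherian Z] [IsNoetherian Y] (f : Z ⟶ Y)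
    (hf : Mor2.IsRegularClosedImmersion f) (hYe : _root_.KRR.HasEnoughLocFree Y) {G : Z.Modules}
    (hG : FlatMod.IsFinLocFree G) :
    dlt Y (pushK f hf hYe (kc Z G)) =
      KZero.clSub (fun M : Y.Modules => Coh.IsCoh M) ((Scheme.Modules.pushforward f).obj G) := by
  obtain ⟨m, L, π, hL⟩ := Groth.L12.KRes.hasLFRes_of_cohPd hYe (Groth.L12.KRes.cohPd_push (f := f) hf hYe hG)
  let χ : KZero.K0sub (fun M : Y.Modules => Groth.L12.KRes.CohPd M) →+ SGA6.Kcoh Y :=
    Groth.L29.KSub.lift (fun M : Y.Modules => KZero.clSub (fun M : Y.Modules => Coh.IsCoh M) M)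
      fun _ hS h₁ h₂ h₃ => Groth.L29.KSub.clSub_shortExact (fun M : Y.Modules => Coh.IsCoh M) hS h₁.1 h₂.1 h₃.1
  have hvb : ∀ {M : Y.Modules}, FlatMod.IsFinLocFree M → Groth.L12.KRes.CohPd M := fun h =>
    ⟨(Groth.L12.KRes.vb_iff.1 h).1, 0, (Groth.L12.KRes.vb_iff.1 h).2⟩
  have h := congrArg χ (Groth.L12.KRes.cl_isLFRes hL)
  rw [Groth.L29.KSub.lift_clSub _ _ (Groth.L12.KRes.cohPd_of_isLFRes hL), map_sum] at h
  rw [pushK_kc f hf hYe hG, pd_isLFRes hYe hL, map_sum]
  refine (h.trans (Finset.sum_congr rfl fun q _ => ?_)).symm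
  rw [map_zsmul, map_zsmul, Groth.L29.KSub.lift_clSub _ _ (hvb (hL.finLocFree q)), dlt_kc (hL.finLocFree q)]

/-- Restriction of classes of coherent modules to an open. -/
def resK {U : Scheme.{u}} (j : U ⟶ X) [IsOpenImmersion j] : SGA6.Kcoh X →+ SGA6.Kcoh U :=
  Groth.L29.KSub.lift (P := fun M : X.Modules => Coh.IsCoh M)
    (fun M : X.Modules => KZero.clSub (fun M : U.Modules => Coh.IsCoh M) ((Scheme.Modules.restrictFunctor j).obj M))
    fun S hS h₁ h₂ h₃ => by
      haveI : (Scheme.Modules.restrictFunctor j).Additive :=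
        haveI := preservesBinaryBiproducts_of_preservesBinaryCoproducts (Scheme.Modules.restrictFunctor j)
        Functor.additive_of_preservesBinaryBiproducts _
      exact Groth.L29.KSub.clSub_shortExact (fun M : U.Modules => Coh.IsCoh M)
        (hS.map_of_exact (Scheme.Modules.restrictFunctor j)) (Groth.L29.DC.RHomC.isCoh_restrict j h₁)
        (Groth.L29.DC.RHomC.isCoh_restrict j h₂) (Groth.L29.DC.RHomC.isCoh_restrict j h₃)

theorem resK_cl {U : Scheme.{u}} (j : U ⟶ X) [IsOpenImmersion j] {M : X.Modules} (hM : Coh.IsCoh M) :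
    resK j (KZero.clSub (fun M : X.Modules => Coh.IsCoh M) M) =
      KZero.clSub (fun M : U.Modules => Coh.IsCoh M) ((Scheme.Modules.restrictFunctor j).obj M) :=
  Groth.L29.KSub.lift_clSub (P := fun M : X.Modules => Coh.IsCoh M) _ _ hM

theorem resK_dlt [IsLocallyNoetherian X] {U : Scheme.{u}} [IsNoetherian U] (j : U ⟶ X) [IsOpenImmersion j]
    (z : KR X) : resK j (dlt X z) = dlt U (pull j z) := by
  refine DFunLike.congr_fun (KR_hom_ext (φ := (resK j).comp (dlt X))
    (ψ := (dlt U).comp (pull j).toAddMonoidHom) fun M hM => ?_) z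
  show resK j (dlt X (kc X M)) = dlt U (pull j (kc X M))
  rw [dlt_kc hM, resK_cl j (Groth.L16.NegPow.isCoh_of_isFinLocFree hM), pull_kc j hM,
    dlt_kc (Groth.L29.LocFree.pullback j hM)]
  exact Groth.L13.KcohNilp.cl_iso ((Scheme.Modules.restrictFunctorIsoPullback j).app M)
    (Groth.L29.DC.RHomC.isCoh_restrict j (Groth.L16.NegPow.isCoh_of_isFinLocFree hM))

theorem aug_pull {U : Scheme.{u}} [ConnectedSpace ↥X] [ConnectedSpace ↥U] (j : U ⟶ X) (x : KR X) :
    (posStructure (X := U)).aug (pull j x) = (posStructure (X := X)).aug x :=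
  DFunLike.congr_fun (KR_hom_ext (φ := (posStructure (X := U)).aug.toAddMonoidHom.comp (pull j).toAddMonoidHom)
    (ψ := (posStructure (X := X)).aug.toAddMonoidHom) fun M hM => by
      obtain ⟨r, hr⟩ := Groth.L18.KRRAmple.exists_rank (E := M) hM
      show Groth.L12.Kvb.augHom (pull j (kc X M)) = Groth.L12.Kvb.augHom (kc X M)
      rw [pull_kc j hM]
      exact (Groth.L12.Kvb.augHom_cl (Groth.L18.MapEpi.isFinLocFreeOfRank_pullback j hr)).trans
        (Groth.L12.Kvb.augHom_cl hr).symm) x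

/-- Surjective pullbacks are surjective on the filtration. -/
theorem exists_lift_filtration {U : Scheme.{u}} [ConnectedSpace ↥X] [ConnectedSpace ↥U] (j : U ⟶ X)
    (hsurj : Function.Surjective (pull j)) {n : ℕ} {y : KR U}
    (hy : y ∈ gammaFiltration (posStructure (X := U)) n) :
    ∃ x ∈ gammaFiltration (posStructure (X := X)) n, pull j x = y := by
  rcases Nat.eq_zero_or_pos n with rfl | hn
  · obtain ⟨x, hx⟩ := hsurj y
    exact ⟨x, by simp [gammaFiltration], hx⟩
  suffices h : gammaFiltration (posStructure (X := U)) n ≤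
      (gammaFiltration (posStructure (X := X)) n).map (pull j).toAddMonoidHom from h hy
  nth_rewrite 1 [gammaFiltration]
  rw [if_neg (by omega), AddSubgroup.closure_le]
  rintro w ⟨l, hl0, hw, rfl⟩
  choose s hs using hsurj
  refine ⟨((l.map fun p => (p.1, s p.2)).map fun p => gamma p.1 p.2).prod,
    Groth.L08.Lambda.prod_mem_gammaFiltration _ _ (fun p hp => ?_) n
      (by simpa [List.map_map, Function.comp_def] using hw), ?_⟩
  · obtain ⟨q, hq, rfl⟩ := List.mem_map.1 hp
    rw [← aug_pull j, hs]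
    exact hl0 q hq
  · show pull j _ = _
    rw [map_list_prod, List.map_map, List.map_map]
    refine congrArg List.prod (List.map_congr_left fun p _ => ?_)
    show pull j (gamma p.1 (s p.2)) = gamma p.1 p.2
    rw [GRR.map_gamma (pull j) (pull_lam j), hs]

variable [IsNoetherian X] [ConnectedSpace ↥X]

/-- Classes of coherent modules in the rational `n`-th step of the filtration. -/
def ratF (n : ℕ) : AddSubgroup (SGA6.Kcoh X) where
  carrier := {x | ∃ (N : ℕ) (z : KR X), 1 ≤ N ∧ z ∈ gammaFiltration (posStructure (X := X)) n ∧ N • x = dlt X z}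
  zero_mem' := ⟨1, 0, le_rfl, zero_mem _, by simp⟩
  add_mem' := by
    rintro x y ⟨N, z, hN, hz, hx⟩ ⟨N', z', hN', hz', hy⟩
    refine ⟨N * N', N' • z + N • z', Nat.one_le_iff_ne_zero.2 (Nat.mul_ne_zero (by omega) (by omega)),
      add_mem (nsmul_mem hz _) (nsmul_mem hz' _), ?_⟩
    rw [map_add, map_nsmul, map_nsmul, ← hx, ← hy, smul_add, smul_smul, smul_smul, Nat.mul_comm N' N]
  neg_mem' := by
    rintro x ⟨N, z, hN, hz, hx⟩
    exact ⟨N, -z, hN, neg_mem hz, by rw [map_neg, ← hx, smul_neg]⟩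

theorem mem_ratF_of_nsmul {n N : ℕ} (hN : 1 ≤ N) {x : SGA6.Kcoh X} (h : N • x ∈ ratF (X := X) n) :
    x ∈ ratF (X := X) n := by
  obtain ⟨M, z, hM, hz, hx⟩ := h
  exact ⟨M * N, z, Nat.one_le_iff_ne_zero.2 (Nat.mul_ne_zero (by omega) (by omega)), hz,
    by rw [mul_smul]; exact hx⟩

/-- The push forward of a bundle from a regularly immersed subscheme of an open, up to classes supported outside. -/
theorem mem_ratF_of_open (hreg : ∀ x : X, IsRegularLocalRing (X.presheaf.stalk x))
    {U Z : Scheme.{u}} [IsNoetherian U] [ConnectedSpace ↥U] [IsNoetherian Z] [ConnectedSpace ↥Z]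
    (hX : ∃ L : X.Modules, CohB1.IsAmple L) (j : U ⟶ X) [IsOpenImmersion j] (f : Z ⟶ U) (hf : Mor2.IsRegularClosedImmersion f) {m : ℕ}
    (hC : FlatMod.IsFinLocFreeOfRank m (Omega.conormal f)) (hU : ∃ L : U.Modules, CohB1.IsAmple L)
    (hZ : ∃ L : Z.Modules, CohB1.IsAmple L) (T : Set X) (hT : Set.range j = Tᶜ) {n : ℕ} (hn : n ≤ m)
    (hS : Groth.L13.KcohNilp.S T ≤ ratF (X := X) n) {G : Z.Modules} (hG : FlatMod.IsFinLocFree G)
    {M : X.Modules} (hM : Coh.IsCoh M)
    (e : (Scheme.Modules.restrictFunctor j).obj M ≅ (Scheme.Modules.pushforward f).obj G) :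
    KZero.clSub (fun M : X.Modules => Coh.IsCoh M) M ∈ ratF (X := X) n := by
  haveI := hf.1
  have hUe := hasEnough_of_ample hU
  have hregU : ∀ x : U, IsRegularLocalRing (U.presheaf.stalk x) := fun x => by
    haveI := hreg (j x)
    exact IsRegularLocalRing.of_ringEquiv (asIso (j.stalkMap x)).commRingCatIsoToRingEquiv
  obtain ⟨LZ, hLZ⟩ := hZ
  obtain ⟨N, hN, hmem⟩ := exists_natMul_push_mem hLZ (pushK f hf hUe)
    (θ := theta 2 m (kc Z (Omega.conormal f))) (d := m)
    (fun y => adamsRR_of_ample hU f hf hC hUe two_ne_zero y)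
    (incl_theta_sub_mem hLZ hC) (n := 0) (x := kc Z G) (by simp [gammaFiltration])
  rw [zero_add] at hmem
  have hbX := dlt_bijective hreg (hasEnough_of_ample hX)
  have hbU := dlt_bijective hregU hUe
  haveI := Groth.L29.KcohLoc.quasiCompact_open j
  have hsurjK : Function.Surjective (resK j) := fun w => Groth.L29.KcohLoc.mem_of_cl (resK j).range (fun F hF => by
    refine ⟨KZero.clSub (fun M : X.Modules => Coh.IsCoh M) (Groth.L29.KcohLoc.ext j F hF), ?_⟩
    rw [resK_cl j (Groth.L29.KcohLoc.isCoh_ext j F hF)]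
    exact Groth.L13.KcohNilp.cl_iso (Groth.L29.KcohLoc.extIso j F hF)
      (Groth.L29.DC.RHomC.isCoh_restrict j (Groth.L29.KcohLoc.isCoh_ext j F hF))) w
  have hsurj : Function.Surjective (pull j) := fun y => by
    obtain ⟨w, hw⟩ := hsurjK (dlt U y)
    obtain ⟨x, hx⟩ := hbX.2 w
    exact ⟨x, hbU.1 (by rw [← resK_dlt, hx, hw])⟩
  obtain ⟨z, hz, hjz⟩ := exists_lift_filtration j hsurj hmem
  obtain ⟨ν, hν⟩ := Groth.L29.KcohLoc.exists_inverse j T hT (ratF (X := X) n) hS
  have hcomp : ν.comp (resK j) = QuotientAddGroup.mk' (ratF (X := X) n) :=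
    Groth.L29.KSub.hom_ext fun A hA => by
      rw [AddMonoidHom.comp_apply, resK_cl j hA]
      exact hν A hA (Groth.L29.DC.RHomC.isCoh_restrict j hA)
  have hres : resK j (N • KZero.clSub (fun M : X.Modules => Coh.IsCoh M) M) = resK j (dlt X z) := by
    rw [map_nsmul, resK_cl j hM, Groth.L13.KcohNilp.cl_iso e (Groth.L29.DC.RHomC.isCoh_restrict j hM), resK_dlt, hjz,
      ← dlt_pushK f hf hUe hG, ← map_nsmul, nsmul_eq_mul]
  have hmk := congrArg ν hres
  rw [← AddMonoidHom.comp_apply, ← AddMonoidHom.comp_apply, hcomp, QuotientAddGroup.mk'_apply,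
    QuotientAddGroup.mk'_apply, QuotientAddGroup.eq] at hmk
  refine mem_ratF_of_nsmul hN ?_
  have hzn : dlt X z ∈ ratF (X := X) n :=
    ⟨1, z, le_rfl, Groth.L08.Lambda.gammaFiltration_antitone _ hn hz, one_nsmul _⟩
  exact neg_mem_iff.1 ((add_mem_cancel_right hzn).1 hmk)

end Groth.L12.RR.Loc
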