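import Groth.Agent.L12.RR.Def.Base
import Groth.Agent.L12.RR.BaseChange
import Groth.Agent.L07.BlowLib.LocalSpread
import Groth.Agent.L07.PrinParts.GrBaseChange
import Groth.Agent.L18.Grass.MapEpi

/-!
# Base change of regular immersions along effective Cartier divisors
-/

set_option autoImplicit false
set_option maxHeartbeats 800000
set_option linter.style.haveILetI false
set_option linter.unusedSectionVars false
set_option backward.isDefEq.respectTransparency false
set_option backward.isDefEq.respectTransparency.types false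

universe u

open CategoryTheory CategoryTheory.Limits AlgebraicGeometry TopologicalSpace RingTheory.Sequence

noncomputable section

namespace Groth.L12.RR

open Groth.L20.SeeNormal (sI)

/-- Base change preserves the conormal module in the same codimension. -/
theorem nonempty_conormal_bc {X Y P M : Scheme.{u}} {F : P ⟶ M} {φ : Y ⟶ M} {f : X ⟶ Y} {ψ : X ⟶ P}
    [IsClosedImmersion F] (hsq : IsPullback f ψ φ F) {d : ℕ}
    (hcF : FlatMod.IsFinLocFreeOfRank d (Omega.conormal F)) (hcf : FlatMod.IsFinLocFreeOfRank d (Omega.conormal f)) :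
    Nonempty ((Scheme.Modules.pullback ψ).obj (Omega.conormal F) ≅ Omega.conormal f) := by
  obtain ⟨α, -, hα, -⟩ := Groth.L07.PrinParts.exists_idealMap φ F.ker f.ker (ker_eq_comap hsq)
  haveI := hα
  haveI : (Scheme.Modules.pullback f).IsLeftAdjoint :=
    (Scheme.Modules.pullbackPushforwardAdjunction f).isLeftAdjoint
  let e : (Scheme.Modules.pullback ψ).obj (Omega.conormal F) ≅
      (Scheme.Modules.pullback f).obj ((Scheme.Modules.pullback φ).obj (ClSub.idealMod F.ker)) :=
    (Scheme.Modules.pullbackComp ψ F).app _ ≪≫ (Scheme.Modules.pullbackCongr hsq.w.symm).app _ ≪≫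
      ((Scheme.Modules.pullbackComp f φ).app _).symm
  let q : (Scheme.Modules.pullback ψ).obj (Omega.conormal F) ⟶ Omega.conormal f :=
    e.hom ≫ (Scheme.Modules.pullback f).map α
  haveI : Epi q := epi_comp _ _
  haveI := isIso_of_epi_rank q (Groth.L18.MapEpi.isFinLocFreeOfRank_pullback ψ hcF) hcf
  exact ⟨asIso q⟩

/-- An effective Cartier ideal is generated by a nonzerodivisor in each local ring. -/
theorem exists_sI_span {X : Scheme.{u}} {I : X.IdealSheafData} (hI : BlowUp.IsEffCartierIdeal I) (x : X) :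
    ∃ a : X.presheaf.stalk x, a ∈ nonZeroDivisors (X.presheaf.stalk x) ∧ sI I x = Ideal.span {a} := by
  obtain ⟨U, hxU, t, ht, hIU, -⟩ := Groth.L22.Ideals.exists_generator hI x
  refine ⟨(X.presheaf.germ U.1 x hxU).hom t, Groth.L22.Mero.mem_regSub_of_mem_nonZeroDivisors U.2 ht ⟨x, hxU⟩, ?_⟩
  rw [Groth.L20.SeeNormal.sI_eq I U hxU, hIU, Ideal.map_span, Set.image_singleton]

/-- A closed immersion cut out in each local ring by a regular sequence of length `d` is regular of codimension `d`. -/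
theorem codim_of_stalks {X Y : Scheme.{u}} (f : X ⟶ Y) [IsClosedImmersion f] [IsLocallyNoetherian Y] {d : ℕ}
    (h : ∀ x : X, ∃ rs : List (Y.presheaf.stalk (f x)), rs.length = d ∧
      IsWeaklyRegular (Y.presheaf.stalk (f x)) rs ∧ sI f.ker (f x) = Ideal.ofList rs) :
    RegImm.IsRegularImmersionOfCodim RegImm.Kind.regular d f := by
  classical
  refine ⟨inferInstance, fun x => ?_⟩
  obtain ⟨rs, hlen, hrs, hI⟩ := h x
  have hsupp : f x ∈ f.ker.support := f.range_subset_ker_support ⟨x, rfl⟩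
  obtain ⟨_, ⟨U₀, hU₀, rfl⟩, hz, -⟩ :=
    Y.isBasis_affineOpens.exists_subset_of_mem_open (Set.mem_univ (f x)) isOpen_univ
  replace hU₀ : IsAffineOpen U₀ := hU₀
  let U : Y.affineOpens := ⟨U₀, hU₀⟩
  let A := Γ(Y, U₀)
  let L := Y.presheaf.stalk (f x)
  haveI : IsNoetherianRing A := IsLocallyNoetherian.component_noetherian U
  letI : Algebra A L := (Y.presheaf.germ U₀ (f x) hz).hom.toAlgebra
  let P := (hU₀.primeIdealOf ⟨f x, hz⟩).asIdeal
  haveI : IsLocalization.AtPrime L P := hU₀.isLocalization_stalk ⟨f x, hz⟩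
  haveI : IsNoetherianRing L := IsLocalization.isNoetherianRing P.primeCompl _ inferInstance
  have hIU : (f.ker.ideal U).map (algebraMap A L) = Ideal.ofList rs :=
    (Groth.L20.SeeNormal.sI_eq f.ker U hz).symm.trans hI
  have hm : Ideal.ofList rs ≤ IsLocalRing.maximalIdeal L :=
    hIU.ge.trans (Groth.L07.BlowLib.ideal_le_prime f.ker U hz hsupp)
  have hreg : IsRegular L rs := ⟨hrs, fun htop => (IsLocalRing.maximalIdeal.isMaximal L).ne_top
    (top_le_iff.1 ((htop.trans (by rw [smul_eq_mul, Ideal.mul_top])).le.trans hm))⟩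
  have hnum : ∀ y : L, ∃ v : A, Associated y (algebraMap A L v) := fun y => by
    obtain ⟨v, s, rfl⟩ := IsLocalization.exists_mk'_eq P.primeCompl y
    exact ⟨v, (IsLocalization.map_units L s).unit, by rw [IsUnit.unit_spec, IsLocalization.mk'_spec]⟩
  choose num hnum using hnum
  let l : List A := rs.map num
  have hspan : Ideal.ofList (l.map (algebraMap A L)) = Ideal.ofList rs := by
    refine le_antisymm (Ideal.span_le.2 fun y hy => ?_) (Ideal.span_le.2 fun y hy => ?_)
    · simp only [Set.mem_setOf_eq, l, List.map_map, List.mem_map] at hy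
      obtain ⟨z, hz, rfl⟩ := hy
      exact Ideal.mem_of_dvd _ (hnum z).dvd (Ideal.subset_span hz)
    · exact Ideal.mem_of_dvd _ (hnum y).dvd' (Ideal.subset_span (List.mem_map_of_mem (List.mem_map_of_mem hy)))
  have hl : IsWeaklyRegular L (l.map (algebraMap A L)) := by
    rw [← List.ofFn_get (l.map (algebraMap A L))]
    exact isWeaklyRegular_of_span_eq hreg (by simp [l]) _ (by rw [Set.range_list_get]; exact hspan)
  obtain ⟨g₁, hg₁, hT₁⟩ := Groth.L07.RegSeq.exists_away_isWeaklyRegular l P L hl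
  obtain ⟨g₂, hg₂, hT₂⟩ := Groth.L07.BlowLib.exists_away_map_eq (I := f.ker.ideal U) (J := Ideal.ofList l) P L (by
    rw [Ideal.map_ofList, hspan, hIU])
  let G : A := g₁ * g₂
  have hG : G ∈ P.primeCompl := mul_mem hg₁ hg₂
  let D : Y.affineOpens := Y.affineBasicOpen (U := U) G
  have hzD : f x ∈ D.1 := by
    show f x ∈ Y.basicOpen (G : A)
    rw [Y.mem_basicOpen _ _ hz]
    exact IsLocalization.map_units L (⟨G, hG⟩ : P.primeCompl)
  letI : Algebra A Γ(Y, D.1) := (Y.presheaf.map (homOfLE (Y.basicOpen_le G)).op).hom.toAlgebra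
  haveI : IsLocalization.Away G Γ(Y, D.1) := hU₀.isLocalization_basicOpen G
  have hu : IsUnit (algebraMap A Γ(Y, D.1) g₂) :=
    isUnit_of_dvd_unit (map_dvd _ (dvd_mul_left g₂ g₁)) (IsLocalization.Away.algebraMap_isUnit G)
  have hker : f.ker.ideal D = Ideal.ofList (l.map (algebraMap A Γ(Y, D.1))) := by
    rw [← f.ker.map_ideal (U := D) (V := U) (Y.affineBasicOpen_le (V := U) G), ← Ideal.map_ofList]
    exact hT₂ _ hu
  haveI : IsClosedImmersion (f ∣_ D.1) := IsZariskiLocalAtTarget.restrict (P := @IsClosedImmersion) ‹_› D.1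
  refine ⟨D, hzD, inferInstance, l.map (algebraMap A Γ(Y, D.1)), by simp [l, hlen],
    ⟨hT₁ _ G inferInstance (dvd_mul_right g₁ g₂), fun htop => ?_⟩, (Scheme.Hom.ker_apply f D).symm.trans hker⟩
  have htop' : f.ker.ideal D = ⊤ := by
    rw [hker]
    exact (htop.trans (by rw [smul_eq_mul, Ideal.mul_top])).symm
  rw [Scheme.IdealSheafData.mem_support_iff_of_mem (U := D) hzD, htop', Scheme.mem_zeroLocus_iff] at hsupp
  exact hsupp 1 trivial (by simp [Scheme.basicOpen_of_isUnit _ isUnit_one, hzD])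

/-- Cutting a regular immersion by an effective Cartier divisor meeting it in one. -/
theorem regular_bc_cartier {X Y W M : Scheme.{u}} {F : W ⟶ M} {φ : Y ⟶ M} {f : X ⟶ Y} {ψ : X ⟶ W}
    [IsLocallyNoetherian M] [IsLocallyNoetherian Y] [IsClosedImmersion φ] [IsClosedImmersion f]
    (hsq : IsPullback f ψ φ F) (hF : Mor2.IsRegularClosedImmersion F) {d : ℕ}
    (hcF : FlatMod.IsFinLocFreeOfRank d (Omega.conormal F))
    (hφ : BlowUp.IsEffCartierIdeal φ.ker) (hψ : BlowUp.IsEffCartierIdeal (φ.ker.comap F)) :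
    Mor2.IsRegularClosedImmersion f ∧ FlatMod.IsFinLocFreeOfRank d (Omega.conormal f) := by
  haveI := hF.1
  refine regular_of_codim f (codim_of_stalks f fun x => ?_)
  have hm : φ (f x) = F (ψ x) := by
    rw [← Scheme.Hom.comp_apply, hsq.w, Scheme.Hom.comp_apply]
  obtain ⟨rs, hlen, hrs, hI⟩ := exists_regular_sI hF hcF (m := φ (f x)) ⟨ψ x, hm.symm⟩
  let A := M.presheaf.stalk (φ (f x))
  let B := Y.presheaf.stalk (f x)
  let g : A →+* B := (φ.stalkMap (f x)).hom
  refine ⟨rs.map g, by simp [hlen], ?_, by rw [ker_eq_comap hsq, Groth.L20.SeeNormal.sI_comap, hI, Ideal.map_ofList]⟩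
  obtain ⟨ε, hε, hεI⟩ := exists_sI_span hφ (φ (f x))
  obtain ⟨a, ha, haI⟩ := exists_sI_span hψ (ψ x)
  -- `ε` is regular on `A / (rs)`
  have key : ∀ (m : M) (_ : m = F (ψ x)) (rs : List (M.presheaf.stalk m)) (ε : M.presheaf.stalk m),
      sI F.ker m = Ideal.ofList rs → sI φ.ker m = Ideal.span {ε} →
        IsSMulRegular (M.presheaf.stalk m ⧸ Ideal.ofList rs) ε := by
    rintro m rfl rs ε hI hεI
    let σ := (F.stalkMap (ψ x)).hom
    have hσk : RingHom.ker σ = Ideal.ofList rs := by
      rw [Groth.L20.Infinitesimal.ker_stalkMap, hI]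
    rw [Groth.L20.SeeNormal.sI_comap, hεI, Ideal.map_span, Set.image_singleton] at haI
    obtain ⟨c, hc⟩ := Ideal.mem_span_singleton'.1 (haI.ge (Ideal.mem_span_singleton_self a))
    have hσε : σ ε ∈ nonZeroDivisors (W.presheaf.stalk (ψ x)) :=
      (mul_mem_nonZeroDivisors.1 (hc ▸ ha)).2
    intro p q hpq
    obtain ⟨p, rfl⟩ := Ideal.Quotient.mk_surjective p
    obtain ⟨q, rfl⟩ := Ideal.Quotient.mk_surjective q
    change Ideal.Quotient.mk _ (ε * p) = Ideal.Quotient.mk _ (ε * q) at hpq
    rw [Ideal.Quotient.eq, ← mul_sub, ← hσk, RingHom.mem_ker, map_mul] at hpq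
    rw [Ideal.Quotient.eq, ← hσk, RingHom.mem_ker]
    exact (mul_left_mem_nonZeroDivisors_eq_zero_iff hσε).1 hpq
  have hε2 : IsSMulRegular (A ⧸ Ideal.ofList rs) ε := key _ hm rs ε hI hεI
  have hk : RingHom.ker g = Ideal.span {ε} := by
    rw [Groth.L20.Infinitesimal.ker_stalkMap, hεI]
  have hw : IsWeaklyRegular A (rs ++ [ε]) := by
    rw [isWeaklyRegular_append_iff, isWeaklyRegular_singleton_iff]
    refine ⟨hrs.toIsWeaklyRegular, ?_⟩
    exact ((Submodule.quotEquivOfEq _ _ (Ideal.mul_top (Ideal.ofList rs))).isSMulRegular_congr ε).2 hε2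
  have hmem : ∀ r ∈ rs ++ [ε], r ∈ IsLocalRing.maximalIdeal A := by
    intro r hr
    have h1 : Ideal.ofList rs ≤ IsLocalRing.maximalIdeal A := fun y hy => by
      refine IsLocalRing.le_maximalIdeal ?_ hy
      intro htop
      exact hrs.2 (by rw [smul_eq_mul, Ideal.mul_top, htop])
    rcases List.mem_append.1 hr with h | h
    · exact h1 (Ideal.subset_span h)
    · rw [List.mem_singleton] at h
      subst h
      exact IsLocalRing.le_maximalIdeal (RingHom.ker_ne_top g) (hk.ge (Ideal.mem_span_singleton_self _))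
  have hp : IsWeaklyRegular A (ε :: rs) :=
    IsLocalRing.isWeaklyRegular_of_perm_of_subset_maximalIdeal hw
      (List.perm_append_singleton ε rs) hmem
  rw [isWeaklyRegular_cons_iff] at hp
  let σB : A ⧸ Ideal.span {ε} ≃+* B :=
    (Ideal.quotEquivOfEq hk.symm).trans (RingHom.quotientKerEquivOfSurjective (φ.stalkMap_surjective (f x)))
  let θ : QuotSMulTop ε A ≃+ B :=
    ((Submodule.quotEquivOfEq _ _ ((Submodule.ideal_span_singleton_smul ε (⊤ : Submodule A A)).symm.trans
      (Ideal.mul_top (Ideal.span {ε})))).toAddEquiv).trans σB.toAddEquiv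
  refine (θ.isWeaklyRegular_congr (as := rs) (bs := rs.map g) ?_).1 hp.2
  refine List.forall₂_map_right_iff.mpr (List.forall₂_same.mpr fun r _ z => ?_)
  obtain ⟨z, rfl⟩ := Submodule.Quotient.mk_surjective _ z
  show g (r * z) = g r * g z
  exact map_mul g r z

end Groth.L12.RR
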