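import Groth.Agent.L12.RR.Def.Localise
import Groth.Agent.L12.RR.Def.Sq
import Groth.Agent.L16.Devissage
import Groth.Agent.L17.DevissageGen
import Groth.Agent.L20.FibreFree
import Groth.Agent.L15.Ref.FreeLocus
import Groth.Agent.L18.ExtendCodimOne
import Groth.Agent.L04.RegularPd
import Groth.Agent.L21.Curve.NormalConnected
import Groth.Agent.L17.PushQCoh
import Groth.Agent.L18.AmplePull

/-!
# Classes of integral closed subschemes in the rational gamma filtration
-/

set_option autoImplicit false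
set_option maxHeartbeats 800000
set_option linter.style.haveILetI false
set_option linter.unusedSectionVars false
set_option backward.isDefEq.respectTransparency false
set_option backward.isDefEq.respectTransparency.types false

universe u

open CategoryTheory CategoryTheory.Limits AlgebraicGeometry TopologicalSpace RingTheory.Sequence LambdaRing

attribute [local instance] HasDerivedCategory.standard

noncomputable section

namespace Groth.L12.RR.Loc

open Groth.L20.SeeNormal (sI)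

/-- A regular sequence in a local ring spreads to a chart inside a given open. -/
theorem exists_chart_of_stalk {X Y : Scheme.{u}} (f : X ⟶ Y) [IsClosedImmersion f] [IsLocallyNoetherian Y] {d : ℕ}
    (x : X) {rs : List (Y.presheaf.stalk (f x))} (hlen : rs.length = d)
    (hrs : IsWeaklyRegular (Y.presheaf.stalk (f x)) rs) (hI : sI f.ker (f x) = Ideal.ofList rs) (O : Y.Opens)
    (hxO : f x ∈ O) :
    ∃ D : Y.affineOpens, f x ∈ D.1 ∧ D.1 ≤ O ∧ ∃ rs : List Γ(Y, D.1), rs.length = d ∧ IsRegular Γ(Y, D.1) rs ∧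
      f.ker.ideal D = Ideal.ofList rs := by
  classical
  have hsupp : f x ∈ f.ker.support := f.range_subset_ker_support ⟨x, rfl⟩
  obtain ⟨_, ⟨U₀, hU₀, rfl⟩, hz, hU₀O⟩ :=
    Y.isBasis_affineOpens.exists_subset_of_mem_open hxO O.2
  replace hU₀ : IsAffineOpen U₀ := hU₀
  let U : Y.affineOpens := ⟨U₀, hU₀⟩
  let A := Γ(Y, U₀)
  let L := Y.presheaf.stalk (f x)
  haveI : IsNoetherianRing A := IsLocallyNoetherian.component_noetherian U
  letI : Algebra A L := (Y.presheaf.germ U₀ (f x) hz).hom.toAlgebra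
  let P := (hU₀.primeIdealOf ⟨f x, hz⟩).asIdeal
  haveI : IsLocalization.AtPrime L P := hU₀.isLocalization_stalk ⟨f x, hz⟩
  haveI : IsNoetherianRing L := IsLocalization.isNoetherianRing P.primeCompl _ inferInstance
  have hIU : (f.ker.ideal U).map (algebraMap A L) = Ideal.ofList rs :=
    (Groth.L20.SeeNormal.sI_eq f.ker U hz).symm.trans hI
  have hm : Ideal.ofList rs ≤ IsLocalRing.maximalIdeal L :=
    hIU.ge.trans (Groth.L07.BlowLib.ideal_le_prime f.ker U hz hsupp)
  have hreg : IsRegular L rs := ⟨hrs, fun htop => (IsLocalRing.maximalIdeal.isMaximal L).ne_top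
    (top_le_iff.1 ((htop.trans (by rw [smul_eq_mul, Ideal.mul_top])).le.trans hm))⟩
  have hnum : ∀ y : L, ∃ v : A, Associated y (algebraMap A L v) := fun y => by
    obtain ⟨v, s, rfl⟩ := IsLocalization.exists_mk'_eq P.primeCompl y
    exact ⟨v, (IsLocalization.map_units L s).unit, by rw [IsUnit.unit_spec, IsLocalization.mk'_spec]⟩
  choose num hnum using hnum
  let l : List A := rs.map num
  have hspan : Ideal.ofList (l.map (algebraMap A L)) = Ideal.ofList rs := by
    refine le_antisymm (Ideal.span_le.2 fun y hy => ?_) (Ideal.span_le.2 fun y hy => ?_)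
    · simp only [Set.mem_setOf_eq, l, List.map_map, List.mem_map] at hy
      obtain ⟨z, hz, rfl⟩ := hy
      exact Ideal.mem_of_dvd _ (hnum z).dvd (Ideal.subset_span hz)
    · exact Ideal.mem_of_dvd _ (hnum y).dvd' (Ideal.subset_span (List.mem_map_of_mem (List.mem_map_of_mem hy)))
  have hl : IsWeaklyRegular L (l.map (algebraMap A L)) := by
    rw [← List.ofFn_get (l.map (algebraMap A L))]
    exact isWeaklyRegular_of_span_eq hreg (by simp [l]) _ (by rw [Set.range_list_get]; exact hspan)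
  obtain ⟨g₁, hg₁, hT₁⟩ := Groth.L07.RegSeq.exists_away_isWeaklyRegular l P L hl
  obtain ⟨g₂, hg₂, hT₂⟩ := Groth.L07.BlowLib.exists_away_map_eq (I := f.ker.ideal U) (J := Ideal.ofList l) P L (by
    rw [Ideal.map_ofList, hspan, hIU])
  let G : A := g₁ * g₂
  have hG : G ∈ P.primeCompl := mul_mem hg₁ hg₂
  let D : Y.affineOpens := Y.affineBasicOpen (U := U) G
  have hzD : f x ∈ D.1 := by
    show f x ∈ Y.basicOpen (G : A)
    rw [Y.mem_basicOpen _ _ hz]
    exact IsLocalization.map_units L (⟨G, hG⟩ : P.primeCompl)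
  letI : Algebra A Γ(Y, D.1) := (Y.presheaf.map (homOfLE (Y.basicOpen_le G)).op).hom.toAlgebra
  haveI : IsLocalization.Away G Γ(Y, D.1) := hU₀.isLocalization_basicOpen G
  have hu : IsUnit (algebraMap A Γ(Y, D.1) g₂) :=
    isUnit_of_dvd_unit (map_dvd _ (dvd_mul_left g₂ g₁)) (IsLocalization.Away.algebraMap_isUnit G)
  have hker : f.ker.ideal D = Ideal.ofList (l.map (algebraMap A Γ(Y, D.1))) := by
    rw [← f.ker.map_ideal (U := D) (V := U) (Y.affineBasicOpen_le (V := U) G), ← Ideal.map_ofList]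
    exact hT₂ _ hu
  haveI : IsClosedImmersion (f ∣_ D.1) := IsZariskiLocalAtTarget.restrict (P := @IsClosedImmersion) ‹_› D.1
  refine ⟨D, hzD, (Y.basicOpen_le G).trans hU₀O, l.map (algebraMap A Γ(Y, D.1)), by simp [l, hlen],
    ⟨hT₁ _ G inferInstance (dvd_mul_right g₁ g₂), fun htop => ?_⟩, hker⟩
  have htop' : f.ker.ideal D = ⊤ := by
    rw [hker]
    exact (htop.trans (by rw [smul_eq_mul, Ideal.mul_top])).symm
  rw [Scheme.IdealSheafData.mem_support_iff_of_mem (U := D) hzD, htop', Scheme.mem_zeroLocus_iff] at hsupp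
  exact hsupp 1 trivial (by simp [Scheme.basicOpen_of_isUnit _ isUnit_one, hzD])

/-- At the generic point of an integral closed subscheme the ideal is maximal. -/
theorem sI_ker_genericPoint {X Z : Scheme.{u}} [IsLocallyNoetherian X] (z : Z ⟶ X) [IsClosedImmersion z] [IsIntegral Z] :
    sI z.ker (z (genericPoint Z)) = IsLocalRing.maximalIdeal (X.presheaf.stalk (z (genericPoint Z))) := by
  let η := genericPoint Z
  obtain ⟨_, ⟨U₀, hU₀, rfl⟩, hz, -⟩ :=
    X.isBasis_affineOpens.exists_subset_of_mem_open (Set.mem_univ (z η)) isOpen_univ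
  replace hU₀ : IsAffineOpen U₀ := hU₀
  letI : Algebra Γ(X, U₀) (X.presheaf.stalk (z η)) := (X.presheaf.germ U₀ (z η) hz).hom.toAlgebra
  haveI := hU₀.isLocalization_stalk ⟨z η, hz⟩
  letI : Field (Z.presheaf.stalk η) := inferInstanceAs (Field Z.functionField)
  let P := (hU₀.primeIdealOf ⟨z η, hz⟩).asIdeal
  have hP : z.ker.ideal ⟨U₀, hU₀⟩ = P := by
    ext a
    rw [← IsLocalization.AtPrime.under_maximalIdeal (X.presheaf.stalk (z η)) P, Ideal.mem_comap,
      Scheme.Hom.ker_apply, RingHom.mem_ker]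
    show _ ↔ X.presheaf.germ U₀ (z η) hz a ∈ IsLocalRing.maximalIdeal _
    rw [IsLocalRing.mem_maximalIdeal, mem_nonunits_iff]
    haveI : Nonempty ↥(z ⁻¹ᵁ U₀) := ⟨⟨η, hz⟩⟩
    rw [← map_eq_zero_iff _ (germ_injective_of_isIntegral Z η (U := z ⁻¹ᵁ U₀) hz),
      ← Scheme.Hom.germ_stalkMap_apply z U₀ η hz a]
    exact ⟨fun h hu => (hu.map (z.stalkMap η).hom).ne_zero h, fun h => by
      by_contra h0
      exact h (isUnit_of_map_unit (z.stalkMap η).hom _ (isUnit_iff_ne_zero.2 h0))⟩
  rw [Groth.L20.SeeNormal.sI_eq z.ker ⟨U₀, hU₀⟩ hz, hP]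
  exact IsLocalization.AtPrime.map_eq_maximalIdeal P _

/-- Generic freeness on an integral scheme. -/
theorem exists_free_generic {Z : Scheme.{u}} [IsLocallyNoetherian Z] [IsIntegral Z] {G : Z.Modules} (hG : Coh.IsCoh G) :
    ∃ (W : Z.Opens) (n : ℕ), genericPoint Z ∈ W ∧ Nonempty (G.restrict W.ι ≅ FlatMod.freeMod (↑W) n) := by
  letI : Field (Z.presheaf.stalk (genericPoint Z)) := inferInstanceAs (Field Z.functionField)
  exact Groth.L20.FibreFree.exists_free_nhd G (Groth.L15.Ref.isFP_of_isCoh hG) _ inferInstance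

variable {X : Scheme.{u}} [IsNoetherian X] [ConnectedSpace ↥X]

/-- The direct image from an integral closed subscheme, up to classes supported on smaller closed sets. -/
theorem mem_ratF_push (hX : ∃ L : X.Modules, CohB1.IsAmple L)
    (hreg : ∀ x : X, IsRegularLocalRing (X.presheaf.stalk x)) {Z : Scheme.{u}} (z : Z ⟶ X) [IsClosedImmersion z]
    [IsIntegral Z] {n : ℕ} (hn : (n : WithBot ℕ∞) ≤ ringKrullDim (X.presheaf.stalk (z (genericPoint Z))))
    (ih : ∀ T : Closeds X, (T : Set X) ⊂ Set.range z → Groth.L13.KcohNilp.S (T : Set X) ≤ ratF (X := X) n)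
    {G : Z.Modules} (hG : Coh.IsCoh G) :
    KZero.clSub (fun M : X.Modules => Coh.IsCoh M) ((Coh.push z).obj G) ∈ ratF (X := X) n := by
  classical
  haveI : IsLocallyNoetherian Z := LocallyOfFiniteType.isLocallyNoetherian z
  haveI : IsIntegral X := Groth.L21.NormalTotal.isIntegral_of_connected fun x => by
    haveI := hreg x
    exact Groth.L01.isDomain_of_regular _
  let η := genericPoint Z
  haveI := hreg (z η)
  obtain ⟨m, hm⟩ : ∃ m : ℕ, ringKrullDim (X.presheaf.stalk (z η)) = m := by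
    obtain ⟨m, hm⟩ := WithBot.ne_bot_iff_exists.1 (ringKrullDim_ne_bot (R := X.presheaf.stalk (z η)))
    have hfin : ringKrullDim (X.presheaf.stalk (z η)) < ⊤ := ringKrullDim_lt_top
    rw [← hm] at hfin ⊢
    lift m to ℕ using (fun h => by rw [h] at hfin; exact lt_irrefl _ hfin)
    exact ⟨m, rfl⟩
  have hnm : n ≤ m := by rw [hm] at hn; exact_mod_cast hn
  obtain ⟨rs, hlen, hrs, hspan⟩ := Groth.L04.exists_regular_generators hm
  obtain ⟨W, r, hηW, ⟨eW⟩⟩ := exists_free_generic hG
  let O : X.Opens := ⟨(z '' (W : Set Z)ᶜ)ᶜ, (z.isClosedEmbedding.isClosedMap _ W.2.isClosed_compl).isOpen_compl⟩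
  have hηO : z η ∈ O := by
    rintro ⟨w, hw, he⟩
    exact hw (z.isClosedEmbedding.injective he ▸ hηW)
  obtain ⟨D, hηD, hDO, ls, hls, hlreg, hker⟩ := exists_chart_of_stalk z η hlen hrs.toIsWeaklyRegular
    ((sI_ker_genericPoint z).trans hspan.symm) O hηO
  let T : Closeds X := ⟨Set.range z \ (D.1 : Set X), z.isClosedEmbedding.isClosed_range.sdiff D.1.2⟩
  have hT : (T : Set X) ⊂ Set.range z :=
    ⟨Set.diff_subset, fun h => (h ⟨η, rfl⟩).2 hηD⟩
  let U : X.Opens := ⟨(T : Set X)ᶜ, T.isClosed.isOpen_compl⟩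
  have hDU : D.1 ≤ U := fun y hy h => h.2 hy
  have hpre : ∀ w : Z, z w ∈ U → z w ∈ D.1 := fun w hw => by
    by_contra h
    exact hw ⟨⟨w, rfl⟩, h⟩
  haveI : Nonempty (U : Scheme.{u}) := ⟨⟨z η, hDU hηD⟩⟩
  haveI : IsIntegral (U : Scheme.{u}) := isIntegral_of_isOpenImmersion U.ι
  haveI : Nonempty (z ⁻¹ᵁ U : Scheme.{u}) := ⟨⟨η, hDU hηD⟩⟩
  haveI : IsIntegral (z ⁻¹ᵁ U : Scheme.{u}) := isIntegral_of_isOpenImmersion (z ⁻¹ᵁ U).ι
  haveI : IsNoetherian (U : Scheme.{u}) := Groth.L29.KcohLoc.isNoetherian_open U.ι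
  let f := z ∣_ U
  haveI : IsClosedImmersion f := IsZariskiLocalAtTarget.restrict (P := @IsClosedImmersion) ‹_› U
  haveI : IsLocallyNoetherian (z ⁻¹ᵁ U : Scheme.{u}) := LocallyOfFiniteType.isLocallyNoetherian f
  haveI : CompactSpace (z ⁻¹ᵁ U : Scheme.{u}) := QuasiCompact.compactSpace_of_compactSpace f
  haveI : AlgebraicGeometry.IsNoetherian (z ⁻¹ᵁ U : Scheme.{u}) := AlgebraicGeometry.IsNoetherian.mk
  let D' : (U : Scheme.{u}).affineOpens :=
    ⟨U.ι ⁻¹ᵁ D.1, D.2.preimage_of_isOpenImmersion U.ι (by rw [Scheme.Opens.opensRange_ι]; exact hDU)⟩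
  haveI : IsIso (U.ι.app D.1) := U.ι.isIso_app _ (by rw [Scheme.Opens.opensRange_ι]; exact hDU)
  let e := (asIso (U.ι.app D.1)).commRingCatIsoToRingEquiv
  have hk : f.ker.ideal D' = Ideal.ofList (ls.map e) := by
    rw [ker_eq_comap (isPullback_morphismRestrict z U), Groth.L22.Ideals.comap_ideal U.ι z.ker D D' le_rfl,
      Scheme.Hom.appLE_eq_app, hker, Ideal.map_ofList]
    rfl
  have hcod : RegImm.IsRegularImmersionOfCodim RegImm.Kind.regular m f := by
    refine ⟨inferInstance, fun w => ⟨D', (by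
      show U.ι (f w) ∈ D.1
      rw [← Scheme.Hom.comp_apply, morphismRestrict_ι]
      exact hpre w.1 w.2), IsZariskiLocalAtTarget.restrict (P := @IsClosedImmersion) ‹_› _,
      ls.map e, by rw [List.length_map, hls], ?_, (Scheme.Hom.ker_apply f D').symm.trans hk⟩⟩
    exact (e.toAddEquiv.isRegular_congr (List.forall₂_map_right_iff.2
      (List.forall₂_same.2 fun r _ x => map_mul e r x))).1 hlreg
  obtain ⟨hf, hC⟩ := regular_of_codim f hcod
  have hle : z ⁻¹ᵁ U ≤ W := fun w hw => by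
    by_contra h
    exact hDO (hpre w hw) ⟨w, h, rfl⟩
  let ι' := (z ⁻¹ᵁ U).ι
  let G₀ := (Scheme.Modules.restrictFunctor ι').obj G
  have hG₀ : FlatMod.IsFinLocFree G₀ := by
    let k := Z.homOfLE hle
    refine Groth.L29.LocFree.of_iso ?_ (Groth.L29.LocFree.pullback k
      (Groth.L18.KRRAmple.isFinLocFree_freeMod (X := (W : Scheme.{u})) r))
    exact ((Scheme.Modules.restrictFunctorIsoPullback k).app _).symm ≪≫
      (Scheme.Modules.restrictFunctor k).mapIso eW.symm ≪≫
      (Scheme.Modules.restrictFunctorComp k W.ι).symm.app G ≪≫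
      (Scheme.Modules.restrictFunctorCongr (Z.homOfLE_ι hle)).app G
  obtain ⟨L, hL⟩ := hX
  have hUa : CohB1.IsAmple ((Scheme.Modules.pullback U.ι).obj L) :=
    Groth.L18.Ample.isAmple_pullback_of_isInducing U.ι U.ι.isOpenEmbedding.isInducing hL
  refine mem_ratF_of_open hreg ⟨L, hL⟩ U.ι f hf hC ⟨_, hUa⟩
    ⟨_, Groth.L18.Ample.isAmple_pullback_of_isInducing f f.isClosedEmbedding.isInducing hUa⟩ (T : Set X) ?_ hnm
    (ih T hT) hG₀ (Groth.L16.CohClosedPush.isCoh_push z hG) ?_
  · rw [Scheme.Opens.range_ι]; rfl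
  · exact (Groth.L17.PushQCoh.pushRestrictIso z U.ι ι' f
      (by rw [Scheme.Opens.opensRange_ι, Scheme.Opens.opensRange_ι]) (morphismRestrict_ι z U)).app G

/-- Coherent classes supported in codimension at least `n` lie in the rational `n`-th step. -/
theorem S_le_ratF (hX : ∃ L : X.Modules, CohB1.IsAmple L)
    (hreg : ∀ x : X, IsRegularLocalRing (X.presheaf.stalk x)) (n : ℕ) (T : Closeds X)
    (hT : ∀ t ∈ (T : Set X), (n : WithBot ℕ∞) ≤ ringKrullDim (X.presheaf.stalk t)) :
    Groth.L13.KcohNilp.S (T : Set X) ≤ ratF (X := X) n := by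
  induction T using WellFoundedLT.induction with
  | ind T ih =>
  refine (AddSubgroup.closure_le _).2 ?_
  rintro _ ⟨M, hM, hsM, rfl⟩
  refine Groth.L16.Devissage.devissage_ideals (P := fun M => Coh.IsCoh M → CohB1.support M ⊆ (T : Set X) →
    KZero.clSub (fun M : X.Modules => Coh.IsCoh M) M ∈ ratF (X := X) n) ?_ ?_ ?_ ?_ hM hM hsM
  · rintro M N ⟨e⟩ hP hN hsN
    have hM' := Groth.L16.CohSupport.isCoh_of_iso e.symm hN
    rw [← Groth.L13.KcohNilp.cl_iso e hM']
    exact hP hM' ((Groth.L17.KilledUnit.support_congr e).le.trans hsN)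
  · intro M hz _ _
    rw [Groth.L29.KSub.clSub_zero (fun M : X.Modules => Coh.IsCoh M) hz (Groth.L29.DC.RHomC.isCoh_of_isZero hz)]
    exact zero_mem _
  · intro S hS h1 h2 h3 hP1 hP3 _ hs2
    have hsupp := Groth.L16.Devissage.support_union hS
    rw [Groth.L29.KSub.clSub_shortExact (fun M : X.Modules => Coh.IsCoh M) hS h1 h2 h3]
    exact add_mem (hP1 h1 (hsupp.1.trans hs2)) (hP3 h3 (hsupp.2.trans hs2))
  · intro Z z hz hZ I ι hι hI hcoh hsupp
    haveI := hz
    haveI := hZ
    haveI : IsLocallyNoetherian Z := LocallyOfFiniteType.isLocallyNoetherian z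
    by_cases hI0 : IsZero I
    · rw [Groth.L29.KSub.clSub_zero (fun M : X.Modules => Coh.IsCoh M) ((Coh.push z).map_isZero hI0) hcoh]
      exact zero_mem _
    have hrange : Set.range z ⊆ (T : Set X) :=
      (Groth.L17.DevissageGen.range_subset_support z I ι hI0).trans hsupp
    have hIc : Coh.IsCoh I := by
      haveI : Coh.IsQCoh I := hI
      exact Groth.L16.Rees.RelVanish.isCoh_of_mono ι Groth.L16.CohClosedPush.isCoh_structure
    refine mem_ratF_push hX hreg z (hT _ (hrange ⟨_, rfl⟩)) (fun T' hT' => ?_) hIc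
    exact ih T' (SetLike.coe_ssubset_coe.1 (hT'.trans_subset hrange))
      fun t ht => hT t (hrange (hT'.subset ht))

end Groth.L12.RR.Loc
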