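import Groth.Agent.L12.RR.Def.ExcDiv
import Groth.Agent.L12.RR.Def.CycleClass
import Groth.Agent.L12.RR.Def.Ample
import Groth.Agent.L12.KBunQ.ProjBasis
import Groth.Agent.L12.KPushCoh.Push
import Groth.Agent.L05.BlowRegular.Main
import Groth.Agent.L29.K.KcohLoc
import Groth.Agent.L16.ProjSpace.Basic
import Groth.Agent.S4991

/-!
# The sequence of `K`-groups of a blow-up
-/

set_option autoImplicit false
set_option maxHeartbeats 800000
set_option linter.style.haveILetI false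
set_option linter.unusedSectionVars false
set_option backward.isDefEq.respectTransparency false
set_option backward.isDefEq.respectTransparency.types false

universe u

open CategoryTheory CategoryTheory.Limits AlgebraicGeometry TopologicalSpace

attribute [local instance] HasDerivedCategory.standard

noncomputable section

namespace Groth.L12.RR

open Groth.L12.Kvb (KR toKR)
open Groth.L12.KBunQ (kc kc_iso KR_hom_ext Setup)
open Groth.L12.KBun (Atlas)

variable {X Y X₁ Y₁ : Scheme.{u}}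

/-- The identity is a regular immersion with conormal rank zero. -/
theorem regular_id (Z : Scheme.{u}) :
    Mor2.IsRegularClosedImmersion (𝟙 Z) ∧ FlatMod.IsFinLocFreeOfRank 0 (Omega.conormal (𝟙 Z)) := by
  have hchart : ∀ z : Z, ∃ U : Z.affineOpens, z ∈ U.1 ∧ (𝟙 Z : Z ⟶ Z).ker.ideal U = Ideal.ofList [] := fun z => by
    obtain ⟨_, ⟨U, hU, rfl⟩, hz, -⟩ := Z.isBasis_affineOpens.exists_subset_of_mem_open (Set.mem_univ z) isOpen_univ
    refine ⟨⟨U, hU⟩, hz, ?_⟩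
    rw [IsClosedImmersion.isIso_iff_ker_eq_bot.1 (inferInstance : IsIso (𝟙 Z)), Ideal.ofList_nil]
    rfl
  refine ⟨⟨inferInstance, fun z => ?_⟩, fun z => ?_⟩
  · obtain ⟨U, hz, hU⟩ := hchart z
    haveI : Nonempty U.1 := ⟨⟨z, hz⟩⟩
    refine ⟨U.1, U.2, hz, [], ⟨RingTheory.Sequence.IsWeaklyRegular.nil _ _, ?_⟩, hU⟩
    simp
  · obtain ⟨U, hz, hU⟩ := hchart z
    obtain ⟨c, hc⟩ := exists_chart_of_seq (𝟙 Z) U (RingTheory.Sequence.IsWeaklyRegular.nil _ _) hU
    obtain ⟨e⟩ := Groth.L12.FinCov.nonempty_restrict_iso_free (b := c.cl) c.isBasisS_cl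
    exact ⟨_, show z ∈ (𝟙 Z) ⁻¹ᵁ c.U.1 by rw [hc]; exact hz, ⟨e⟩⟩

/-- Pushing forward along the identity. -/
theorem pushK_id [IsNoetherian X] (hX : _root_.KRR.HasEnoughLocFree X) (z : KR X) :
    pushK (𝟙 X) (regular_id X).1 hX z = z := by
  refine DFunLike.congr_fun (KR_hom_ext (φ := pushK (𝟙 X) (regular_id X).1 hX) (ψ := AddMonoidHom.id _)
    fun F hF => ?_) z
  show pushK (𝟙 X) (regular_id X).1 hX (kc X F) = kc X F
  let e : F ≅ (Scheme.Modules.pushforward (𝟙 X)).obj F := ((Scheme.Modules.pushforwardId X).app F).symm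
  rw [pushK_kc (𝟙 X) (regular_id X).1 hX hF, pd_vb hX (Groth.L29.LocFree.of_iso e hF), ← kc_iso e hF]

/-- Self intersection of an effective divisor. -/
theorem pull_pushK_self {S : Scheme.{u}} [IsAffine S] [IsNoetherian X₁] [IsNoetherian Y₁]
    {q : Y₁ ⟶ S} (hq : _root_.KRR.IsQProjOver q) {f₁ : X₁ ⟶ Y₁} (hf₁ : Mor2.IsRegularClosedImmersion f₁)
    (hd₁ : FlatMod.IsFinLocFreeOfRank 1 (Omega.conormal f₁)) {q' : X₁ ⟶ S} (hq' : _root_.KRR.IsQProjOver q')
    (hYe : _root_.KRR.HasEnoughLocFree Y₁) (hXe : _root_.KRR.HasEnoughLocFree X₁) (z : KR X₁) :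
    pull f₁ (pushK f₁ hf₁ hYe z) = (1 - kc X₁ (Omega.conormal f₁)) * z := by
  haveI := hf₁.1
  have hsq : IsPullback (𝟙 X₁) (𝟙 X₁) f₁ f₁ := IsKernelPair.id_of_mono f₁
  have hz : Groth.L12.KBunQ.kc X₁ (Omega.conormal (𝟙 X₁)) = 0 :=
    Groth.L12.KBunQ.kc_zero (Groth.L12.Kvb.isZero_of_rank_zero (regular_id X₁).2)
  rw [excess_KR (m := 1) (d₁ := 0) hq hq' hsq hf₁ (regular_id X₁).1 hd₁ (regular_id X₁).2 hYe hXe z, pushK_id,
    pull_id, pull_id, hz, sub_zero]
  congr 1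
  rw [lamA, Finset.sum_range_succ, Finset.sum_range_one, LambdaRing.LambdaOps.lam_zero,
    LambdaRing.LambdaOps.lam_one]
  ring

/-- A blow-up of a quasi-projective scheme is quasi-projective. -/
theorem exists_qproj_blowUp {S : Scheme.{u}} [IsAffine S] [IsNoetherian Y] {qY : Y ⟶ S}
    (hqY : _root_.KRR.IsQProjOver qY) {I : Y.IdealSheafData} {φ : Y₁ ⟶ Y} (hφ : BlowUp.IsBlowUp φ I) :
    IsNoetherian Y₁ ∧ _root_.KRR.IsQProjOver (φ ≫ qY) := by
  have hfg : BlowUp.IsFiniteTypeIdeal I := fun U => by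
    haveI : IsNoetherianRing Γ(Y, U.1) := IsLocallyNoetherian.component_noetherian U
    exact (isNoetherianRing_iff_ideal_fg _).1 inferInstance _
  have hproj := Groth.L06.BlowProj.isProjective_of_isBlowUp I hfg φ hφ
  haveI : IsProper φ := Groth.L27.ProjProper.isProper_of_isProjective hproj
  haveI : IsLocallyNoetherian Y₁ := LocallyOfFiniteType.isLocallyNoetherian φ
  haveI : CompactSpace Y₁ := QuasiCompact.compactSpace_of_compactSpace φ
  haveI := lft_of_qproj hqY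
  obtain ⟨L, hL⟩ := exists_ample_of_projective hproj (exists_ample_of_qproj hqY)
  obtain ⟨n, i, hi, -, he⟩ := Groth.L16.ProjEmb.exists_immersion (φ ≫ qY) hL
  exact ⟨{}, n, i, hi, he⟩

/-- A closed subscheme of a quasi-projective scheme is quasi-projective. -/
theorem qproj_closed {S : Scheme.{u}} {qY : Y ⟶ S} (hqY : _root_.KRR.IsQProjOver qY) (f : X ⟶ Y)
    [IsImmersion f] : _root_.KRR.IsQProjOver (f ≫ qY) := by
  obtain ⟨n, i, hi, he⟩ := hqY
  haveI := hi
  exact ⟨n, f ≫ i, inferInstance, by rw [Category.assoc, he]⟩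

/-- The structure map of an atlas is smooth. -/
theorem Atlas.smooth' {π : Y ⟶ X} {O1 : Y.Modules} {r : ℕ} (A : Atlas π O1 r) : Smooth π := by
  refine IsZariskiLocalAtTarget.of_iSup_eq_top (P := @Smooth) A.V
    (top_le_iff.1 fun y _ => Opens.mem_iSup.2 ⟨y, A.mem y⟩) fun y => ?_
  let ε : CohB1.ProjSpace r Γ(X, A.V y) ≅ (π ⁻¹ᵁ A.V y).toScheme :=
    IsOpenImmersion.isoOfRangeEq (A.h y) (π ⁻¹ᵁ A.V y).ι (by rw [Scheme.Opens.range_ι, ← A.range y]; rfl)
  have e : π ∣_ A.V y = ε.inv ≫ CohB1.ProjSpace.toSpec r Γ(X, A.V y) ≫ (A.affine y).isoSpec.inv := by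
    rw [← cancel_mono (A.V y).ι, ← cancel_epi ε.hom]
    simp only [Category.assoc, Iso.hom_inv_id_assoc, morphismRestrict_ι]
    rw [IsOpenImmersion.isoOfRangeEq_hom_fac_assoc]
    exact A.comp y
  rw [e]
  haveI : Smooth (CohB1.ProjSpace.toSpec r Γ(X, A.V y)) := SmoothOfRelativeDimension.smooth r _
  infer_instance

/-- Localisation, in terms of the rings of bundles. -/
theorem exists_pushK_eq [IsNoetherian X] [IsNoetherian Y] (hXreg : ∀ x : X, IsRegularLocalRing (X.presheaf.stalk x))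
    (hXe : _root_.KRR.HasEnoughLocFree X) (hYreg : ∀ y : Y, IsRegularLocalRing (Y.presheaf.stalk y))
    (hYe : _root_.KRR.HasEnoughLocFree Y) (f : X ⟶ Y) (hf : Mor2.IsRegularClosedImmersion f)
    {U : Scheme.{u}} [IsNoetherian U] (j : U ⟶ Y) [IsOpenImmersion j] (hj : Set.range j = (Set.range f)ᶜ)
    {y : KR Y} (hy : pull j y = 0) : ∃ x : KR X, pushK f hf hYe x = y := by
  haveI := hf.1
  haveI := Groth.L17.ClosedPush.preservesColimits_push f
  haveI : (Scheme.Modules.pushforward f).Additive := inferInstance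
  haveI : PreservesFiniteColimits (Scheme.Modules.pushforward f) := inferInstance
  haveI : PreservesFiniteLimits (Scheme.Modules.pushforward f) := inferInstance
  have hi : ∀ M : X.Modules, Coh.IsCoh M → Coh.IsCoh ((Scheme.Modules.pushforward f).obj M) :=
    fun M hM => Groth.L16.CohClosedPush.isCoh_push f hM
  have hr : ∀ M : Y.Modules, Coh.IsCoh M → Coh.IsCoh ((Scheme.Modules.restrictFunctor j).obj M) :=
    fun M hM => Groth.L29.DC.RHomC.isCoh_restrict j hM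
  obtain ⟨-, hker⟩ := Groth.L29.KcohLoc.main j (Set.range f) hj f rfl hi hr
  have hres : SGA6.mapSub (Scheme.Modules.restrictFunctor j) _ _ hr = Loc.resK j :=
    Groth.L29.KSub.hom_ext fun M hM => by rw [Groth.L29.KcohLoc.mapSub_cl _ hr hM, Loc.resK_cl j hM]
  obtain ⟨v, hv⟩ := hker.le (x := Loc.dlt Y y) (by
    rw [AddMonoidHom.mem_ker, hres, Loc.resK_dlt, hy, map_zero])
  obtain ⟨x, rfl⟩ := (Loc.dlt_bijective hXreg hXe).2 v
  refine ⟨x, (Loc.dlt_bijective hYreg hYe).1 ?_⟩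
  rw [← hv]
  refine DFunLike.congr_fun (KR_hom_ext (φ := (Loc.dlt Y).comp (pushK f hf hYe))
    (ψ := (SGA6.mapSub (Scheme.Modules.pushforward f) _ _ hi).comp (Loc.dlt X)) fun G hG => ?_) x
  show Loc.dlt Y (pushK f hf hYe (kc X G)) = SGA6.mapSub (Scheme.Modules.pushforward f) _ _ hi (Loc.dlt X (kc X G))
  rw [Loc.dlt_pushK f hf hYe hG, Loc.dlt_kc hG,
    Groth.L29.KcohLoc.mapSub_cl _ hi (Groth.L16.NegPow.isCoh_of_isFinLocFree hG)]

/-- Restriction to an open of a regular scheme is surjective. -/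
theorem surjective_pull_open [IsNoetherian Y] (hYreg : ∀ y : Y, IsRegularLocalRing (Y.presheaf.stalk y))
    (hYe : _root_.KRR.HasEnoughLocFree Y) {U : Scheme.{u}} [IsNoetherian U] (j : U ⟶ Y) [IsOpenImmersion j]
    (z : KR U) : ∃ y : KR Y, Loc.dlt U (pull j y) = Loc.dlt U z := by
  haveI := Groth.L29.KcohLoc.quasiCompact_open j
  have hsurj : Function.Surjective (Loc.resK j) := fun w => Groth.L29.KcohLoc.mem_of_cl (Loc.resK j).range (fun F hF => by
    refine ⟨KZero.clSub (fun M : Y.Modules => Coh.IsCoh M) (Groth.L29.KcohLoc.ext j F hF), ?_⟩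
    rw [Loc.resK_cl j (Groth.L29.KcohLoc.isCoh_ext j F hF)]
    exact Groth.L13.KcohNilp.cl_iso (Groth.L29.KcohLoc.extIso j F hF)
      (Groth.L29.DC.RHomC.isCoh_restrict j (Groth.L29.KcohLoc.isCoh_ext j F hF))) w
  obtain ⟨w, hw⟩ := hsurj (Loc.dlt U z)
  obtain ⟨y, rfl⟩ := (Loc.dlt_bijective hYreg hYe).2 w
  exact ⟨y, by rw [← Loc.resK_dlt, hw]⟩

/-- What is killed by `1 - ℓ` is a multiple of `λ_{-1}` of the excess class. -/
theorem exists_of_one_sub_mul_eq_zero [IsNoetherian X] [IsNoetherian X₁] {f : X ⟶ Y}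
    (hf : Mor2.IsRegularClosedImmersion f)
    {r : ℕ} (hd : FlatMod.IsFinLocFreeOfRank (r + 1) (Omega.conormal f)) {φ : Y₁ ⟶ Y}
    (hφ : BlowUp.IsBlowUp φ f.ker) {f₁ : X₁ ⟶ Y₁} {ψ : X₁ ⟶ X} (hsq : IsPullback f₁ ψ φ f)
    (hd₁ : FlatMod.IsFinLocFreeOfRank 1 (Omega.conormal f₁)) {z : KR X₁}
    (hz : (1 - kc X₁ (Omega.conormal f₁)) * z = 0) :
    ∃ b : KR X, lamA r (pull ψ (kc X (Omega.conormal f)) - kc X₁ (Omega.conormal f₁)) * pull ψ b = z := by
  haveI := hf.1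
  obtain ⟨A⟩ := exists_atlas_exceptional hf hd hφ hsq
  obtain ⟨q, hq⟩ := exists_conormal_epi hsq
  have hO := Groth.L22.GenRank.isInvertible_of_rank_one hd₁
  obtain ⟨L, hL, hLO⟩ := Groth.L08.Cube.exists_inverse hO
  have D : Setup ψ q L r := ⟨hq, hd₁, hd, hL, hLO.map fun i => Groth.L00.Tensor.tensorComm _ _ ≪≫ i⟩
  have hE := Groth.L18.KRRAmple.isFinLocFree_of_rank hd
  have hW := D.vbW
  haveI : Coh.IsQCoh (Omega.conormal f) := Groth.L29.DC.PCQCoh.isQCoh_of_isFinLocFree hE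
  haveI : Coh.IsQCoh (Omega.conormal f₁) :=
    Groth.L29.DC.PCQCoh.isQCoh_of_isFinLocFree (Groth.L18.KRRAmple.isFinLocFree_of_rank hd₁)
  haveI : Coh.IsQCoh (Groth.L12.KBun.tautSC q).X₁ := Groth.L29.DC.PCQCoh.isQCoh_of_isFinLocFree hW
  let g := pull ψ
  let l := kc X₁ (Omega.conormal f₁)
  have hg : ∀ M, FlatMod.IsFinLocFree M → g (kc X M) = kc X₁ ((Scheme.Modules.pullback ψ).obj M) :=
    fun M hM => pull_kc ψ hM
  let W := (Groth.L12.KBun.tautSC q).X₁
  have hWc : g (kc X (Omega.conormal f)) - l = kc X₁ W := by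
    rw [hg _ hE]
    exact sub_eq_iff_eq_add.2 (Groth.L12.KBunQ.kc_shortExact (Groth.L12.KBunQ.shortExact_tautSC hq) hW
      (Groth.L29.LocFree.pullback ψ hE) (Groth.L18.KRRAmple.isFinLocFree_of_rank hd₁))
  have hlam : ∀ i, LambdaRing.LambdaOps.lam i (kc X₁ W) = kc X₁ (Groth.L12.ExtSh.wedgeMod W i) :=
    fun i => Groth.L12.Kvb.lam_cl hW (Groth.L12.ExtSh.isExtPow_wedgeMod W i)
  let w : ℕ → KR X₁ := fun i => LambdaRing.LambdaOps.lam i (kc X₁ W)
  let c : ℕ → KR X := fun i => kc X (Groth.L12.ExtSh.wedgeMod (Omega.conormal f) i)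
  have hw : ∀ i, w (i + 1) = g (c (i + 1)) - w i * l := fun i => by
    simp only [w, c, hlam]
    rw [D.pull_wedge g hg i, add_sub_cancel_right]
  obtain ⟨a, ha, hs⟩ := exists_coeffs g l w c (LambdaRing.LambdaOps.lam_zero _) r fun i _ => hw i
  have hS : lamA r (g (kc X (Omega.conormal f)) - l) = ∑ j ∈ Finset.range (r + 1), g (a j) * l ^ j := by
    rw [hWc]; exact hs
  have hzero : w (r + 1) = 0 := by
    simp only [w, hlam]
    exact Groth.L12.KBunQ.kc_zero (Groth.L12.KBunQ.isZero_wedge_of_rank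
      (Groth.L12.KBunQ.rank_taut hq hd₁ hd) (Nat.lt_succ_self r))
  let Λ : KR X := 1 + ∑ i ∈ Finset.range (r + 1), (-1 : KR X) ^ (i + 1) * c (i + 1)
  have hΛ : (1 - l) * ∑ j ∈ Finset.range (r + 1), g (a j) * l ^ j = g Λ := by
    rw [← hs]
    have h1 : ∑ i ∈ Finset.range (r + 2), (-1 : KR X₁) ^ i * w i = ∑ i ∈ Finset.range (r + 1), (-1 : KR X₁) ^ i * w i := by
      rw [Finset.sum_range_succ, hzero, mul_zero, add_zero]
    have h2 : ∑ i ∈ Finset.range (r + 2), (-1 : KR X₁) ^ i * w i =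
        g Λ + l * ∑ i ∈ Finset.range (r + 1), (-1 : KR X₁) ^ i * w i := by
      rw [Finset.sum_range_succ', show w 0 = 1 from LambdaRing.LambdaOps.lam_zero _, map_add, map_one, map_sum,
        Finset.mul_sum, add_assoc, ← Finset.sum_add_distrib, pow_zero, mul_one, add_comm]
      congr 1
      refine Finset.sum_congr rfl fun i _ => ?_
      rw [hw i, map_mul, map_pow, map_neg, map_one]
      ring
    linear_combination (-1 : KR X₁) * h1 + h2
  obtain ⟨cz, hcz⟩ := (D.bijective_comb A g hg).2 z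
  let z' : ℕ → KR X := fun j => if h : j < r + 1 then cz ⟨j, h⟩ else 0
  have hz' : z = ∑ j ∈ Finset.range (r + 1), g (z' j) * l ^ j := by
    rw [← hcz, Finset.sum_range]
    exact Finset.sum_congr rfl fun i _ => by simp [z', l, Nat.lt_succ_iff.1 i.2]
  -- subtract the multiple killing the top coefficient
  let b := z' r
  refine ⟨b, ?_⟩
  let e : ℕ → KR X := fun j => z' j - a j * b
  have her : e r = 0 := by simp [e, b, ha]
  have hdiff : z - lamA r (g (kc X (Omega.conormal f)) - l) * g b = ∑ j ∈ Finset.range (r + 1), g (e j) * l ^ j := by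
    rw [hS, hz', Finset.sum_mul, ← Finset.sum_sub_distrib]
    exact Finset.sum_congr rfl fun j _ => by simp only [e, map_sub, map_mul]; ring
  have hrel : (1 - l) * ∑ j ∈ Finset.range (r + 1), g (e j) * l ^ j = g (-(Λ * b)) := by
    rw [← hdiff, mul_sub, hz, hS, ← mul_assoc, hΛ, map_neg, map_mul, zero_sub]
  let p : ℕ → KR X := fun j => e j - if j = 0 then -(Λ * b) else e (j - 1)
  have hp : ∑ j ∈ Finset.range (r + 1), g (p j) * l ^ j = 0 := by
    have h1 : ∑ j ∈ Finset.range (r + 1), g (if j = 0 then -(Λ * b) else e (j - 1)) * l ^ j =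
        g (-(Λ * b)) + l * ∑ j ∈ Finset.range r, g (e j) * l ^ j := by
      rw [Finset.sum_range_succ', Finset.mul_sum, add_comm]
      congr 1
      · simp
      · exact Finset.sum_congr rfl fun j _ => by simp only [Nat.succ_ne_zero, if_false, Nat.add_sub_cancel]; ring
    have h2 : ∑ j ∈ Finset.range (r + 1), g (e j) * l ^ j = ∑ j ∈ Finset.range r, g (e j) * l ^ j := by
      rw [Finset.sum_range_succ, her, map_zero, zero_mul, add_zero]
    simp only [p, map_sub, sub_mul, Finset.sum_sub_distrib]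
    linear_combination hrel + l * h2 - h1
  have hpz : ∀ j, j ≤ r → p j = 0 := fun j hj => D.indep A g hg (a := p) hp hj
  have he : ∀ k j, j + k = r → e j = 0 := by
    intro k
    induction k with
    | zero => rintro j rfl; exact her
    | succ k ih =>
      intro j hj
      have h := hpz (j + 1) (by omega)
      simp only [p, Nat.succ_ne_zero, if_false, Nat.add_sub_cancel, ih (j + 1) (by omega), zero_sub, neg_eq_zero] at h
      exact h
  have h0 : z - lamA r (g (kc X (Omega.conormal f)) - l) * g b = 0 := by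
    rw [hdiff]
    exact Finset.sum_eq_zero fun j hj => by
      rw [he (r - j) j (by have := Finset.mem_range.1 hj; omega), map_zero, zero_mul]
  exact (sub_eq_zero.1 h0).symm

/-- The setting of the sequence of a blow-up. -/
theorem blowUp_setting {S : Scheme.{u}} [IsAffine S] [IsNoetherian Y] {qY : Y ⟶ S} (hqY : _root_.KRR.IsQProjOver qY)
    {f : X ⟶ Y} (hf : Mor2.IsRegularClosedImmersion f) {r : ℕ}
    (hd : FlatMod.IsFinLocFreeOfRank (r + 1) (Omega.conormal f)) {φ : Y₁ ⟶ Y} (hφ : BlowUp.IsBlowUp φ f.ker)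
    {f₁ : X₁ ⟶ Y₁} {ψ : X₁ ⟶ X} (hsq : IsPullback f₁ ψ φ f) :
    IsNoetherian X ∧ IsNoetherian X₁ ∧ IsNoetherian Y₁ ∧ _root_.KRR.IsQProjOver (φ ≫ qY) ∧
      _root_.KRR.IsQProjOver (f₁ ≫ φ ≫ qY) ∧ _root_.KRR.HasEnoughLocFree X ∧ _root_.KRR.HasEnoughLocFree Y ∧
      _root_.KRR.HasEnoughLocFree X₁ ∧ _root_.KRR.HasEnoughLocFree Y₁ ∧ Mor2.IsRegularClosedImmersion f₁ := by
  haveI := hf.1
  haveI : IsClosedImmersion f₁ := MorphismProperty.of_isPullback hsq.flip inferInstance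
  obtain ⟨hN, hq₁⟩ := exists_qproj_blowUp hqY hφ
  haveI := hN
  haveI : IsLocallyNoetherian X := LocallyOfFiniteType.isLocallyNoetherian f
  haveI : CompactSpace X := QuasiCompact.compactSpace_of_compactSpace f
  haveI : IsNoetherian X := {}
  haveI : IsLocallyNoetherian X₁ := LocallyOfFiniteType.isLocallyNoetherian f₁
  haveI : CompactSpace X₁ := QuasiCompact.compactSpace_of_compactSpace f₁
  haveI : IsNoetherian X₁ := {}
  refine ⟨inferInstance, inferInstance, hN, hq₁, qproj_closed hq₁ f₁,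
    hasEnough_of_ample (exists_ample_of_qproj (qproj_closed hqY f)), hasEnough_of_ample (exists_ample_of_qproj hqY),
    hasEnough_of_ample (exists_ample_of_qproj (qproj_closed hq₁ f₁)), hasEnough_of_ample (exists_ample_of_qproj hq₁),
    isRegular_of_effCartier f₁ (by rw [ker_eq_comap hsq]; exact hφ.1)⟩

/-- The blown up scheme and its exceptional divisor agree with the base outside of the centre. -/
theorem exists_open_compl [IsNoetherian Y] {f : X ⟶ Y} [IsClosedImmersion f] {φ : Y₁ ⟶ Y}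
    (hφ : BlowUp.IsBlowUp φ f.ker) {f₁ : X₁ ⟶ Y₁} {ψ : X₁ ⟶ X} (hsq : IsPullback f₁ ψ φ f) :
    ∃ (U : Scheme.{u}) (_ : IsNoetherian U) (j : U ⟶ Y) (j₁ : U ⟶ Y₁) (_ : IsOpenImmersion j) (_ : IsOpenImmersion j₁),
      Set.range j = (Set.range f)ᶜ ∧ Set.range j₁ = (Set.range f₁)ᶜ ∧ j₁ ≫ φ = j := by
  let V : Y.Opens := ⟨(Set.range f)ᶜ, f.isClosedEmbedding.isClosed_range.isOpen_compl⟩
  have hVe : f.ker.support.compl = V := Opens.ext (by
    show ((f.ker.support : Closeds Y) : Set Y)ᶜ = (Set.range f)ᶜ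
    rw [Scheme.Hom.support_ker, f.isClosedEmbedding.isClosed_range.closure_eq])
  haveI : IsIso (φ ∣_ V) := hVe ▸ Groth.L22.Ideals.isIso_restrict_compl hφ
  haveI : IsNoetherian V.toScheme := Groth.L29.KcohLoc.isNoetherian_open V.ι
  refine ⟨V.toScheme, inferInstance, V.ι, inv (φ ∣_ V) ≫ (φ ⁻¹ᵁ V).ι, inferInstance, inferInstance,
    by rw [Scheme.Opens.range_ι]; rfl, ?_, by rw [Category.assoc, ← morphismRestrict_ι, IsIso.inv_hom_id_assoc]⟩
  rw [Scheme.Hom.comp_base, TopCat.coe_comp, Set.range_comp,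
    Set.range_eq_univ.2 (inv (φ ∣_ V)).surjective, Set.image_univ, Scheme.Opens.range_ι]
  ext w
  show φ w ∈ (Set.range f)ᶜ ↔ w ∈ (Set.range f₁)ᶜ
  simp only [Set.mem_compl_iff, not_iff_not]
  constructor
  · rintro ⟨x, hx⟩
    obtain ⟨v, hv, -⟩ := Groth.L11.BlowSmooth.exists_preimage hsq w x hx.symm
    exact ⟨v, hv⟩
  · rintro ⟨v, rfl⟩
    exact ⟨ψ v, by rw [← Scheme.Hom.comp_apply, ← hsq.w]; rfl⟩

/-- Exactness in the middle. -/
theorem blowUp_exact {S : Scheme.{u}} [IsAffine S] [IsNoetherian X] [IsNoetherian Y] [IsNoetherian X₁] [IsNoetherian Y₁]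
    {qY : Y ⟶ S} (hqY : _root_.KRR.IsQProjOver qY)
    (hYreg : ∀ y : Y, IsRegularLocalRing (Y.presheaf.stalk y))
    {f : X ⟶ Y} (hf : Mor2.IsRegularClosedImmersion f) (hXreg : ∀ x : X, IsRegularLocalRing (X.presheaf.stalk x))
    {r : ℕ} (hd : FlatMod.IsFinLocFreeOfRank (r + 1) (Omega.conormal f)) {φ : Y₁ ⟶ Y}
    (hφ : BlowUp.IsBlowUp φ f.ker) {f₁ : X₁ ⟶ Y₁} {ψ : X₁ ⟶ X} (hsq : IsPullback f₁ ψ φ f)
    (hd₁ : FlatMod.IsFinLocFreeOfRank 1 (Omega.conormal f₁)) (hf₁ : Mor2.IsRegularClosedImmersion f₁)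
    (hYe : _root_.KRR.HasEnoughLocFree Y) (hYe₁ : _root_.KRR.HasEnoughLocFree Y₁) {x₁ : KR X₁} {y : KR Y}
    (h : pushK f₁ hf₁ hYe₁ x₁ + pull φ y = 0) :
    ∃ x : KR X, -(lamA r (pull ψ (kc X (Omega.conormal f)) - kc X₁ (Omega.conormal f₁)) * pull ψ x) = x₁ ∧
      pushK f hf hYe x = y := by
  haveI := hf.1
  haveI := hf₁.1
  obtain ⟨-, -, -, hq₁, hqX₁, hXe, -, hXe₁, -, -⟩ := blowUp_setting hqY hf hd hφ hsq
  let le := lamA r (pull ψ (kc X (Omega.conormal f)) - kc X₁ (Omega.conormal f₁))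
  have hex : ∀ x, pull φ (pushK f hf hYe x) = pushK f₁ hf₁ hYe₁ (le * pull ψ x) :=
    excess_KR hqY hq₁ hsq hf hf₁ hd hd₁ hYe hYe₁
  obtain ⟨U, hUn, j, j₁, hjo, hj₁o, hjr, hj₁r, hjj⟩ := exists_open_compl hφ hsq
  haveI := hUn; haveI := hjo; haveI := hj₁o
  have h1 := congrArg (pull j₁) h
  rw [map_add, map_zero, pull_pushK_eq_zero hf₁ hYe₁ j₁ (fun z => by
    have : j₁ z ∈ Set.range j₁ := ⟨z, rfl⟩
    rw [hj₁r] at this; exact this), zero_add, ← pull_comp, hjj] at h1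
  obtain ⟨a, rfl⟩ := exists_pushK_eq hXreg hXe hYreg hYe f hf j hjr h1
  rw [hex, ← map_add] at h
  have h2 := congrArg (pull f₁) h
  rw [map_zero, pull_pushK_self hq₁ hf₁ hd₁ hqX₁ hYe₁ hXe₁] at h2
  obtain ⟨b, hb⟩ := exists_of_one_sub_mul_eq_zero hf hd hφ hsq hd₁ h2
  have hb0 : pushK f hf hYe b = 0 := by
    obtain ⟨G, hG⟩ := Groth.L12.KPushCoh.exists_leftInverse hYreg f hf (Nat.succ_le_succ (Nat.zero_le r)) hd φ hφ
    refine (Loc.dlt_bijective hYreg hYe).1 ?_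
    rw [← hG, hex, hb, h, map_zero, map_zero, map_zero]
  refine ⟨a - b, ?_, by rw [map_sub, hb0, sub_zero]⟩
  rw [map_sub, mul_sub, hb]
  ring

/-- Surjectivity on the right. -/
theorem blowUp_surjective {S : Scheme.{u}} [IsAffine S] [IsNoetherian X] [IsNoetherian Y] [IsNoetherian X₁] [IsNoetherian Y₁]
    {qY : Y ⟶ S} (hqY : _root_.KRR.IsQProjOver qY)
    (hYreg : ∀ y : Y, IsRegularLocalRing (Y.presheaf.stalk y))
    {f : X ⟶ Y} (hf : Mor2.IsRegularClosedImmersion f) (hXreg : ∀ x : X, IsRegularLocalRing (X.presheaf.stalk x))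
    {r : ℕ} (hd : FlatMod.IsFinLocFreeOfRank (r + 1) (Omega.conormal f)) {φ : Y₁ ⟶ Y}
    (hφ : BlowUp.IsBlowUp φ f.ker) {f₁ : X₁ ⟶ Y₁} {ψ : X₁ ⟶ X} (hsq : IsPullback f₁ ψ φ f)
    (hf₁ : Mor2.IsRegularClosedImmersion f₁)
    (hYe : _root_.KRR.HasEnoughLocFree Y) (hYe₁ : _root_.KRR.HasEnoughLocFree Y₁) (y₁ : KR Y₁) :
    ∃ (x₁ : KR X₁) (y : KR Y), pushK f₁ hf₁ hYe₁ x₁ + pull φ y = y₁ := by
  haveI := hf.1
  haveI := hf₁.1
  obtain ⟨-, -, -, -, -, -, -, hXe₁, -, -⟩ := blowUp_setting hqY hf hd hφ hsq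
  obtain ⟨A⟩ := exists_atlas_exceptional hf hd hφ hsq
  haveI := Atlas.smooth' A
  haveI := A.isProper
  have hX₁reg : ∀ x : X₁, IsRegularLocalRing (X₁.presheaf.stalk x) := fun x =>
    (Groth.Agent.S4991.result ψ x ⟨⊤, trivial, inferInstance⟩).2 (hXreg _)
  have hY₁reg : ∀ y : Y₁, IsRegularLocalRing (Y₁.presheaf.stalk y) :=
    Groth.L05.BlowRegular.regular_blowUp hYreg f hXreg φ hφ
  obtain ⟨U, hUn, j, j₁, hjo, hj₁o, hjr, hj₁r, hjj⟩ := exists_open_compl hφ hsq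
  haveI := hUn; haveI := hjo; haveI := hj₁o
  obtain ⟨y, hy⟩ := surjective_pull_open hYreg hYe j (pull j₁ y₁)
  have hU : Function.Injective (Loc.dlt U) := by
    refine (Loc.dlt_bijective (fun x => ?_) (hasEnough_of_ample ?_)).1
    · haveI := hYreg (j x)
      exact IsRegularLocalRing.of_ringEquiv (asIso (j.stalkMap x)).commRingCatIsoToRingEquiv
    · exact exists_ample_of_qproj (qproj_closed hqY j)
  obtain ⟨x₁, hx₁⟩ := exists_pushK_eq hX₁reg hXe₁ hY₁reg hYe₁ f₁ hf₁ j₁ hj₁r (y := y₁ - pull φ y) (by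
    rw [map_sub, ← pull_comp, hjj, hU hy, sub_self])
  exact ⟨x₁, y, by rw [hx₁, sub_add_cancel]⟩

end Groth.L12.RR
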