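import Groth.Agent.L12.RR.Def.Strict
import Groth.Agent.L12.RR.Def.Sq
import Groth.Agent.L13.ModPair.Colon

/-!
# The blow up in the deformation to the normal cone
-/

set_option autoImplicit false
set_option maxHeartbeats 800000
set_option linter.style.haveILetI false
set_option linter.unusedSectionVars false
set_option backward.isDefEq.respectTransparency false
set_option backward.isDefEq.respectTransparency.types false

universe u

open CategoryTheory CategoryTheory.Limits AlgebraicGeometry TopologicalSpace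

noncomputable section

namespace Groth.L12.RR

/-- The ideal of a composite of closed immersions. -/
theorem ker_comp_eq_sup {X Y P : Scheme.{u}} (f : X ⟶ Y) (s : Y ⟶ P) [IsClosedImmersion s]
    {J : P.IdealSheafData} (h : J.comap s = f.ker) : (f ≫ s).ker = J ⊔ s.ker := by
  rw [← Scheme.IdealSheafData.map_ker, ← h]
  refine Scheme.IdealSheafData.ext (funext fun U => ?_)
  rw [Scheme.IdealSheafData.ideal_map_of_isAffineHom, Scheme.IdealSheafData.ideal_sup, Pi.sup_apply,
    Groth.L22.Ideals.comap_ideal s J U ⟨s ⁻¹ᵁ U.1, U.2.preimage s⟩ le_rfl, Scheme.Hom.appLE_eq_app,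
    Ideal.comap_map_of_surjective _ (s.app_surjective U.1 U.2), Scheme.Hom.ker_apply, ← RingHom.ker_eq_comap_bot]

variable {X Y : Scheme.{u}} (f : X ⟶ Y) [IsClosedImmersion f]

/-- The centre of the deformation. -/
abbrev centre : X ⟶ CohB1.ProjSpaceOver 1 Y := f ≫ P1.sect Y 1

theorem isClosedImmersion_toP1 : IsClosedImmersion (P1.toP1 f) :=
  MorphismProperty.of_isPullback (Groth.L07.BlowLib.isPullback_toBase f).flip inferInstance

theorem centre_eq_sup : (centre f).ker = (P1.toP1 f).ker ⊔ (P1.sect Y 1).ker := by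
  haveI := isClosedImmersion_sect' Y 1
  haveI := isClosedImmersion_toP1 f
  exact ker_comp_eq_sup f _ (ker_eq_comap (isPullback_sect f 1)).symm

theorem centre_comap_toP1 : (centre f).ker.comap (P1.toP1 f) = (P1.sect X 1).ker := by
  have h := Groth.L07.BlowLib.centre_comap f (𝟙 X)
  rwa [Category.id_comp, Category.id_comp] at h

variable {f} {M : Scheme.{u}} {b : M ⟶ CohB1.ProjSpaceOver 1 Y}

/-- The deformation of `f` inside the blow up. -/
theorem exists_F (hb : BlowUp.IsBlowUp b (centre f).ker) :
    ∃ F : CohB1.ProjSpaceOver 1 X ⟶ M, F ≫ b = P1.toP1 f := by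
  obtain ⟨F, hF, -⟩ := hb.2 _ (P1.toP1 f) (by rw [centre_comap_toP1]; exact isEffCartier_sect' X 1)
  exact ⟨F, hF⟩

variable (hb : BlowUp.IsBlowUp b (centre f).ker) {F : CohB1.ProjSpaceOver 1 X ⟶ M} (hF : F ≫ b = P1.toP1 f)

include hb hF in
theorem exc_comap_F : ((centre f).ker.comap b).comap F = (P1.sect X 1).ker := by
  rw [← Scheme.IdealSheafData.comap_comp, hF, centre_comap_toP1]

theorem toP1_le_exc : (P1.toP1 f).ker.comap b ≤ (centre f).ker.comap b :=
  Scheme.IdealSheafData.comap_mono b ((centre_eq_sup f).ge.trans' le_sup_left)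

include hb hF in
/-- The ideal of the deformation is the strict transform. -/
theorem exists_strict [IsLocallyNoetherian (CohB1.ProjSpaceOver 1 Y)] [IsClosedImmersion F] :
    (centre f).ker.comap b * F.ker = (P1.toP1 f).ker.comap b := by
  haveI := isClosedImmersion_toP1 f
  let J' := (P1.toP1 f).ker.comap b
  let R := Groth.L13.MP.colon J' (Groth.L13.MP.LocFG.of_isEffCartier hb.1)
  have hR : (centre f).ker.comap b * R = J' := by
    rw [mul_comm]
    exact Groth.L13.MP.colon_mul hb.1 toP1_le_exc
  have h0 : J'.comap F = ⊥ := by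
    rw [← Scheme.IdealSheafData.comap_comp, hF]
    exact le_bot_iff.1 (Scheme.IdealSheafData.le_map_iff_comap_le.1 (by rw [Scheme.IdealSheafData.map_bot]))
  have hle : R ≤ F.ker := by
    rw [← Scheme.IdealSheafData.map_bot, Scheme.IdealSheafData.le_map_iff_comap_le]
    refine Groth.L13.MP.le_of_mul_le (E := ((centre f).ker.comap b).comap F)
      (by rw [exc_comap_F hb hF]; exact isEffCartier_sect' X 1) ?_
    rw [← Groth.L22.Ideals.comap_mul, mul_comm R, hR, h0]
    exact bot_le
  haveI hcl : IsClosedImmersion (R.subschemeι ≫ b) :=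
    isClosedImmersion_strict (isEffCartier_sect' Y 1) (centre_eq_sup f) hb hR
  have hker : (P1.toP1 f).ker ≤ (R.subschemeι ≫ b).ker := by
    rw [← Scheme.IdealSheafData.map_bot (f := R.subschemeι ≫ b), Scheme.IdealSheafData.le_map_iff_comap_le,
      Scheme.IdealSheafData.comap_comp, ← Scheme.IdealSheafData.le_map_iff_comap_le,
      Scheme.IdealSheafData.map_bot, Scheme.IdealSheafData.ker_subschemeι]
    exact hR.ge.trans (Groth.L13.MP.mul_le_right' _ _)
  let ω := IsClosedImmersion.lift (P1.toP1 f) (R.subschemeι ≫ b) hker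
  have hω : ω ≫ P1.toP1 f = R.subschemeι ≫ b := IsClosedImmersion.lift_fac _ _ _
  let σ := IsClosedImmersion.lift R.subschemeι F (by rw [Scheme.IdealSheafData.ker_subschemeι]; exact hle)
  have hσ : σ ≫ R.subschemeι = F := IsClosedImmersion.lift_fac _ _ _
  have h1 : ω ≫ σ = 𝟙 _ := by
    rw [← cancel_mono (R.subschemeι ≫ b), Category.assoc, reassoc_of% hσ, hF, hω, Category.id_comp]
  show _ = J'
  rw [← hR]
  congr 1
  refine (le_antisymm hle ?_).symm
  conv_rhs => rw [← R.ker_subschemeι]
  rw [show R.subschemeι = ω ≫ F by rw [← hσ, reassoc_of% h1]]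
  exact Scheme.Hom.le_ker_comp _ _

end Groth.L12.RR
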