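import Groth.Agent.L12.RR.Def.Base
import Groth.Agent.L12.VBLift.Seq
import Groth.Agent.L12.FinCov.Frame
import Groth.Agent.L07.PrinParts.GrBaseChange
import Groth.Agent.L13.PointBlow.Twist
import Groth.Agent.L18.RegularSection
import Groth.Agent.L16.HomSh.Adjunction
import Groth.Agent.L22.C1.Basic
import Groth.Agent.L12.SymSq.Inter
import Groth.Agent.L18.Grass.MapEpi

/-!
# Modules attached to divisors
-/

set_option autoImplicit false
set_option maxHeartbeats 800000
set_option linter.style.haveILetI false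
set_option linter.unusedSectionVars false
set_option backward.isDefEq.respectTransparency false
set_option backward.isDefEq.respectTransparency.types false

universe u

open CategoryTheory CategoryTheory.Limits AlgebraicGeometry TopologicalSpace Opposite

noncomputable section

namespace Groth.L12.RR

open Groth.L00.Tensor (tensorMap tensorIso tensorUnitLeft tensorUnitRight tensorAssoc tensorComm)
open Groth.L18.Frame (rs ro rs_self IsFrame)
open Groth.L18.GenLoc (secOf tens)
open Groth.Agent.L19.IdealInvertible (io io_smul)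
open Groth.L20.SeeNormal (sI)

/-- The structure map of a product of ideals kills sections of the product. -/
theorem app_mul_eq_zero {X : Scheme.{u}} (I J : X.IdealSheafData) (W : X.Opens) (p : Γ(ClSub.idealMod I, W))
    (q : Γ(ClSub.idealMod J, W)) : (I * J).subschemeι.app W (io I W p * io J W q) = 0 := by
  let ι := (I * J).subschemeι
  choose V hV hxV hVW using fun z : {z : (I * J).subscheme // ι z ∈ W} =>
    exists_isAffineOpen_mem_and_subset (x := ι z.1) (U := W) z.2
  refine TopCat.Sheaf.eq_of_locally_eq' (I * J).subscheme.sheaf (fun z => ι ⁻¹ᵁ V z) (ι ⁻¹ᵁ W)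
    (fun z => homOfLE fun y hy => hVW z hy) (fun y hy => Opens.mem_iSup.2 ⟨⟨y, hy⟩, hxV ⟨y, hy⟩⟩) _ _ fun z => ?_
  have hle : V z ≤ W := hVW z
  refine (congr($(ι.naturality (homOfLE hle).op) (io I W p * io J W q))).symm.trans ?_
  rw [CommRingCat.comp_apply, show (X.presheaf.map (homOfLE hle).op) (io I W p * io J W q) =
    ro hle (io I W p) * ro hle (io J W q) from map_mul _ _ _, map_zero]
  refine ((Groth.L18.IdealModule.exact_sections (I * J) (V z)).2 _).2
    ((Groth.L18.IdealModule.mem_ideal_iff (I * J) (hV z) _).1 ?_)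
  show _ ∈ (I * J).ideal ⟨V z, hV z⟩
  rw [Scheme.IdealSheafData.ideal_mul, Pi.mul_apply, ← Groth.L13.BlowP1.io_ro, ← Groth.L13.BlowP1.io_ro]
  exact Ideal.mul_mem_mul ((Groth.L18.IdealModule.mem_ideal_iff I (hV z) _).2 ⟨_, rfl⟩)
    ((Groth.L18.IdealModule.mem_ideal_iff J (hV z) _).2 ⟨_, rfl⟩)

/-- Multiplying an ideal by an invertible ideal is tensoring. -/
theorem nonempty_mulIso {X : Scheme.{u}} {I : X.IdealSheafData} (hI : PicF.IsInvertible (ClSub.idealMod I))
    (J : X.IdealSheafData) :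
    Nonempty (CohB1.tensorMod (ClSub.idealMod I) (ClSub.idealMod J) ≅ ClSub.idealMod (I * J)) := by
  let A := CohB1.tensorMod (ClSub.idealMod I) (ClSub.idealMod J)
  let κ := tensorMap (𝟙 (ClSub.idealMod I)) (ClSub.idealModι J) ≫ (tensorUnitRight (ClSub.idealMod I)).hom
  let a : A ⟶ Coh.structureModule X := κ ≫ ClSub.idealModι I
  haveI : Mono κ := by
    obtain ⟨κ', w, hs, rfl⟩ := Groth.L12.VBLift.exists_restrict_seq' J (ClSub.idealMod I)
      (Groth.L21.RR.isFlat_of_isInvertible hI)
    exact hs.mono_f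
  haveI : Mono (ClSub.idealModι I) := inferInstanceAs (Mono (kernel.ι (ClSub.toSubscheme I)))
  haveI : Mono a := mono_comp _ _
  have ha : ∀ (W : X.Opens) p q, (show Γ(X, W) from a.app W (tens _ _ W p q)) = io I W p * io J W q := by
    intro W p q
    refine (congrArg ((ClSub.idealModι I).app W) ((congrArg
      ((tensorUnitRight (ClSub.idealMod I)).hom.app W)
      (Groth.L16.HomSh.tensorMap_tens (𝟙 (ClSub.idealMod I)) (ClSub.idealModι J) W p q)).trans
      (Groth.L20.ResDescent.tensorUnitRight_app (ClSub.idealMod I) W _ _))).trans ?_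
    exact (io_smul I _ _).trans (mul_comm _ _)
  have hz : a ≫ ClSub.toSubscheme (I * J) = 0 := Groth.L16.HomSh.hom_ext_tens fun W p q => by
    refine (congrArg ((ClSub.toSubscheme (I * J)).app W) (ha W p q)).trans ?_
    exact app_mul_eq_zero I J W p q
  let l : A ⟶ ClSub.idealMod (I * J) := kernel.lift (ClSub.toSubscheme (I * J)) a hz
  have hl : l ≫ ClSub.idealModι (I * J) = a := kernel.lift_ι _ _ _
  haveI : Mono (l ≫ ClSub.idealModι (I * J)) := by rw [hl]; infer_instance
  haveI : Mono l := mono_of_mono l (ClSub.idealModι (I * J))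
  haveI : Epi l := by
    refine (Groth.L21.Mod.epi_iff_stalk_surjective l).2 fun x => ?_
    obtain ⟨U, m, hxU, -, -, hIU⟩ := Groth.L13.PointBlow.exists_gen hI ⊤ x trivial
    haveI : Coh.IsQCoh A := Groth.L00.Tensor.isQCoh_tensorMod _ _
    refine Groth.L07.PrinParts.stalk_surjective_of_affine l U.2 (fun w => ?_) hxU
    have hw : io (I * J) U.1 w ∈ (I * J).ideal U := (Groth.L18.IdealModule.mem_ideal_iff _ U.2 _).2 ⟨w, rfl⟩
    rw [Scheme.IdealSheafData.ideal_mul, Pi.mul_apply, hIU, Ideal.mem_span_singleton_mul] at hw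
    obtain ⟨y, hy, hyw⟩ := hw
    obtain ⟨n, hn⟩ := (Groth.L18.IdealModule.mem_ideal_iff J U.2 y).1 hy
    refine ⟨tens _ _ U.1 m n, (Groth.L18.IdealModule.exact_sections (I * J) U.1).1 ?_⟩
    refine (congrArg (fun k => Scheme.Modules.Hom.app k U.1 (tens _ _ U.1 m n)) hl).trans ?_
    refine (ha U.1 m n).trans ?_
    rw [show io J U.1 n = y from hn, show io I U.1 m * y = io (I * J) U.1 w from hyw]
  haveI := isIso_of_mono_of_epi l
  exact ⟨asIso l⟩

/-- Base change of an effective Cartier divisor. -/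
theorem nonempty_pullback_idealMod {X Y : Scheme.{u}} (f : Y ⟶ X) {I : X.IdealSheafData}
    (hI : BlowUp.IsEffCartierIdeal I) (hJ : BlowUp.IsEffCartierIdeal (I.comap f)) :
    Nonempty ((Scheme.Modules.pullback f).obj (ClSub.idealMod I) ≅ ClSub.idealMod (I.comap f)) := by
  obtain ⟨α, -, hα, -⟩ := Groth.L07.PrinParts.exists_idealMap f I _ rfl
  haveI := hα
  haveI := isIso_of_epi_rank α
    (Groth.L18.MapEpi.isFinLocFreeOfRank_pullback f (Groth.L12.FinCov.isFinLocFreeOfRank_one_of_isInvertible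
      ((Groth.Agent.L19.IdealInvertible.isEffCartier_iff I).2 hI)))
    (Groth.L12.FinCov.isFinLocFreeOfRank_one_of_isInvertible
      ((Groth.Agent.L19.IdealInvertible.isEffCartier_iff _).2 hJ))
  exact ⟨asIso α⟩

/-- The module of an effective Cartier zero scheme is inverse to the bundle. -/
theorem nonempty_tensor_zero {X D : Scheme.{u}} {i : D ⟶ X} [IsClosedImmersion i] {L : X.Modules}
    (hL : PicF.IsInvertible L) {σ : L.presheaf.obj (op ⊤)} (h : Cyc.IsZeroSchemeOf i L σ)
    (hi : BlowUp.IsEffCartierIdeal i.ker) :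
    Nonempty (CohB1.tensorMod (ClSub.idealMod i.ker) L ≅ Coh.structureModule X) := by
  let s := Groth.L16.homOfSection L σ
  have key : ∀ (x : X) (W : X.affineOpens) (e : Γ(L, W.1)) (c : Γ(X, W.1)) (hx : x ∈ W.1), IsFrame L W.1 e →
      c • e = rs L le_top σ → sI i.ker x = Ideal.span {X.presheaf.germ W.1 x hx c} ∧
        X.presheaf.germ W.1 x hx c ∈ nonZeroDivisors (X.presheaf.stalk x) := by
    intro x W e c hx he hc
    have hg : L.presheaf.germ ⊤ x trivial σ =
        X.presheaf.germ W.1 x hx c • L.presheaf.germ W.1 x hx e := by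
      rw [← Groth.L20.ModStalk.germ_smul, hc]
      exact (TopCat.Presheaf.germ_res_apply L.presheaf (homOfLE le_top) x hx σ).symm
    have hgen := Groth.L22.C1.isGen_germ he hx
    by_cases hxr : x ∈ Set.range i
    · obtain ⟨d, rfl⟩ := hxr
      obtain ⟨t, g, ht, hst, hker⟩ := h.2 d
      obtain ⟨v, hv, hvt⟩ := hgen.exists_unit hL ht
      have hcg : X.presheaf.germ W.1 (i d) hx c = g * v := by
        refine hgen.injective hL ?_
        show _ • _ = _ • _
        rw [← hg, hst, ← hvt, smul_smul]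
      have hsp : sI i.ker (i d) = Ideal.span {X.presheaf.germ W.1 (i d) hx c} := by
        rw [hcg, Ideal.span_singleton_mul_right_unit hv, ← hker, Groth.L20.Infinitesimal.ker_stalkMap]
      refine ⟨hsp, ?_⟩
      obtain ⟨U, hU, a, -, haU, -⟩ := Groth.L22.Ideals.exists_generator hi (i d)
      obtain ⟨U', hU', a', ha', haU', -⟩ := Groth.L22.Ideals.exists_generator hi (i d)
      have hA : X.presheaf.germ U'.1 (i d) hU' a' ∈ nonZeroDivisors (X.presheaf.stalk (i d)) :=
        Groth.L22.Mero.mem_regSub_of_mem_nonZeroDivisors U'.2 ha' ⟨i d, hU'⟩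
      rw [Groth.L20.SeeNormal.sI_eq i.ker U' hU', haU', Ideal.map_span, Set.image_singleton] at hsp
      obtain ⟨w, hw⟩ := Ideal.mem_span_singleton'.1 (hsp.le (Ideal.mem_span_singleton_self _))
      exact (mul_mem_nonZeroDivisors.1 (hw.symm ▸ hA : w * X.presheaf.germ W.1 (i d) hx c ∈ _)).2
    · have hu : IsUnit (X.presheaf.germ W.1 x hx c) := by
        by_contra hnu
        refine hxr (h.1.ge ?_)
        show Groth.L22.C1.mk L _ = 0
        rw [hg, Groth.L22.C1.mk_smul_eq_zero_iff hL hgen]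
        exact (IsLocalRing.residue_eq_zero_iff _).2 hnu
      refine ⟨?_, hu.mem_nonZeroDivisors⟩
      rw [Ideal.span_singleton_eq_top.2 hu]
      obtain ⟨_, ⟨D', hD, rfl⟩, hxD, hle⟩ := X.isBasis_affineOpens.exists_subset_of_mem_open
        (show x ∈ (Set.range i)ᶜ from hxr) i.isClosedEmbedding.isClosed_range.isOpen_compl
      rw [Groth.L20.SeeNormal.sI_eq i.ker ⟨D', hD⟩ hxD,
        Groth.L07.BlowLib.ideal_eq_top_of_disjoint _ ⟨D', hD⟩ (fun y hy hs => hle hy (by
          change y ∈ (i.ker.support : Set X) at hs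
          rwa [Scheme.Hom.support_ker, i.isClosedEmbedding.isClosed_range.closure_eq] at hs)), Ideal.map_top]
  have hframe : ∀ x : X, ∃ (W : X.affineOpens) (e : Γ(L, W.1)) (c : Γ(X, W.1)), x ∈ W.1 ∧ IsFrame L W.1 e ∧
      c • e = rs L le_top σ := fun x => by
    obtain ⟨W₀, e₀, hx₀, he₀⟩ := Groth.L18.Frame.exists_frame hL x
    obtain ⟨W, hW, hxW, hle⟩ := exists_isAffineOpen_mem_and_subset (x := x) (U := W₀) hx₀
    obtain ⟨c, hc⟩ := (he₀.mono hle).exists_coeff le_rfl (rs L le_top σ)
    rw [rs_self] at hc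
    exact ⟨⟨W, hW⟩, rs L hle e₀, c, hxW, he₀.mono hle, hc⟩
  have hsec : secOf s = σ := Groth.L18.GenLoc.secOf_homOfSection σ
  have hreg : Groth.L18.RegSec.IsRegularSec s := fun x => by
    obtain ⟨W, e, c, hxW, he, hc⟩ := hframe x
    refine ⟨W, e, c, hxW, he, by rw [hsec]; exact hc, Groth.L22.Mero.mem_nonZeroDivisors_of_mem_regSub ?_⟩
    exact fun y => (key y.1 W e c y.2 he hc).2
  have hZ : PicF2.zeroScheme L s = i.ker := by
    choose W e c hxW he hc using hframe
    refine Scheme.IdealSheafData.ext_of_iSup_eq_top W (eq_top_iff.2 fun x _ => Opens.mem_iSup.2 ⟨x, hxW x⟩)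
      fun x => ?_
    have hspan := Groth.L18.RegSec.zeroScheme_ideal_span hL s (he x) (c := c x) (by rw [hsec]; exact hc x)
    have hsI : ∀ y ∈ (W x).1, sI (PicF2.zeroScheme L s) y = sI i.ker y := fun y hy => by
      rw [Groth.L20.SeeNormal.sI_eq _ (W x) hy, hspan, Ideal.map_span, Set.image_singleton,
        (key y (W x) (e x) (c x) hy (he x) (hc x)).1]
    exact le_antisymm (Groth.L20.SeeNormal.ideal_le_of_sI_le _ fun y hy => (hsI y hy).le)
      (Groth.L20.SeeNormal.ideal_le_of_sI_le _ fun y hy => (hsI y hy).ge)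
  rw [← hZ]
  exact Groth.L18.RegSec.nonempty_tensor_zeroScheme hL s hreg

/-- The points `0` and `∞` of the projective line are linearly equivalent. -/
theorem nonempty_idealMod_sect (Y : Scheme.{u}) :
    Nonempty (ClSub.idealMod (P1.sect Y 0).ker ≅ ClSub.idealMod (P1.sect Y 1).ker) := by
  obtain ⟨L, σ, hL, h⟩ := Groth.L22.P1Zero.exists_sections Y
  haveI := (h 0).1
  haveI := (h 1).1
  obtain ⟨e₀⟩ := nonempty_tensor_zero hL (h 0).2 (isEffCartier_sect' Y 0)
  obtain ⟨e₁⟩ := nonempty_tensor_zero hL (h 1).2 (isEffCartier_sect' Y 1)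
  exact Groth.L13.PointBlow.inverse_unique e₀ e₁

end Groth.L12.RR
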