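import Groth.Agent.L12.RR.Def.Pieces
import Groth.Agent.L12.RR.Def.Lines
import Groth.Agent.L03.ShStab.TwistSubbundle
import Groth.Agent.L29.DCoh.PullTensor
import Groth.Agent.L12.KBunQ.Ring

/-!
# The elementary imbedding at infinity
-/

set_option autoImplicit false
set_option maxHeartbeats 800000
set_option linter.style.haveILetI false
set_option linter.unusedSectionVars false
set_option backward.isDefEq.respectTransparency false
set_option backward.isDefEq.respectTransparency.types false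

universe u

open CategoryTheory CategoryTheory.Limits AlgebraicGeometry TopologicalSpace

noncomputable section

namespace Groth.L12.RR

open Groth.L00.Tensor (tensorLeftF tensorMap tensorIso tensorUnitLeft tensorUnitRight tensorAssoc tensorComm)
open Groth.L12.KBunQ (kc)

theorem rank_of_iso {X : Scheme.{u}} {A B : X.Modules} (e : A ≅ B) {d : ℕ}
    (h : FlatMod.IsFinLocFreeOfRank d A) : FlatMod.IsFinLocFreeOfRank d B := fun x => by
  obtain ⟨U, hxU, ⟨i⟩⟩ := h x
  exact ⟨U, hxU, ⟨(Scheme.Modules.restrictFunctor U.ι).mapIso e.symm ≪≫ i⟩⟩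

variable {X Y : Scheme.{u}} {f : X ⟶ Y} [IsClosedImmersion f]
  {M : Scheme.{u}} {b : M ⟶ CohB1.ProjSpaceOver 1 Y}

variable (f b) in
/-- The ideal of `f`, pulled back to the deformation space. -/
abbrev gens : M.Modules :=
  (Scheme.Modules.pullback (b ≫ CohB1.ProjSpaceOver.toBase 1 Y)).obj (ClSub.idealMod f.ker)

/-- The twisted ideal generates the ideal of the deformation. -/
theorem exists_gens {F : CohB1.ProjSpaceOver 1 X ⟶ M}
    (hstrict : (centre f).ker.comap b * F.ker = (P1.toP1 f).ker.comap b)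
    (he : PicF.IsInvertible (ClSub.idealMod ((centre f).ker.comap b))) {N : M.Modules}
    (eN : CohB1.tensorMod (ClSub.idealMod ((centre f).ker.comap b)) N ≅ Coh.structureModule M) :
    ∃ q : CohB1.tensorMod N (gens f b) ⟶ ClSub.idealMod F.ker, Epi q := by
  obtain ⟨α, -, hα, -⟩ := Groth.L07.PrinParts.exists_idealMap (b ≫ CohB1.ProjSpaceOver.toBase 1 Y) f.ker
    ((centre f).ker.comap b * F.ker) (by
      rw [hstrict, Groth.L07.BlowLib.ker_toP1, Scheme.IdealSheafData.comap_comp])
  haveI := hα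
  obtain ⟨m⟩ := nonempty_mulIso he F.ker
  let T := tensorLeftF N
  haveI : T.IsLeftAdjoint := (Groth.L16.HomSh.tensorHomAdj N).isLeftAdjoint
  haveI : Epi (α ≫ m.inv) := epi_comp _ _
  haveI : Epi (T.map (α ≫ m.inv)) := T.map_epi _
  let u : CohB1.tensorMod N (CohB1.tensorMod (ClSub.idealMod ((centre f).ker.comap b)) (ClSub.idealMod F.ker)) ≅
      ClSub.idealMod F.ker :=
    (tensorAssoc _ _ _).symm ≪≫ tensorIso (tensorComm _ _ ≪≫ eN) (Iso.refl _) ≪≫ tensorUnitLeft _
  exact ⟨T.map (α ≫ m.inv) ≫ u.hom, epi_comp _ _⟩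

/-- The bundle cutting out the elementary imbedding. -/
theorem exists_elementary {d : ℕ} (hd : FlatMod.IsFinLocFreeOfRank d (Omega.conormal f))
    {F : CohB1.ProjSpaceOver 1 X ⟶ M} [IsClosedImmersion F]
    (hstrict : (centre f).ker.comap b * F.ker = (P1.toP1 f).ker.comap b)
    (hb : BlowUp.IsBlowUp b (centre f).ker)
    {f0 : X ⟶ ((centre f).ker.comap b).subscheme} [IsClosedImmersion f0]
    {π : ((centre f).ker.comap b).subscheme ⟶ X}
    (hπ : π ≫ centre f = ((centre f).ker.comap b).subschemeι ≫ b)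
    (hsq : IsPullback f0 (P1.sect X 1) ((centre f).ker.comap b).subschemeι F) :
    ∃ (E : ((centre f).ker.comap b).subscheme.Modules) (q : E ⟶ ClSub.idealMod f0.ker),
      Epi q ∧ FlatMod.IsFinLocFreeOfRank d E := by
  let iP := ((centre f).ker.comap b).subschemeι
  let p1 := b ≫ CohB1.ProjSpaceOver.toBase 1 Y
  have he := (Groth.Agent.L19.IdealInvertible.isEffCartier_iff _).2 hb.1
  obtain ⟨N, hN, ⟨eN⟩⟩ := Groth.L08.Cube.exists_inverse he
  obtain ⟨qM, hqM⟩ := exists_gens hstrict he eN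
  haveI := hqM
  obtain ⟨α, -, hα, -⟩ := Groth.L07.PrinParts.exists_idealMap iP F.ker f0.ker (ker_eq_comap hsq)
  haveI := hα
  haveI : (Scheme.Modules.pullback iP).IsLeftAdjoint :=
    (Scheme.Modules.pullbackPushforwardAdjunction iP).isLeftAdjoint
  refine ⟨(Scheme.Modules.pullback iP).obj (CohB1.tensorMod N (gens f b)),
    (Scheme.Modules.pullback iP).map qM ≫ α, epi_comp _ _, ?_⟩
  have hw : iP ≫ p1 = π ≫ f := by
    simp only [p1, iP, ← reassoc_of% hπ, centre, Category.assoc, Groth.L07.BlowLib.sect_toBase, Category.comp_id]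
  let e : (Scheme.Modules.pullback iP).obj (gens f b) ≅ (Scheme.Modules.pullback π).obj (Omega.conormal f) :=
    (Scheme.Modules.pullbackComp iP p1).app _ ≪≫ (Scheme.Modules.pullbackCongr hw).app _ ≪≫
      ((Scheme.Modules.pullbackComp π f).app _).symm
  refine rank_of_iso (tensorComm _ _ ≪≫ tensorIso (Iso.refl _) e.symm ≪≫
    Groth.L29.DC.PullTensor.pullTensor iP N (gens f b)) ?_
  exact Groth.L03.ShStab.TwistSubbundle.isFinLocFreeOfRank_tensor
    (Groth.L18.MapEpi.isFinLocFreeOfRank_pullback π hd) (Groth.L18.Ample.isInvertible_pullback iP hN)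

/-- The ideal of the zero scheme is generated by the values of the cosection. -/
theorem ideal_of_epi {X P : Scheme.{u}} (f0 : X ⟶ P) {E : P.Modules} [Coh.IsQCoh E]
    (q : E ⟶ ClSub.idealMod f0.ker) [Epi q] (U : P.affineOpens) :
    f0.ker.ideal U = Ideal.span {a : Γ(P, U.1) | ∃ s : Γ(E, U.1), ((q ≫ ClSub.idealModι f0.ker).app U.1) s = a} := by
  refine le_antisymm (fun a ha => ?_) (Ideal.span_le.2 ?_)
  · obtain ⟨w, rfl⟩ := (Groth.L18.IdealModule.mem_ideal_iff f0.ker U.2 a).1 ha
    obtain ⟨s, rfl⟩ := Groth.L16.AffineBC.surjective_app_of_epi q U.2 w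
    exact Ideal.subset_span ⟨s, rfl⟩
  · rintro _ ⟨s, rfl⟩
    exact (Groth.L18.IdealModule.mem_ideal_iff f0.ker U.2 _).2 ⟨_, rfl⟩

/-- The bundle restricts to the conormal module. -/
theorem nonempty_pullback_elementary {X P : Scheme.{u}} (f0 : X ⟶ P) {E : P.Modules}
    (q : E ⟶ ClSub.idealMod f0.ker) [Epi q] {d : ℕ} (hE : FlatMod.IsFinLocFreeOfRank d E)
    (hf0 : FlatMod.IsFinLocFreeOfRank d (Omega.conormal f0)) :
    Nonempty ((Scheme.Modules.pullback f0).obj E ≅ Omega.conormal f0) := by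
  haveI : (Scheme.Modules.pullback f0).IsLeftAdjoint :=
    (Scheme.Modules.pullbackPushforwardAdjunction f0).isLeftAdjoint
  haveI : Epi ((Scheme.Modules.pullback f0).map q) := (Scheme.Modules.pullback f0).map_epi q
  haveI := isIso_of_epi_rank ((Scheme.Modules.pullback f0).map q)
    (Groth.L18.MapEpi.isFinLocFreeOfRank_pullback f0 hE) hf0
  exact ⟨asIso ((Scheme.Modules.pullback f0).map q)⟩

/-- The fibre at zero is linearly equivalent to the fibre at infinity. -/
theorem linEquiv (hb : BlowUp.IsBlowUp b (centre f).ker) {rest : M.IdealSheafData}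
    (hr : BlowUp.IsEffCartierIdeal rest)
    (hmul : (centre f).ker.comap b * rest = (P1.sect Y 1).ker.comap b) :
    kc M (ClSub.idealMod ((P1.sect Y 0).ker.comap b)) =
      kc M (ClSub.idealMod ((centre f).ker.comap b)) * kc M (ClSub.idealMod rest) := by
  have h0 := Groth.L22.Ideals.isEffCartier_comap hb (isEffCartier_sect' Y 0)
  have h1 := Groth.L22.Ideals.isEffCartier_comap hb (isEffCartier_sect' Y 1)
  have inv : ∀ {I : M.IdealSheafData}, BlowUp.IsEffCartierIdeal I → PicF.IsInvertible (ClSub.idealMod I) :=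
    fun {I} h => (Groth.Agent.L19.IdealInvertible.isEffCartier_iff I).2 h
  have lf : ∀ {I : M.IdealSheafData}, BlowUp.IsEffCartierIdeal I → FlatMod.IsFinLocFree (ClSub.idealMod I) :=
    fun h => Groth.L18.KRRAmple.isFinLocFree_of_rank
      (Groth.L12.FinCov.isFinLocFreeOfRank_one_of_isInvertible (inv h))
  obtain ⟨a0⟩ := nonempty_pullback_idealMod b (isEffCartier_sect' Y 0) h0
  obtain ⟨a1⟩ := nonempty_pullback_idealMod b (isEffCartier_sect' Y 1) h1
  obtain ⟨s⟩ := nonempty_idealMod_sect Y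
  obtain ⟨m⟩ := Groth.L13.PointBlow.nonempty_idealMod_mul (inv hb.1) (inv hr)
  rw [← Groth.L12.KBunQ.kc_tensor (lf hb.1) (lf hr), ← Groth.L12.KBunQ.kc_iso m (by rw [hmul]; exact lf h1)]
  rw [hmul]
  exact Groth.L12.KBunQ.kc_iso (a0.symm ≪≫ (Scheme.Modules.pullback b).mapIso s ≪≫ a1) (lf h0)

end Groth.L12.RR
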