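import Groth.Agent.L12.RR.Def.Excess
import Groth.Agent.L12.RR.KOps
import Groth.Agent.L12.RR.GRR.SplitDual
import Groth.Agent.L29.DCoh.Amplitude

/-!
# The excess intersection formula in the rings of bundles
-/

set_option autoImplicit false
set_option maxHeartbeats 800000
set_option linter.style.haveILetI false
set_option linter.unusedSectionVars false
set_option backward.isDefEq.respectTransparency false
set_option backward.isDefEq.respectTransparency.types false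

universe u

open CategoryTheory CategoryTheory.Limits AlgebraicGeometry TopologicalSpace

attribute [local instance] HasDerivedCategory.standard

noncomputable section

namespace Groth.L12.RR

open Groth.L12.Kvb (KR)
open Groth.L12.KBunQ (kc kc_iso)
open Groth.L00.Tensor (tensorLeftF tensorIso tensorComm tensorAssoc tensorUnitLeft tensorUnitRight)

/-- `λ_{-1}` is multiplicative on bundles. -/
theorem lamA_add {X : Scheme.{u}} [CompactSpace X] {p q : ℕ} {A B : X.Modules}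
    (hA : FlatMod.IsFinLocFreeOfRank p A) (hB : FlatMod.IsFinLocFreeOfRank q B) :
    lamA (p + q) (kc X A + kc X B) = lamA p (kc X A) * lamA q (kc X B) := by
  obtain ⟨X', _, f, g, hg, hinj, Ms, hMs, hl, hA', -⟩ := GRR.exists_split_dual p X A hA
  have hBf := Groth.L18.MapEpi.isFinLocFreeOfRank_pullback f hB
  obtain ⟨X'', _, f', g', hg', hinj', Ns, hNs, hl', hB', -⟩ := GRR.exists_split_dual q X' _ hBf
  have hlam := Groth.L12.KBunQ.lam_pull f hg
  have hlam' := Groth.L12.KBunQ.lam_pull f' hg'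
  have ht : ∀ {Z : Scheme.{u}} (Ls : Multiset Z.Modules), (∀ M ∈ Ls, FlatMod.IsFinLocFreeOfRank 1 M) →
      ∀ u ∈ Ls.map (kc Z), Thin u := fun {Z} Ls h u hu => by
    obtain ⟨M, hM, rfl⟩ := Multiset.mem_map.1 hu
    exact thin_of_line ⟨M, Groth.L12.KBunQ.subLine_of_rank_one (h M hM), rfl⟩
  apply hinj
  apply hinj'
  rw [map_lamA g hlam, map_lamA g' hlam', map_add, map_add, map_mul, map_mul, map_lamA g hlam, map_lamA g hlam,
    map_lamA g' hlam', map_lamA g' hlam', hA', hg B (Groth.L18.KRRAmple.isFinLocFree_of_rank hB), hB',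
    map_multiset_sum, Multiset.map_map]
  let s : Multiset (KR X'') := Ms.map (g' ∘ kc X')
  let t : Multiset (KR X'') := Ns.map (kc X'')
  have hs : ∀ u ∈ s, Thin u := fun u hu => by
    obtain ⟨M, hM, rfl⟩ := Multiset.mem_map.1 hu
    have hr := hl M hM
    exact thin_of_line ⟨_, Groth.L12.KBunQ.subLine_of_rank_one
      (Groth.L18.MapEpi.isFinLocFreeOfRank_pullback f' hr), hg' M (Groth.L18.KRRAmple.isFinLocFree_of_rank hr)⟩
  have htt : ∀ u ∈ t, Thin u := ht Ns hl'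
  have hps : Multiset.card s = p := (Multiset.card_map _ _).trans hMs
  have hqt : Multiset.card t = q := (Multiset.card_map _ _).trans hNs
  show lamA (p + q) (s.sum + t.sum) = lamA p s.sum * lamA q t.sum
  rw [← Multiset.sum_add, ← hps, ← hqt, ← Multiset.card_add, lamA_sum_thin hs, lamA_sum_thin htt,
    lamA_sum_thin (fun u hu => (Multiset.mem_add.1 hu).elim (hs u) (htt u)), Multiset.map_add, Multiset.prod_add]

variable {X Y X₁ Y₁ : Scheme.{u}}

/-- Pullback of a regular immersion's conormal module onto the one of the base change. -/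
theorem exists_conormal_epi {f : X ⟶ Y} {f₁ : X₁ ⟶ Y₁} {φ : Y₁ ⟶ Y} {ψ : X₁ ⟶ X} [IsClosedImmersion f]
    (hsq : IsPullback f₁ ψ φ f) :
    ∃ q : (Scheme.Modules.pullback ψ).obj (Omega.conormal f) ⟶ Omega.conormal f₁, Epi q := by
  obtain ⟨α, -, hα, -⟩ := Groth.L07.PrinParts.exists_idealMap φ f.ker f₁.ker (ker_eq_comap hsq)
  haveI := hα
  haveI : (Scheme.Modules.pullback f₁).IsLeftAdjoint :=
    (Scheme.Modules.pullbackPushforwardAdjunction f₁).isLeftAdjoint
  let e : (Scheme.Modules.pullback ψ).obj (Omega.conormal f) ≅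
      (Scheme.Modules.pullback f₁).obj ((Scheme.Modules.pullback φ).obj (ClSub.idealMod f.ker)) :=
    (Scheme.Modules.pullbackComp ψ f).app _ ≪≫ (Scheme.Modules.pullbackCongr hsq.w.symm).app _ ≪≫
      ((Scheme.Modules.pullbackComp f₁ φ).app _).symm
  exact ⟨e.hom ≫ (Scheme.Modules.pullback f₁).map α, epi_comp _ _⟩

/-- Excess intersection for elementary imbeddings. -/
theorem excess_elementary {P P₁ : Scheme.{u}} [IsNoetherian X] [IsNoetherian X₁] [IsNoetherian P] [IsNoetherian P₁]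
    (hPe : _root_.KRR.HasEnoughLocFree P) (hPe₁ : _root_.KRR.HasEnoughLocFree P₁)
    {f0 : X ⟶ P} (hf0 : Mor2.IsRegularClosedImmersion f0) {π : P ⟶ X} (hπ : f0 ≫ π = 𝟙 X)
    {f0' : X₁ ⟶ P₁} (hf0' : Mor2.IsRegularClosedImmersion f0') {π' : P₁ ⟶ X₁} (hπ' : f0' ≫ π' = 𝟙 X₁)
    {φ0 : P₁ ⟶ P} {ψ : X₁ ⟶ X} (hw : φ0 ≫ π = π' ≫ ψ) (hw0 : f0' ≫ φ0 = ψ ≫ f0)
    {m d₁ : ℕ} (hc : FlatMod.IsFinLocFreeOfRank (m + d₁) (Omega.conormal f0))
    (hc' : FlatMod.IsFinLocFreeOfRank d₁ (Omega.conormal f0'))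
    {E : P.Modules} (hE : FlatMod.IsFinLocFreeOfRank (m + d₁) E) (q : E ⟶ ClSub.idealMod f0.ker) [Epi q]
    {E' : P₁.Modules} (hE' : FlatMod.IsFinLocFreeOfRank d₁ E') (q' : E' ⟶ ClSub.idealMod f0'.ker) [Epi q']
    (ρ : (Scheme.Modules.pullback φ0).obj E ⟶ E') [Epi ρ] (x : KR X) :
    pull φ0 (pushK f0 hf0 hPe x) = pushK f0' hf0' hPe₁
      (lamA m (pull ψ (kc X (Omega.conormal f0)) - kc X₁ (Omega.conormal f0')) * pull ψ x) := by
  haveI := hf0.1
  haveI := hf0'.1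
  have hE0 := Groth.L18.KRRAmple.isFinLocFree_of_rank hE
  have hE0' := Groth.L18.KRRAmple.isFinLocFree_of_rank hE'
  haveI : Coh.IsQCoh E := (Groth.L16.NegPow.isCoh_of_isFinLocFree hE0).1
  haveI : Coh.IsQCoh E' := (Groth.L16.NegPow.isCoh_of_isFinLocFree hE0').1
  have h1 := pushK_one_zeroScheme f0 hf0 hPe hc hE (q ≫ ClSub.idealModι f0.ker) (ideal_of_epi f0 q)
  have h1' := pushK_one_zeroScheme f0' hf0' hPe₁ hc' hE' (q' ≫ ClSub.idealModι f0'.ker) (ideal_of_epi f0' q')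
  have hx : x = pull f0 (pull π x) := (pull_section hπ x).symm
  have hS : (ShortComplex.mk (kernel.ι ρ) ρ (kernel.condition ρ)).ShortExact :=
    ShortComplex.ShortExact.mk' (ShortComplex.exact_of_f_is_kernel _ (kernelIsKernel _)) inferInstance inferInstance
  have hP := Groth.L18.MapEpi.isFinLocFreeOfRank_pullback φ0 hE
  have hKf : FlatMod.IsFinLocFree (kernel ρ) :=
    Groth.L29.DC.isFinLocFree_kernel_of_epi ρ (Groth.L18.KRRAmple.isFinLocFree_of_rank hP) hE0'
  have hK : FlatMod.IsFinLocFreeOfRank m (kernel ρ) := Groth.L12.KBunQ.rank_left hS hKf hP hE'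
  have hadd : kc P₁ ((Scheme.Modules.pullback φ0).obj E) = kc P₁ (kernel ρ) + kc P₁ E' :=
    Groth.L12.KBunQ.kc_shortExact hS hKf (Groth.L18.KRRAmple.isFinLocFree_of_rank hP) hE0'
  obtain ⟨c⟩ := nonempty_pullback_elementary f0 q hE hc
  obtain ⟨c'⟩ := nonempty_pullback_elementary f0' q' hE' hc'
  have hC : pull ψ (kc X (Omega.conormal f0)) - kc X₁ (Omega.conormal f0') = pull f0' (kc P₁ (kernel ρ)) := by
    rw [← kc_iso c (Groth.L29.LocFree.pullback f0 hE0), ← kc_iso c' (Groth.L29.LocFree.pullback f0' hE0'),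
      ← pull_kc f0 hE0, ← pull_kc f0' hE0', ← pull_comp, ← hw0, pull_comp, pull_kc φ0 hE0, hadd, map_add,
      add_sub_cancel_right]
  rw [hC, ← map_lamA (pull f0') (pull_lam f0'),
    show pull ψ x = pull f0' (pull π' (pull ψ x)) from (pull_section hπ' _).symm, ← map_mul,
    pushK_pull, h1']
  conv_lhs => rw [hx]
  rw [pushK_pull, h1, map_mul, map_lamA (pull φ0) (pull_lam φ0), ← pull_comp, hw, pull_comp, pull_kc φ0 hE0,
    hadd, lamA_add hK hE']
  ring

/-- The excess intersection formula in the rings of bundles. -/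
theorem excess_KR {S : Scheme.{u}} [IsAffine S] [IsNoetherian X] [IsNoetherian Y] [IsNoetherian X₁]
    [IsNoetherian Y₁] {qY : Y ⟶ S} (hqY : _root_.KRR.IsQProjOver qY) {qY₁ : Y₁ ⟶ S}
    (hqY₁ : _root_.KRR.IsQProjOver qY₁) {f : X ⟶ Y} {f₁ : X₁ ⟶ Y₁} {φ : Y₁ ⟶ Y} {ψ : X₁ ⟶ X}
    (hsq : IsPullback f₁ ψ φ f) (hf : Mor2.IsRegularClosedImmersion f) (hf₁ : Mor2.IsRegularClosedImmersion f₁)
    {m d₁ : ℕ} (hd : FlatMod.IsFinLocFreeOfRank (m + d₁) (Omega.conormal f))
    (hd₁ : FlatMod.IsFinLocFreeOfRank d₁ (Omega.conormal f₁))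
    (hYe : _root_.KRR.HasEnoughLocFree Y) (hYe₁ : _root_.KRR.HasEnoughLocFree Y₁) (x : KR X) :
    pull φ (pushK f hf hYe x) = pushK f₁ hf₁ hYe₁
      (lamA m (pull ψ (kc X (Omega.conormal f)) - kc X₁ (Omega.conormal f₁)) * pull ψ x) := by
  haveI := hf.1
  haveI := hf₁.1
  obtain ⟨D⟩ := exists_defo hqY f hf hd
  obtain ⟨D₁⟩ := exists_defo hqY₁ f₁ hf₁ hd₁
  obtain ⟨C⟩ := exists_defoMap hsq D D₁
  haveI := D.noethM
  haveI := D₁.noethM
  haveI := D.noethP
  haveI := D₁.noethP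
  haveI := D.regF.1
  haveI := D₁.regF.1
  haveI := D.closed_it
  haveI := D₁.closed_it
  haveI := D.regf0.1
  haveI := D₁.regf0.1
  haveI := isClosedImmersion_sect' X 1
  haveI := isClosedImmersion_sect' X₁ 1
  haveI : IsNoetherian (CohB1.ProjSpaceOver 1 X) := Groth.L12.KRes.isNoetherian_PY 1 X
  haveI : IsNoetherian (CohB1.ProjSpaceOver 1 X₁) := Groth.L12.KRes.isNoetherian_PY 1 X₁
  let pW := CohB1.ProjSpaceOver.toBase 1 X
  let pW₁ := CohB1.ProjSpaceOver.toBase 1 X₁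
  let iP := ((centre f).ker.comap D.b).subschemeι
  let iP₁ := ((centre f₁).ker.comap D₁.b).subschemeι
  let k := D₁.rest.subschemeι
  haveI : IsLocallyNoetherian D₁.rest.subscheme := LocallyOfFiniteType.isLocallyNoetherian k
  haveI : CompactSpace D₁.rest.subscheme := QuasiCompact.compactSpace_of_compactSpace k
  haveI : IsNoetherian D₁.rest.subscheme := {}
  have hPe := Groth.L12.KRes.hasEnough_of_closed iP D.enoughM
  have hPe₁ := Groth.L12.KRes.hasEnough_of_closed iP₁ D₁.enoughM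
  have hCF := Groth.L18.KRRAmple.isFinLocFree_of_rank D.rankF
  have hCF₁ := Groth.L18.KRRAmple.isFinLocFree_of_rank D₁.rankF
  have hsq0 := sq_it D.F_b D.hit
  have hsq0₁ := sq_it D₁.F_b D₁.hit
  let e := pull (P1.toP1 ψ) (kc _ (Omega.conormal D.F)) - kc _ (Omega.conormal D₁.F)
  let z := pull pW₁ (pull ψ x)
  let Δ := pull C.Φ (pushK D.F D.regF D.enoughM (pull pW x)) -
    pushK D₁.F D₁.regF D₁.enoughM (lamA m e * z)
  have hsec : ∀ i : Fin (1 + 1), P1.sect X₁ i ≫ pW₁ = 𝟙 X₁ := fun i => Groth.L07.BlowLib.sect_toBase X₁ i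
  have hsecX : ∀ i : Fin (1 + 1), P1.sect X i ≫ pW = 𝟙 X := fun i => Groth.L07.BlowLib.sect_toBase X i
  have he : ∀ i : Fin (1 + 1), pull (P1.sect X₁ i) (lamA m e * z) =
      lamA m (pull ψ (pull (P1.sect X i) (kc _ (Omega.conormal D.F))) -
        pull (P1.sect X₁ i) (kc _ (Omega.conormal D₁.F))) * pull ψ x := fun i => by
    rw [map_mul, map_lamA _ (pull_lam _), pull_section (hsec i), map_sub, ← pull_comp,
      Groth.L07.BlowLib.sect_toP1, pull_comp]
  have h0 : pull D₁.it Δ = pull φ (pushK f hf hYe x) - pushK f₁ hf₁ hYe₁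
      (lamA m (pull ψ (kc X (Omega.conormal f)) - kc X₁ (Omega.conormal f₁)) * pull ψ x) := by
    obtain ⟨c⟩ := nonempty_conormal_bc hsq0 D.rankF hd
    obtain ⟨c₁⟩ := nonempty_conormal_bc hsq0₁ D₁.rankF hd₁
    rw [map_sub, ← pull_comp, C.it_Φ, pull_comp, pull_pushK hsq0 D.regF hf D.rankF hd D.enoughM hYe,
      pull_pushK hsq0₁ D₁.regF hf₁ D₁.rankF hd₁ D₁.enoughM hYe₁, pull_section (hsecX 0), he 0,
      pull_kc _ hCF, pull_kc _ hCF₁, kc_iso c (Groth.L29.LocFree.pullback _ hCF),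
      kc_iso c₁ (Groth.L29.LocFree.pullback _ hCF₁)]
  have hinf : pull iP₁ Δ = 0 := by
    obtain ⟨E, q, hq, hE, ⟨eE⟩⟩ := exists_elementary' hd D.strict D.blowUp D.π_centre D.sq_iP D.invN D.eN
    obtain ⟨E', q', hq', hE', ⟨eE'⟩⟩ := exists_elementary' hd₁ D₁.strict D₁.blowUp D₁.π_centre D₁.sq_iP D₁.invN D₁.eN
    haveI := hq
    haveI := hq'
    obtain ⟨t, ht⟩ := exists_conormal_epi hsq
    haveI := ht
    obtain ⟨a⟩ := nonempty_pullback_idealMod C.Φ D.blowUp.1 (by rw [C.exc]; exact D₁.blowUp.1)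
    let N₁ := (Scheme.Modules.pullback C.Φ).obj D.N
    let J₁ := ClSub.idealMod ((centre f₁).ker.comap D₁.b)
    let u : CohB1.tensorMod J₁ N₁ ≅ Coh.structureModule D₁.M :=
      tensorIso (eqToIso (congrArg ClSub.idealMod C.exc.symm) ≪≫ a.symm) (Iso.refl _) ≪≫
        Groth.L29.DC.PullTensor.pullTensor C.Φ _ _ ≪≫ (Scheme.Modules.pullback C.Φ).mapIso D.eN ≪≫
        Groth.L29.LocFree.pullbackUnitIso C.Φ
    let n : N₁ ≅ D₁.N := (tensorUnitLeft _).symm ≪≫ tensorIso (D₁.eN.symm ≪≫ tensorComm _ _) (Iso.refl _) ≪≫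
      tensorAssoc _ _ _ ≪≫ tensorIso (Iso.refl _) u ≪≫ tensorUnitRight _
    let n₁ : (Scheme.Modules.pullback C.φ0).obj ((Scheme.Modules.pullback iP).obj D.N) ≅
        (Scheme.Modules.pullback iP₁).obj D₁.N :=
      (Scheme.Modules.pullbackComp C.φ0 iP).app _ ≪≫ (Scheme.Modules.pullbackCongr C.φ0_iP).app _ ≪≫
        ((Scheme.Modules.pullbackComp iP₁ C.Φ).app _).symm ≪≫ (Scheme.Modules.pullback iP₁).mapIso n
    let c₀ : (Scheme.Modules.pullback C.φ0).obj ((Scheme.Modules.pullback D.π).obj (Omega.conormal f)) ≅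
        (Scheme.Modules.pullback D₁.π).obj ((Scheme.Modules.pullback ψ).obj (Omega.conormal f)) :=
      (Scheme.Modules.pullbackComp C.φ0 D.π).app _ ≪≫ (Scheme.Modules.pullbackCongr C.φ0_π).app _ ≪≫
        ((Scheme.Modules.pullbackComp D₁.π ψ).app _).symm
    let T := tensorLeftF ((Scheme.Modules.pullback iP₁).obj D₁.N)
    haveI : T.IsLeftAdjoint := (Groth.L16.HomSh.tensorHomAdj _).isLeftAdjoint
    haveI : (Scheme.Modules.pullback D₁.π).IsLeftAdjoint :=
      (Scheme.Modules.pullbackPushforwardAdjunction D₁.π).isLeftAdjoint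
    haveI : Epi ((Scheme.Modules.pullback D₁.π).map t) := (Scheme.Modules.pullback D₁.π).map_epi t
    let ρ : (Scheme.Modules.pullback C.φ0).obj E ⟶ E' :=
      ((Scheme.Modules.pullback C.φ0).mapIso eE ≪≫ (Groth.L29.DC.PullTensor.pullTensor C.φ0 _ _).symm ≪≫
        tensorIso n₁ c₀).hom ≫ T.map ((Scheme.Modules.pullback D₁.π).map t) ≫ eE'.inv
    haveI : Epi (T.map ((Scheme.Modules.pullback D₁.π).map t)) := T.map_epi _
    haveI : Epi ρ := epi_comp _ _
    have hiP : Mor2.IsRegularClosedImmersion iP :=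
      isRegular_of_effCartier iP (by rw [Scheme.IdealSheafData.ker_subschemeι]; exact D.blowUp.1)
    have hs1 := D.sq_iP
    obtain ⟨c⟩ := nonempty_conormal_bc D.sq_iP D.rankF D.rankf0
    obtain ⟨c₁⟩ := nonempty_conormal_bc D₁.sq_iP D₁.rankF D₁.rankf0
    rw [map_sub, ← pull_comp, ← C.φ0_iP, pull_comp, pull_pushK D.sq_iP D.regF D.regf0 D.rankF D.rankf0 D.enoughM hPe,
      pull_pushK D₁.sq_iP D₁.regF D₁.regf0 D₁.rankF D₁.rankf0 D₁.enoughM hPe₁, pull_section (hsecX 1), he 1,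
      pull_kc _ hCF, pull_kc _ hCF₁, kc_iso c (Groth.L29.LocFree.pullback _ hCF),
      kc_iso c₁ (Groth.L29.LocFree.pullback _ hCF₁), sub_eq_zero]
    exact excess_elementary hPe hPe₁ D.regf0 D.f0_π D₁.regf0 D₁.f0_π C.φ0_π C.sq0 D.rankf0 D₁.rankf0 hE q hE' q' ρ x
  have hrest : pull k Δ = 0 := by
    have hdis : ∀ z, (k ≫ C.Φ) z ∉ Set.range D.F := fun z hz => D₁.disjoint_rest z (by
      have hr : Set.range D₁.F = C.Φ ⁻¹' Set.range D.F := by
        rw [← C.sqF.isoPullback_hom_fst, Scheme.Hom.comp_base, TopCat.coe_comp, Set.range_comp,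
          Set.range_eq_univ.2 C.sqF.isoPullback.hom.surjective, Set.image_univ]
        exact Scheme.Pullback.range_fst _ _
      rw [hr]
      exact hz)
    rw [map_sub, ← pull_comp, pull_pushK_eq_zero D.regF D.enoughM _ hdis,
      pull_pushK_eq_zero D₁.regF D₁.enoughM _ D₁.disjoint_rest, sub_zero]
  have hiP₁ : BlowUp.IsEffCartierIdeal iP₁.ker := by
    rw [Scheme.IdealSheafData.ker_subschemeι]; exact D₁.blowUp.1
  have hR : BlowUp.IsEffCartierIdeal k.ker := by
    rw [Scheme.IdealSheafData.ker_subschemeι]; exact D₁.cartier_rest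
  let gt := pushK D₁.it (isRegular_of_effCartier D₁.it D₁.cartier_it) D₁.enoughM
  let gP := pushK iP₁ (isRegular_of_effCartier _ hiP₁) D₁.enoughM
  let gR := pushK k (isRegular_of_effCartier _ hR) D₁.enoughM
  have e1 : gt (pull D₁.it Δ) = (1 - kc D₁.M (ClSub.idealMod D₁.it.ker)) * Δ :=
    (pushK_pull _ _ _ Δ).trans (congrArg (· * Δ) (pushK_one_divisor _ _ _ D₁.cartier_it))
  have e2 : (1 - kc D₁.M (ClSub.idealMod ((centre f₁).ker.comap D₁.b))) * Δ = 0 := by
    refine Eq.trans ?_ gP.map_zero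
    rw [← hinf]
    refine ((pushK_pull _ _ _ Δ).trans (congrArg (· * Δ) ?_)).symm
    rw [pushK_one_divisor _ _ _ hiP₁, Scheme.IdealSheafData.ker_subschemeι]
  have e3 : (1 - kc D₁.M (ClSub.idealMod D₁.rest)) * Δ = 0 := by
    refine Eq.trans ?_ gR.map_zero
    rw [← hrest]
    refine ((pushK_pull _ _ _ Δ).trans (congrArg (· * Δ) ?_)).symm
    rw [pushK_one_divisor _ _ _ hR, Scheme.IdealSheafData.ker_subschemeι]
  have e4 : gt (pull D₁.it Δ) = 0 := by
    rw [e1, D₁.ker_it, linEquiv D₁.blowUp D₁.cartier_rest D₁.rest_mul]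
    linear_combination e2 + kc D₁.M (ClSub.idealMod ((centre f₁).ker.comap D₁.b)) * e3
  have := congrArg D₁.retr e4
  rw [D₁.retr_spec, map_zero, h0] at this
  exact sub_eq_zero.1 this

end Groth.L12.RR
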