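import Groth.Agent.L13.BlowP1.Exceptional
import Groth.Agent.L12.RR.Def.ExcessK
import Groth.Agent.L12.KBunQ.Basis
import Groth.Agent.L12.KBunQ.Proj

/-!
# The exceptional divisor of a blow-up in a regularly immersed subscheme

`ψ : X₁ ⟶ X` has an atlas by projective spaces carrying the conormal sheaf to `O(1)`; hence the
powers of its class are independent over `K(X)`, and `λ_{-1}` of the excess class is not a zero divisor on `K(X)`.
The first theorem is L13's computation of the exceptional divisor, with the compatibility over the base.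
-/

set_option autoImplicit false
set_option maxHeartbeats 800000
set_option linter.style.haveILetI false
set_option linter.unusedSectionVars false
set_option backward.isDefEq.respectTransparency false

universe u

open CategoryTheory CategoryTheory.Limits AlgebraicGeometry TopologicalSpace Opposite
open Groth.L22 Groth.L13.BU Groth.L11.BlowSmooth Groth.L13.BlowP1
open Groth.L18.Frame
open Groth.Agent.L19.IdealInvertible (io io_smul io_inj)

noncomputable section

namespace Groth.L13.BlowP1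

variable {A : Type u} [CommRing A] {n : ℕ} {f : Fin (n + 1) → A} {X : Scheme.{u}}
  {b : X ⟶ Spec (CommRingCat.of A)}

variable (f b) in
/-- Exceptional divisor of a blow-up in a quasi-regular sequence. -/
theorem exists_exceptional_over (hb : BlowUp.IsBlowUp b (idealOf (sI f))) (hf : CAlgX.IsQuasiRegular f) :
    ∃ e : Groth.L18.PUP.P n (A ⧸ sI f) ≅ (exIdeal f b).subscheme,
      e.hom ≫ exToSpec f b = Groth.L18.PUP.pr n (A ⧸ sI f) ∧
      Nonempty ((Scheme.Modules.pullback (e.hom ≫ exι f b)).obj (ClSub.idealMod (exIdeal f b)) ≅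
        Groth.L18.PUP.O1 n (A ⧸ sI f)) := by
  obtain ⟨C⟩ := nonempty_charts hb
  let I := exIdeal f b
  let ι := exι f b
  let M := ClSub.idealMod I
  have hinv : PicF.IsInvertible M := (Groth.Agent.L19.IdealInvertible.isEffCartier_iff _).2 hb.1
  let V : Fin (n + 1) → I.subscheme.Opens := fun i => ι ⁻¹ᵁ C.W i
  let s : Fin (n + 1) → Γ((Scheme.Modules.pullback ι).obj M, ⊤) := fun i => pull ι M ⊤ (sec f b i)
  let F : ∀ i, Fin (n + 1) → Γ(I.subscheme, V i) := fun i j => ι.app (C.W i) (C.F i j)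
  have hs : ∀ i (W : X.Opens), rs _ (le_top : ι ⁻¹ᵁ W ≤ ⊤) (s i) = pull ι M W (rs M le_top (sec f b i)) :=
    fun i W => pull_rs ι M (le_top : W ≤ ⊤) _
  obtain ⟨r, hr, τ, hWeq, hcoef⟩ := exists_hom_charts (n := n) (exToSpec f b)
    ((Scheme.Modules.pullback ι).obj M) (Groth.L18.Ample.isInvertible_pullback ι hinv) s V
    (fun z => C.cover (ι z)) (fun i => by rw [hs]; exact (frame_sec hinv C i).pullback ι M) F
    (fun i j => by rw [hs, hs, ← pull_smul, F_smul]) (fun i j => by
      rw [← Scheme.preimage_basicOpen]; exact ι.preimage_mono (C.basicOpen_F i j))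
  haveI : IsIso r := by
    refine isIso_of_charts r fun i => ⟨(hWeq i).symm ▸ (C.affine i).preimage ι, ?_⟩
    have hsurjι : Function.Surjective (ι.app (C.W i)) :=
      ((isClosedImmersion_iff_isAffineHom (f := ι)).mp inferInstance).2 _ (C.affine i)
    let mk := Ideal.Quotient.mk ((sI f).map (sh f i))
    let P := MvPolynomial {j // j ≠ i} (A ⧸ sI f)
    let pe : P ≃+* SC f i ⧸ (sI f).map (sh f i) :=
      RingEquiv.ofBijective (pres f i) ⟨pres_injective f i hf, pres_surjective f i⟩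
    let θ : Γ(X, C.W i) →+* P := (pe.symm.toRingHom.comp mk).comp (C.e i).toRingHom
    have hθker : ∀ a, ι.app (C.W i) a = 0 → θ a = 0 := by
      intro a ha
      rw [exι_app_eq_zero (C.affine i), ideal_exIdeal] at ha
      have hle : Ideal.span (Set.range fun j => gl b (C.W i) (f j)) ≤ RingHom.ker θ := by
        rw [Ideal.span_le]
        rintro _ ⟨j, rfl⟩
        show pe.symm (mk (C.e i (gl b (C.W i) (f j)))) = 0
        rw [C.e_gl, show mk (sh f i (f j)) = 0 from Ideal.Quotient.eq_zero_iff_mem.mpr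
          (Ideal.mem_map_of_mem _ (Ideal.subset_span ⟨j, rfl⟩)), map_zero]
      exact hle ha
    let θ' : Γ(I.subscheme, V i) →+* P :=
      RingHom.liftOfSurjective (ι.app (C.W i)).hom hsurjι ⟨θ, fun a ha => hθker a ha⟩
    have hθ' : ∀ a, θ' (ι.app (C.W i) a) = θ a := fun a =>
      RingHom.liftOfRightInverse_comp_apply _ _ _ _ a
    have hpC : ∀ a : A, θ (gl b (C.W i) a) = MvPolynomial.C (Ideal.Quotient.mk (sI f) a) := by
      intro a
      apply pe.injective
      show pe (pe.symm (mk (C.e i (gl b (C.W i) a)))) = pres f i _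
      rw [RingEquiv.apply_symm_apply, C.e_gl, pres, MvPolynomial.eval₂Hom_C]
      rfl
    have hpX : ∀ j (hj : j ≠ i), θ (C.F i j) = MvPolynomial.X ⟨j, hj⟩ := by
      intro j hj
      apply pe.injective
      show pe (pe.symm (mk (C.e i (C.F i j)))) = pres f i _
      rw [RingEquiv.apply_symm_apply, C.e_F, pres, MvPolynomial.eval₂Hom_X']
    let back : P →+* HomogeneousLocalization.Away (CohB1.polyGrading n (A ⧸ sI f))
        (MvPolynomial.X i : MvPolynomial (Fin (n + 1)) (A ⧸ sI f)) :=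
      MvPolynomial.eval₂Hom (Groth.L18.PS.chartScalar n (A ⧸ sI f) i) fun j => Groth.L18.PS.coord i j.1
    let S := Proj.awayToSection (CohB1.polyGrading n (A ⧸ sI f))
      (MvPolynomial.X i : MvPolynomial (Fin (n + 1)) (A ⧸ sI f))
    haveI : IsIso S := (Proj.basicOpenIsoAway (CohB1.polyGrading n (A ⧸ sI f)) _
      (Groth.L18.PS.X_mem n i) one_pos).isIso_hom
    let χ := r.appLE (Groth.L18.PUP.D i) (V i) (hWeq i).ge
    have hcc : ∀ j, χ (S (Groth.L18.PS.coord i j)) = F i j := hcoef i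
    have hsc : ∀ a : A, χ (S (Groth.L18.PS.chartScalar n (A ⧸ sI f) i (Ideal.Quotient.mk _ a))) =
        ι.app (C.W i) (gl b (C.W i) a) := by
      intro a
      have h1 : S (Groth.L18.PS.chartScalar n (A ⧸ sI f) i (Ideal.Quotient.mk _ a)) =
          gl (Groth.L18.PUP.pr n (A ⧸ sI f)) (Groth.L18.PUP.D i) (Ideal.Quotient.mk _ a) :=
        S_chartScalar i (Ideal.Quotient.mk _ a)
      rw [h1, ← gl_exToSpec, appLE_gl r (Groth.L18.PUP.pr n (A ⧸ sI f)) (hWeq i).ge, hr]
    have hleft : back.comp (θ'.comp (χ.hom.comp S.hom)) = RingHom.id _ := by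
      refine Groth.L18.PS.chart_ringHom_ext i (RingHom.ext fun c => ?_) fun j => ?_
      · obtain ⟨a, rfl⟩ := Ideal.Quotient.mk_surjective c
        show back (θ' (χ (S (Groth.L18.PS.chartScalar n (A ⧸ sI f) i (Ideal.Quotient.mk _ a))))) = _
        rw [hsc, hθ', hpC, MvPolynomial.eval₂Hom_C]
        rfl
      · show back (θ' (χ (S (Groth.L18.PS.coord i j)))) = Groth.L18.PS.coord i j
        rw [hcc]
        show back (θ' (ι.app (C.W i) (C.F i j))) = _
        rw [hθ']
        by_cases hj : j = i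
        · subst hj
          have h1 : θ (C.F j j) = 1 := by
            show pe.symm (mk (C.e j (C.F j j))) = 1
            rw [C.e_F, sfr_self, map_one, map_one]
          rw [h1, map_one, Groth.L18.PS.coord_self]
        · rw [hpX j hj, MvPolynomial.eval₂Hom_X']
    have hχ : Function.Bijective χ := by
      refine ⟨fun x y hxy => ?_, fun z => ?_⟩
      · obtain ⟨x', rfl⟩ := (ConcreteCategory.bijective_of_isIso S).2 x
        obtain ⟨y', rfl⟩ := (ConcreteCategory.bijective_of_isIso S).2 y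
        have h1 := RingHom.congr_fun hleft x'
        have h2 := RingHom.congr_fun hleft y'
        simp only [RingHom.comp_apply, RingHom.id_apply] at h1 h2
        have h3 : x' = y' := h1.symm.trans ((congrArg (fun t => back (θ' t)) hxy).trans h2)
        rw [h3]
      · obtain ⟨w, rfl⟩ := hsurjι z
        have : (Subring.comap (ι.app (C.W i)).hom χ.hom.range) = ⊤ := by
          refine C.generated i _ (fun a => ⟨_, hsc a⟩) fun j => ⟨_, hcc j⟩
        obtain ⟨y, hy⟩ := (this ▸ Subring.mem_top w : w ∈ Subring.comap (ι.app (C.W i)).hom χ.hom.range)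
        exact ⟨y, hy⟩
    exact bijective_app_of_appLE r (hWeq i) hχ
  refine ⟨(asIso r).symm, by simp [← hr], ⟨?_⟩⟩
  exact ((Scheme.Modules.pullbackComp (inv r) ι).app M).symm ≪≫
    (Scheme.Modules.pullback (inv r)).mapIso τ.symm ≪≫
    (Scheme.Modules.pullbackComp (inv r) r).app _ ≪≫
    eqToIso (congrArg (fun g => (Scheme.Modules.pullback g).obj (Groth.L18.PUP.O1 n (A ⧸ sI f)))
      (IsIso.inv_hom_id r)) ≪≫ (Scheme.Modules.pullbackId _).app _

end Groth.L13.BlowP1

namespace Groth.L12.RR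

open Groth.L12.KBun (Atlas)
open Groth.L20.PnPic (toPt isPullback_toPt)
open Groth.L12.Kvb (KR)
open Groth.L12.KBunQ (kc kc_iso Setup)

/-- Around every point of a regularly immersed subscheme of conormal rank `d`, `d` quasi-regular equations. -/
theorem exists_qreg_chart {X Y : Scheme.{u}} (f : X ⟶ Y) (hf : Mor2.IsRegularClosedImmersion f) {d : ℕ}
    (hd : FlatMod.IsFinLocFreeOfRank d (Omega.conormal f)) (z : X) :
    ∃ (U : Y.affineOpens) (g : Fin d → Γ(Y, U.1)), f z ∈ U.1 ∧ f.ker.ideal U = sI g ∧ CAlgX.IsQuasiRegular g := by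
  haveI := hf.1
  obtain ⟨U, hU, hz, rs, hrs, hker⟩ := hf.2 z
  obtain ⟨c, hc⟩ := exists_chart_of_seq f ⟨U, hU⟩ hrs.toIsWeaklyRegular hker
  have hzc : z ∈ f ⁻¹ᵁ c.U.1 := by rw [hc]; exact hz
  obtain ⟨V, hzV, ⟨e⟩⟩ := hd z
  obtain ⟨e'⟩ := Groth.L12.FinCov.nonempty_restrict_iso_free (b := c.cl) c.isBasisS_cl
  obtain rfl := Groth.L18.KRRAmple.rank_unique hzV hzc e e'
  refine ⟨⟨U, hU⟩, rs.get, hz, ?_, Groth.L07.QReg.isQuasiRegular_of_isWeaklyRegular ?_⟩
  · rw [hker]
    show Ideal.ofList rs = Ideal.span (Set.range rs.get)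
    rw [Set.range_list_get]
  · rw [List.ofFn_get]; exact hrs.toIsWeaklyRegular

/-- The pullback of an effective Cartier ideal onto an effective Cartier ideal. -/
theorem nonempty_idealMod_pullback {X Y : Scheme.{u}} (h : X ⟶ Y) {I : Y.IdealSheafData} {I' : X.IdealSheafData}
    (hI : BlowUp.IsEffCartierIdeal I) (hI' : BlowUp.IsEffCartierIdeal I') (e : I' = I.comap h) :
    Nonempty ((Scheme.Modules.pullback h).obj (ClSub.idealMod I) ≅ ClSub.idealMod I') := by
  obtain ⟨α, -, hα, -⟩ := Groth.L07.PrinParts.exists_idealMap h I I' e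
  haveI := hα
  haveI := isIso_of_epi_rank α
    (Groth.L12.FinCov.isFinLocFreeOfRank_one_of_isInvertible
      (Groth.L18.Ample.isInvertible_pullback h ((Groth.Agent.L19.IdealInvertible.isEffCartier_iff _).2 hI)))
    (Groth.L12.FinCov.isFinLocFreeOfRank_one_of_isInvertible
      ((Groth.Agent.L19.IdealInvertible.isEffCartier_iff _).2 hI'))
  exact ⟨asIso α⟩

/-- An open immersion from projective space over the ring of an open, given one over an isomorphic ring. -/
theorem exists_chart_of_open {X P : Scheme.{u}} {π : P ⟶ X} {O1 : P.Modules} {r : ℕ} {V : X.Opens}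
    (hV : IsAffineOpen V) {B : Type u} [CommRing B] (v : Spec (CommRingCat.of B) ⟶ X) [IsOpenImmersion v]
    (hv : Set.range v = (V : Set X)) (k : CohB1.ProjSpace r B ⟶ P)
    (hk : IsPullback k (CohB1.ProjSpace.toSpec r B) π v)
    (e : (Scheme.Modules.pullback k).obj O1 ≅ Twist.twistProjSpace r B 1) :
    ∃ (h : CohB1.ProjSpace r Γ(X, V) ⟶ P) (_ : IsOpenImmersion h), h.opensRange = π ⁻¹ᵁ V ∧
      h ≫ π = CohB1.ProjSpace.toSpec r Γ(X, V) ≫ hV.fromSpec ∧
      Nonempty ((Scheme.Modules.pullback h).obj O1 ≅ Twist.twistProjSpace r Γ(X, V) 1) := by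
  haveI : IsOpenImmersion hV.fromSpec := inferInstance
  have hr : Set.range hV.fromSpec = (V : Set X) := hV.range_fromSpec
  let α : Spec Γ(X, V) ≅ Spec (CommRingCat.of B) := IsOpenImmersion.isoOfRangeEq hV.fromSpec v (hr.trans hv.symm)
  have hα : α.hom ≫ v = hV.fromSpec := IsOpenImmersion.isoOfRangeEq_hom_fac _ _ _
  have hB := isPullback_toPt r v
  let β : CohB1.ProjSpace r Γ(X, V) ⟶ CohB1.ProjSpace r B :=
    hB.lift (toPt r hV.fromSpec) (CohB1.ProjSpace.toSpec r Γ(X, V) ≫ α.hom)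
      (by rw [(isPullback_toPt r hV.fromSpec).w, Category.assoc, hα])
  have hβ : IsPullback β (CohB1.ProjSpace.toSpec r Γ(X, V)) (CohB1.ProjSpace.toSpec r B) α.hom := by
    refine IsPullback.of_right ?_ (hB.lift_snd _ _ _) hB
    rw [hB.lift_fst, hα]
    exact isPullback_toPt r hV.fromSpec
  have hsq : IsPullback (β ≫ k) (CohB1.ProjSpace.toSpec r Γ(X, V)) π hV.fromSpec := by
    rw [← hα]; exact hβ.paste_horiz hk
  haveI : IsOpenImmersion (β ≫ k) := MorphismProperty.of_isPullback hsq.flip inferInstance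
  refine ⟨β ≫ k, inferInstance, ?_, hsq.w, ⟨?_⟩⟩
  · refine Opens.ext ?_
    show Set.range (β ≫ k) = π ⁻¹' (V : Set X)
    rw [← hr, ← hsq.isoPullback_hom_fst, Scheme.Hom.comp_base, TopCat.coe_comp, Set.range_comp,
      Set.range_eq_univ.2 hsq.isoPullback.hom.surjective, Set.image_univ]
    exact Scheme.Pullback.range_fst _ _
  · exact ((Scheme.Modules.pullbackComp β k).app O1).symm ≪≫ (Scheme.Modules.pullback β).mapIso
        (e ≪≫ (Groth.L16.ProjSpace.nonempty_pullback_twistOver_iso (r := r) v 1).some.symm) ≪≫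
      (Scheme.Modules.pullbackComp β (toPt r v)).app _ ≪≫ (Scheme.Modules.pullbackCongr (hB.lift_fst _ _ _)).app _ ≪≫
      (Groth.L16.ProjSpace.nonempty_pullback_twistOver_iso (r := r) hV.fromSpec 1).some

/-- The exceptional divisor of the blow-up in a regularly immersed subscheme is a bundle of projective
spaces, with its conormal sheaf as `O(1)`. -/
theorem exists_atlas_exceptional {X Y X₁ Y₁ : Scheme.{u}} {f : X ⟶ Y} (hf : Mor2.IsRegularClosedImmersion f)
    {r : ℕ} (hd : FlatMod.IsFinLocFreeOfRank (r + 1) (Omega.conormal f)) {φ : Y₁ ⟶ Y}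
    (hφ : BlowUp.IsBlowUp φ f.ker) {f₁ : X₁ ⟶ Y₁} {ψ : X₁ ⟶ X} (hsq : IsPullback f₁ ψ φ f) :
    Nonempty (Atlas ψ (Omega.conormal f₁) r) := by
  haveI := hf.1
  haveI : IsClosedImmersion f₁ := MorphismProperty.of_isPullback hsq.flip inferInstance
  choose U g hzU hg hq using exists_qreg_chart f hf hd
  have key : ∀ z, ∃ (h : CohB1.ProjSpace r Γ(X, f ⁻¹ᵁ (U z).1) ⟶ X₁) (_ : IsOpenImmersion h),
      h.opensRange = ψ ⁻¹ᵁ (f ⁻¹ᵁ (U z).1) ∧
      h ≫ ψ = CohB1.ProjSpace.toSpec r Γ(X, f ⁻¹ᵁ (U z).1) ≫ ((U z).2.preimage f).fromSpec ∧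
      Nonempty ((Scheme.Modules.pullback h).obj (Omega.conormal f₁) ≅
        Twist.twistProjSpace r Γ(X, f ⁻¹ᵁ (U z).1) 1) := by
    intro z
    let w := (U z).2.fromSpec
    haveI : IsOpenImmersion w := inferInstance
    have hw : f.ker.comap w = idealOf (sI (g z)) := by rw [comap_fromSpec, hg]
    obtain ⟨v, hvo, hvf, hvr⟩ := exists_closed_chart f w _ hw
    haveI := hvo
    let b := pullback.fst w φ
    let iB := pullback.snd w φ
    have hb : BlowUp.IsBlowUp b (idealOf (sI (g z))) := hw ▸ Groth.L13.BU.isBlowUp_pullback w hφ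
    obtain ⟨e, he, ⟨τ⟩⟩ := Groth.L13.BlowP1.exists_exceptional_over (g z) b hb (hq z)
    let mk := Spec.map (CommRingCat.ofHom (Ideal.Quotient.mk (sI (g z))))
    haveI : IsClosedImmersion mk := IsClosedImmersion.spec_of_surjective _ Ideal.Quotient.mk_surjective
    have hE : IsPullback (exι (g z) b) (exToSpec (g z) b) b mk := by
      refine isPullback_of_ker _ _ _ _ ?_ ?_
      · refine ext_of_isAffine (CommRingCat.hom_ext (RingHom.ext fun a => ?_))
        obtain ⟨a, rfl⟩ := (ConcreteCategory.bijective_of_isIso (Scheme.ΓSpecIso (CommRingCat.of Γ(Y, (U z).1))).inv).2 a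
        show ProjUP.toGlobal (exι (g z) b ≫ b) a = (exToSpec (g z) b).appTop (mk.appTop _)
        rw [show mk.appTop ((Scheme.ΓSpecIso (CommRingCat.of Γ(Y, (U z).1))).inv a) =
          (Scheme.ΓSpecIso (CommRingCat.of (Γ(Y, (U z).1) ⧸ sI (g z)))).inv (Ideal.Quotient.mk _ a) from
            (congr($(Scheme.ΓSpecIso_inv_naturality (CommRingCat.ofHom (Ideal.Quotient.mk (sI (g z))))) a)).symm]
        show _ = ProjUP.toGlobal (exToSpec (g z) b) _
        rw [toGlobal_exToSpec, exHom, Ideal.Quotient.lift_mk]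
      · rw [Scheme.IdealSheafData.ker_subschemeι, ker_SpecMap_mk]
    have hP : IsPullback (e.hom ≫ exι (g z) b) (CohB1.ProjSpace.toSpec r (Γ(Y, (U z).1) ⧸ sI (g z))) b mk :=
      hE.of_iso e.symm (Iso.refl _) (Iso.refl _) (Iso.refl _) (by simp) (by simp [← he]) (by simp) (by simp)
    have hout : IsPullback ((e.hom ≫ exι (g z) b) ≫ iB) (CohB1.ProjSpace.toSpec r (Γ(Y, (U z).1) ⧸ sI (g z)))
        φ (v ≫ f) := by
      rw [hvf]
      exact hP.paste_horiz (IsPullback.of_hasPullback w φ).flip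
    let k := hsq.lift ((e.hom ≫ exι (g z) b) ≫ iB)
      (CohB1.ProjSpace.toSpec r (Γ(Y, (U z).1) ⧸ sI (g z)) ≫ v) (by rw [hout.w, Category.assoc])
    have hk1 : k ≫ f₁ = (e.hom ≫ exι (g z) b) ≫ iB := hsq.lift_fst _ _ _
    have hk : IsPullback k (CohB1.ProjSpace.toSpec r (Γ(Y, (U z).1) ⧸ sI (g z))) ψ v := by
      refine IsPullback.of_right ?_ (hsq.lift_snd _ _ _) hsq
      rw [hk1]; exact hout
    have hcart : BlowUp.IsEffCartierIdeal f₁.ker := by rw [ker_eq_comap hsq]; exact hφ.1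
    have hcomap : exIdeal (g z) b = f₁.ker.comap iB := by
      rw [ker_eq_comap hsq, ← Scheme.IdealSheafData.comap_comp, ← pullback.condition,
        Scheme.IdealSheafData.comap_comp, hw]
    obtain ⟨α⟩ := nonempty_idealMod_pullback iB hcart hb.1 hcomap
    refine exists_chart_of_open _ v ?_ k hk ?_
    · refine Set.eq_of_subset_of_subset ?_ fun x hx => hvr x (by rw [(U z).2.range_fromSpec]; exact hx)
      rintro _ ⟨a, rfl⟩
      show f (v a) ∈ (U z).1
      rw [← Scheme.Hom.comp_apply, hvf, Scheme.Hom.comp_apply]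
      exact (U z).2.range_fromSpec.le ⟨_, rfl⟩
    · exact (Scheme.Modules.pullbackComp k f₁).app _ ≪≫ (Scheme.Modules.pullbackCongr hk1).app _ ≪≫
        ((Scheme.Modules.pullbackComp (e.hom ≫ exι (g z) b) iB).app _).symm ≪≫
        (Scheme.Modules.pullback (e.hom ≫ exι (g z) b)).mapIso α ≪≫ τ
  choose h hi hr hc hτ using key
  exact ⟨⟨fun z => f ⁻¹ᵁ (U z).1, fun z => (U z).2.preimage f, hzU, h, hi, hr, hc, fun z => (hτ z).some⟩⟩

/-- A partial alternating sum in the basis of powers. -/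
theorem exists_coeffs {R R' : Type*} [CommRing R] [CommRing R'] (g : R →+* R') (l : R') (w : ℕ → R') (c : ℕ → R)
    (hw0 : w 0 = 1) (n : ℕ) (hw : ∀ i, i < n → w (i + 1) = g (c (i + 1)) - w i * l) :
    ∃ a : ℕ → R, a n = 1 ∧
      ∑ i ∈ Finset.range (n + 1), (-1 : R') ^ i * w i = ∑ j ∈ Finset.range (n + 1), g (a j) * l ^ j := by
  induction n with
  | zero => exact ⟨fun _ => 1, rfl, by simp [hw0]⟩
  | succ n ih =>
    obtain ⟨a, ha, hs⟩ := ih fun i hi => hw i (by omega)
    let a0 := 1 + ∑ i ∈ Finset.range (n + 1), (-1 : R) ^ (i + 1) * c (i + 1)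
    refine ⟨fun j => if j = 0 then a0 else a (j - 1), by simp [ha], ?_⟩
    rw [Finset.sum_range_succ', Finset.sum_range_succ' (n := n + 1) (f := fun j => g _ * l ^ j)]
    have h1 : ∑ i ∈ Finset.range (n + 1), (-1 : R') ^ (i + 1) * w (i + 1) =
        g (∑ i ∈ Finset.range (n + 1), (-1 : R) ^ (i + 1) * c (i + 1)) +
          l * ∑ i ∈ Finset.range (n + 1), (-1 : R') ^ i * w i := by
      rw [map_sum, Finset.mul_sum, ← Finset.sum_add_distrib]
      refine Finset.sum_congr rfl fun i hi => ?_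
      rw [hw i (Finset.mem_range.1 hi), map_mul, map_pow, map_neg, map_one]
      ring
    rw [h1, hs, Finset.mul_sum]
    simp only [hw0, a0, Nat.add_sub_cancel, Nat.succ_ne_zero, if_false, if_true, map_add, map_one, pow_zero, one_mul, mul_one]
    rw [Finset.sum_congr rfl fun j _ => show l * (g (a j) * l ^ j) = g (a j) * l ^ (j + 1) by ring]
    ring

/-- `λ_{-1}` of the excess class is not a zero divisor on the ring of the centre. -/
theorem excess_injective {X Y X₁ Y₁ : Scheme.{u}} [IsNoetherian X] [IsNoetherian X₁] {f : X ⟶ Y}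
    (hf : Mor2.IsRegularClosedImmersion f)
    {r : ℕ} (hd : FlatMod.IsFinLocFreeOfRank (r + 1) (Omega.conormal f)) {φ : Y₁ ⟶ Y}
    (hφ : BlowUp.IsBlowUp φ f.ker) {f₁ : X₁ ⟶ Y₁} {ψ : X₁ ⟶ X} (hsq : IsPullback f₁ ψ φ f)
    (hd₁ : FlatMod.IsFinLocFreeOfRank 1 (Omega.conormal f₁)) {x : KR X}
    (hx : lamA r (pull ψ (kc X (Omega.conormal f)) - kc X₁ (Omega.conormal f₁)) * pull ψ x = 0) : x = 0 := by
  haveI := hf.1
  obtain ⟨A⟩ := exists_atlas_exceptional hf hd hφ hsq
  obtain ⟨q, hq⟩ := exists_conormal_epi hsq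
  have hO := Groth.L22.GenRank.isInvertible_of_rank_one hd₁
  obtain ⟨L, hL, hLO⟩ := Groth.L08.Cube.exists_inverse hO
  have D : Setup ψ q L r := ⟨hq, hd₁, hd, hL, hLO.map fun i => Groth.L00.Tensor.tensorComm _ _ ≪≫ i⟩
  have hE := Groth.L18.KRRAmple.isFinLocFree_of_rank hd
  have hW := D.vbW
  haveI : Coh.IsQCoh (Omega.conormal f) := Groth.L29.DC.PCQCoh.isQCoh_of_isFinLocFree hE
  haveI : Coh.IsQCoh (Omega.conormal f₁) :=
    Groth.L29.DC.PCQCoh.isQCoh_of_isFinLocFree (Groth.L18.KRRAmple.isFinLocFree_of_rank hd₁)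
  haveI : Coh.IsQCoh (Groth.L12.KBun.tautSC q).X₁ := Groth.L29.DC.PCQCoh.isQCoh_of_isFinLocFree hW
  let g := pull ψ
  have hg : ∀ M, FlatMod.IsFinLocFree M → g (kc X M) = kc X₁ ((Scheme.Modules.pullback ψ).obj M) :=
    fun M hM => pull_kc ψ hM
  let W := (Groth.L12.KBun.tautSC q).X₁
  have hWc : g (kc X (Omega.conormal f)) - kc X₁ (Omega.conormal f₁) = kc X₁ W := by
    rw [hg _ hE]
    exact sub_eq_iff_eq_add.2 (Groth.L12.KBunQ.kc_shortExact (Groth.L12.KBunQ.shortExact_tautSC hq) hW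
      (Groth.L29.LocFree.pullback ψ hE) (Groth.L18.KRRAmple.isFinLocFree_of_rank hd₁))
  have hlam : ∀ i, LambdaRing.LambdaOps.lam i (kc X₁ W) = kc X₁ (Groth.L12.ExtSh.wedgeMod W i) :=
    fun i => Groth.L12.Kvb.lam_cl hW (Groth.L12.ExtSh.isExtPow_wedgeMod W i)
  obtain ⟨a, ha, hs⟩ := exists_coeffs g (kc X₁ (Omega.conormal f₁))
    (fun i => LambdaRing.LambdaOps.lam i (kc X₁ W)) (fun i => kc X (Groth.L12.ExtSh.wedgeMod (Omega.conormal f) i))
    (LambdaRing.LambdaOps.lam_zero _) r fun i _ => by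
      simp only [hlam]
      rw [D.pull_wedge g hg i, add_sub_cancel_right]
  have h0 : ∑ j ∈ Finset.range (r + 1), g (a j * x) * kc X₁ (Omega.conormal f₁) ^ j = 0 := by
    rw [← hx, show g (kc X (Omega.conormal f)) - kc X₁ (Omega.conormal f₁) = kc X₁ W from hWc]
    show _ = (∑ i ∈ Finset.range (r + 1), _) * g x
    rw [hs, Finset.sum_mul]
    exact Finset.sum_congr rfl fun j _ => by rw [map_mul]; ring
  simpa [ha] using D.indep A g hg (a := fun j => a j * x) h0 (le_refl r)

end Groth.L12.RR
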