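import Groth.Agent.L12.RR.Def.Build
import Groth.Agent.L12.KBunQ.Taut

/-!
# The deformation spaces of a square of regular immersions
-/

set_option autoImplicit false
set_option maxHeartbeats 800000
set_option linter.style.haveILetI false
set_option linter.unusedSectionVars false
set_option backward.isDefEq.respectTransparency false
set_option backward.isDefEq.respectTransparency.types false

universe u

open CategoryTheory CategoryTheory.Limits AlgebraicGeometry TopologicalSpace

attribute [local instance] HasDerivedCategory.standard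

noncomputable section

namespace Groth.L12.RR

open Groth.L12.Kvb (KR)
open Groth.L12.KBunQ (kc kc_iso)
open Groth.L00.Tensor (tensorLeftF tensorIso tensorComm tensorAssoc tensorUnitLeft tensorUnitRight)

variable {X Y : Scheme.{u}}

/-- A bundle on the exceptional divisor mapping onto the ideal of the elementary imbedding. -/
theorem exists_elementary' {f : X ⟶ Y} [IsClosedImmersion f] {M : Scheme.{u}}
    {b : M ⟶ CohB1.ProjSpaceOver 1 Y} {d : ℕ} (hd : FlatMod.IsFinLocFreeOfRank d (Omega.conormal f))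
    {F : CohB1.ProjSpaceOver 1 X ⟶ M} [IsClosedImmersion F]
    (hstrict : (centre f).ker.comap b * F.ker = (P1.toP1 f).ker.comap b)
    (hb : BlowUp.IsBlowUp b (centre f).ker)
    {f0 : X ⟶ ((centre f).ker.comap b).subscheme} [IsClosedImmersion f0]
    {π : ((centre f).ker.comap b).subscheme ⟶ X}
    (hπ : π ≫ centre f = ((centre f).ker.comap b).subschemeι ≫ b)
    (hsq : IsPullback f0 (P1.sect X 1) ((centre f).ker.comap b).subschemeι F)
    {N : M.Modules} (hN : PicF.IsInvertible N)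
    (eN : CohB1.tensorMod (ClSub.idealMod ((centre f).ker.comap b)) N ≅ Coh.structureModule M) :
    ∃ (E : ((centre f).ker.comap b).subscheme.Modules) (q : E ⟶ ClSub.idealMod f0.ker),
      Epi q ∧ FlatMod.IsFinLocFreeOfRank d E ∧
      Nonempty (E ≅ CohB1.tensorMod ((Scheme.Modules.pullback ((centre f).ker.comap b).subschemeι).obj N)
        ((Scheme.Modules.pullback π).obj (Omega.conormal f))) := by
  let iP := ((centre f).ker.comap b).subschemeι
  let p1 := b ≫ CohB1.ProjSpaceOver.toBase 1 Y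
  obtain ⟨qM, hqM⟩ := exists_gens hstrict ((Groth.Agent.L19.IdealInvertible.isEffCartier_iff _).2 hb.1) eN
  haveI := hqM
  obtain ⟨α, -, hα, -⟩ := Groth.L07.PrinParts.exists_idealMap iP F.ker f0.ker (ker_eq_comap hsq)
  haveI := hα
  haveI : (Scheme.Modules.pullback iP).IsLeftAdjoint :=
    (Scheme.Modules.pullbackPushforwardAdjunction iP).isLeftAdjoint
  have hw : iP ≫ p1 = π ≫ f := by
    simp only [p1, iP, ← reassoc_of% hπ, centre, Category.assoc, Groth.L07.BlowLib.sect_toBase, Category.comp_id]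
  let e : (Scheme.Modules.pullback iP).obj (gens f b) ≅ (Scheme.Modules.pullback π).obj (Omega.conormal f) :=
    (Scheme.Modules.pullbackComp iP p1).app _ ≪≫ (Scheme.Modules.pullbackCongr hw).app _ ≪≫
      ((Scheme.Modules.pullbackComp π f).app _).symm
  let eE : (Scheme.Modules.pullback iP).obj (CohB1.tensorMod N (gens f b)) ≅
      CohB1.tensorMod ((Scheme.Modules.pullback iP).obj N) ((Scheme.Modules.pullback π).obj (Omega.conormal f)) :=
    (Groth.L29.DC.PullTensor.pullTensor iP N (gens f b)).symm ≪≫ tensorIso (Iso.refl _) e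
  refine ⟨(Scheme.Modules.pullback iP).obj (CohB1.tensorMod N (gens f b)),
    (Scheme.Modules.pullback iP).map qM ≫ α, epi_comp _ _, ?_, ⟨eE⟩⟩
  refine rank_of_iso (tensorComm _ _ ≪≫ eE.symm) ?_
  exact Groth.L03.ShStab.TwistSubbundle.isFinLocFreeOfRank_tensor
    (Groth.L18.MapEpi.isFinLocFreeOfRank_pullback π hd) (Groth.L18.Ample.isInvertible_pullback iP hN)

/-- The deformation space of a regular immersion. -/
structure Defo [IsNoetherian Y] (f : X ⟶ Y) [IsClosedImmersion f] (d : ℕ) where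
  M : Scheme.{u}
  b : M ⟶ CohB1.ProjSpaceOver 1 Y
  blowUp : BlowUp.IsBlowUp b (centre f).ker
  noethM : IsNoetherian M
  enoughM : _root_.KRR.HasEnoughLocFree M
  F : CohB1.ProjSpaceOver 1 X ⟶ M
  F_b : F ≫ b = P1.toP1 f
  regF : Mor2.IsRegularClosedImmersion F
  rankF : FlatMod.IsFinLocFreeOfRank d (Omega.conormal F)
  it : Y ⟶ M
  hit : IsPullback it (𝟙 Y) b (P1.sect Y 0)
  closed_it : IsClosedImmersion it
  cartier_it : BlowUp.IsEffCartierIdeal it.ker
  ker_it : it.ker = (P1.sect Y 0).ker.comap b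
  strict : (centre f).ker.comap b * F.ker = (P1.toP1 f).ker.comap b
  N : M.Modules
  invN : PicF.IsInvertible N
  eN : CohB1.tensorMod (ClSub.idealMod ((centre f).ker.comap b)) N ≅ Coh.structureModule M
  noethP : IsNoetherian ((centre f).ker.comap b).subscheme
  f0 : X ⟶ ((centre f).ker.comap b).subscheme
  π : ((centre f).ker.comap b).subscheme ⟶ X
  f0_π : f0 ≫ π = 𝟙 X
  π_centre : π ≫ centre f = ((centre f).ker.comap b).subschemeι ≫ b
  sq_iP : IsPullback f0 (P1.sect X 1) ((centre f).ker.comap b).subschemeι F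
  regf0 : Mor2.IsRegularClosedImmersion f0
  rankf0 : FlatMod.IsFinLocFreeOfRank d (Omega.conormal f0)
  rest : M.IdealSheafData
  cartier_rest : BlowUp.IsEffCartierIdeal rest
  rest_mul : (centre f).ker.comap b * rest = (P1.sect Y 1).ker.comap b
  disjoint_rest : ∀ z : rest.subscheme, rest.subschemeι z ∉ Set.range F
  retr : KR M →+ KR Y
  retr_spec : ∀ h : Mor2.IsRegularClosedImmersion it, ∀ y, haveI := noethM;
    retr (pushK it h enoughM y) = y

/-- Deformation spaces exist over a quasi-projective base. -/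
theorem exists_defo {S : Scheme.{u}} [IsAffine S] [IsNoetherian X] [IsNoetherian Y] {qY : Y ⟶ S}
    (hqY : _root_.KRR.IsQProjOver qY) (f : X ⟶ Y) [IsClosedImmersion f] (hf : Mor2.IsRegularClosedImmersion f)
    {d : ℕ} (hd : FlatMod.IsFinLocFreeOfRank d (Omega.conormal f)) : Nonempty (Defo f d) := by
  haveI := isClosedImmersion_sect' Y 1
  haveI := isClosedImmersion_sect' X 1
  haveI hWn : IsNoetherian (CohB1.ProjSpaceOver 1 X) := Groth.L12.KRes.isNoetherian_PY 1 X
  haveI hPn : IsNoetherian (CohB1.ProjSpaceOver 1 Y) := Groth.L12.KRes.isNoetherian_PY 1 Y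
  haveI hsm : Smooth (CohB1.ProjSpaceOver.toBase 1 Y) := Groth.L16.ProjSpace.smooth_toBase (n := 1) (S := Y)
  haveI hpr : IsProper (CohB1.ProjSpaceOver.toBase 1 Y) := Groth.L16.ProjSpace.isProper_toBase 1 Y
  have hsect : Mor2.IsRegularClosedImmersion (P1.sect Y 1) :=
    Groth.Agent.S1676.result (CohB1.ProjSpaceOver.toBase 1 Y) (P1.sect Y 1) (Groth.L07.BlowLib.sect_toBase Y 1)
  have hc : Mor2.IsRegularClosedImmersion (centre f) := Groth.L16.RegComp.isRegularClosedImmersion_comp f _ hf hsect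
  obtain ⟨M, b, hb⟩ := Groth.L13.BU.exists_isBlowUp (centre f).ker
  have hfg : BlowUp.IsFiniteTypeIdeal (centre f).ker := fun U => by
    haveI : IsNoetherianRing Γ(CohB1.ProjSpaceOver 1 Y, U.1) := IsLocallyNoetherian.component_noetherian U
    exact (isNoetherianRing_iff_ideal_fg _).1 inferInstance _
  have hproj := Groth.L06.BlowProj.isProjective_of_isBlowUp (centre f).ker hfg b hb
  haveI : IsProper b := Groth.L27.ProjProper.isProper_of_isProjective hproj
  haveI : IsLocallyNoetherian M := LocallyOfFiniteType.isLocallyNoetherian b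
  haveI : CompactSpace M := QuasiCompact.compactSpace_of_compactSpace b
  haveI hMn : IsNoetherian M := {}
  have hMa : ∃ L : M.Modules, CohB1.IsAmple L :=
    exists_ample_of_projective hproj (exists_ample_PY 1 (exists_ample_of_qproj hqY))
  have hMe := hasEnough_of_ample hMa
  obtain ⟨F, hF⟩ := exists_F hb
  obtain ⟨hFr, hFd⟩ := regular_F hb hF hf hd
  haveI := hFr.1
  obtain ⟨it, hit, hitc, hitC, hitk⟩ := exists_it hb
  haveI := hitc
  obtain ⟨f0, π, hf0π, hπ, hf0c, hsqP⟩ := exists_iP hb hF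
  haveI := hf0c
  let iP := ((centre f).ker.comap b).subschemeι
  haveI : IsLocallyNoetherian ((centre f).ker.comap b).subscheme := LocallyOfFiniteType.isLocallyNoetherian iP
  haveI : CompactSpace ((centre f).ker.comap b).subscheme := QuasiCompact.compactSpace_of_compactSpace iP
  haveI hPn' : IsNoetherian ((centre f).ker.comap b).subscheme := {}
  obtain ⟨hf0r, hf0d⟩ := regular_f0 hb hF hFr hFd hsqP
  obtain ⟨rest, hr, hmul, hdisj⟩ := exists_rest hb hF
  obtain ⟨N, hN, ⟨eN⟩⟩ := Groth.L08.Cube.exists_inverse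
    ((Groth.Agent.L19.IdealInvertible.isEffCartier_iff _).2 hb.1)
  let g := b ≫ CohB1.ProjSpaceOver.toBase 1 Y
  have hgp : MoreMor.IsPerfectMor g :=
    Groth.L29.RelPC.perfect_comp (Groth.L11.BlowPerfect.isPerfectMor_blowUp b (centre f) hc hb)
      (isPerfectMor_of_flat _)
  have hsg : it ≫ g = 𝟙 Y := by
    rw [← Category.assoc, hit.w, Category.assoc, Groth.L07.BlowLib.sect_toBase, Category.id_comp]
  obtain ⟨r, hr'⟩ := exists_retr hqY g hgp hMa it hsg (isRegular_of_effCartier it hitC) hMe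
  exact ⟨{
    M := M, b := b, blowUp := hb, noethM := hMn, enoughM := hMe
    F := F, F_b := hF, regF := hFr, rankF := hFd
    it := it, hit := hit, closed_it := hitc, cartier_it := hitC, ker_it := hitk
    strict := exists_strict hb hF
    N := N, invN := hN, eN := eN
    noethP := hPn'
    f0 := f0, π := π, f0_π := hf0π, π_centre := hπ, sq_iP := hsqP, regf0 := hf0r, rankf0 := hf0d
    rest := rest, cartier_rest := hr, rest_mul := hmul, disjoint_rest := hdisj
    retr := r, retr_spec := fun _ y => hr' y }⟩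

variable {X₁ Y₁ : Scheme.{u}} {f : X ⟶ Y} {f₁ : X₁ ⟶ Y₁} {φ : Y₁ ⟶ Y} {ψ : X₁ ⟶ X}
  [IsClosedImmersion f] [IsClosedImmersion f₁] [IsNoetherian Y] [IsNoetherian Y₁] {d d₁ : ℕ}

/-- The centres correspond. -/
theorem centre_ker_comap (hsq : IsPullback f₁ ψ φ f) :
    (centre f).ker.comap (P1.toP1 φ) = (centre f₁).ker := by
  haveI := isClosedImmersion_sect' Y 1
  exact (ker_eq_comap (hsq.flip.paste_vert (isPullback_sect φ 1)).flip).symm

/-- The divisors at one correspond. -/
theorem sect_ker_comap (g : Y₁ ⟶ Y) (i : Fin (1 + 1)) :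
    (P1.sect Y i).ker.comap (P1.toP1 g) = (P1.sect Y₁ i).ker := by
  haveI := isClosedImmersion_sect' Y i
  exact (ker_eq_comap (isPullback_sect g i).flip).symm

/-- The deformations of the immersions correspond. -/
theorem toP1_ker_comap (hsq : IsPullback f₁ ψ φ f) :
    (P1.toP1 f).ker.comap (P1.toP1 φ) = (P1.toP1 f₁).ker := by
  rw [Groth.L07.BlowLib.ker_toP1, Groth.L07.BlowLib.ker_toP1, ker_eq_comap hsq,
    ← Scheme.IdealSheafData.comap_comp, ← Scheme.IdealSheafData.comap_comp,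
    (Groth.L07.BlowLib.isPullback_toBase φ).w]

/-- The comparison of the deformation spaces of a cartesian square. -/
structure DefoMap (D : Defo f d) (D₁ : Defo f₁ d₁) (ψ : X₁ ⟶ X) (φ : Y₁ ⟶ Y) where
  Φ : D₁.M ⟶ D.M
  Φ_b : Φ ≫ D.b = D₁.b ≫ P1.toP1 φ
  it_Φ : D₁.it ≫ Φ = φ ≫ D.it
  exc : ((centre f).ker.comap D.b).comap Φ = (centre f₁).ker.comap D₁.b
  sqF : IsPullback D₁.F (P1.toP1 ψ) Φ D.F
  φ0 : ((centre f₁).ker.comap D₁.b).subscheme ⟶ ((centre f).ker.comap D.b).subscheme
  φ0_iP : φ0 ≫ ((centre f).ker.comap D.b).subschemeι = ((centre f₁).ker.comap D₁.b).subschemeι ≫ Φ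
  φ0_π : φ0 ≫ D.π = D₁.π ≫ ψ
  sq0 : D₁.f0 ≫ φ0 = ψ ≫ D.f0

/-- Deformation spaces are functorial in cartesian squares. -/
theorem exists_defoMap (hsq : IsPullback f₁ ψ φ f) (D : Defo f d) (D₁ : Defo f₁ d₁) :
    Nonempty (DefoMap D D₁ ψ φ) := by
  haveI := D.regF.1
  haveI := D₁.regF.1
  haveI := D.closed_it
  haveI := D.regf0.1
  haveI := D₁.regf0.1
  haveI := isClosedImmersion_sect' Y 1
  haveI := isClosedImmersion_sect' X₁ 1
  have hexc : (centre f).ker.comap (D₁.b ≫ P1.toP1 φ) = (centre f₁).ker.comap D₁.b := by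
    rw [Scheme.IdealSheafData.comap_comp, centre_ker_comap hsq]
  obtain ⟨Φ, hΦ, -⟩ := D.blowUp.2 _ (D₁.b ≫ P1.toP1 φ) (by rw [hexc]; exact D₁.blowUp.1)
  have hΦe : ((centre f).ker.comap D.b).comap Φ = (centre f₁).ker.comap D₁.b := by
    rw [← Scheme.IdealSheafData.comap_comp, hΦ, hexc]
  have hwF : D₁.F ≫ Φ = P1.toP1 ψ ≫ D.F := by
    have hb1 : (D₁.F ≫ Φ) ≫ D.b = P1.toP1 f₁ ≫ P1.toP1 φ := by rw [Category.assoc, hΦ, reassoc_of% D₁.F_b]
    have hcom : P1.toP1 ψ ≫ P1.toP1 f = P1.toP1 f₁ ≫ P1.toP1 φ := by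
      apply pullback.hom_ext
      · simp [P1.toP1]
      · simp [P1.toP1, hsq.w]
    exact (D.blowUp.2 _ (P1.toP1 f₁ ≫ P1.toP1 φ) (by
      rw [Scheme.IdealSheafData.comap_comp, centre_ker_comap hsq, centre_comap_toP1]
      exact isEffCartier_sect' X₁ 1)).unique hb1 (by rw [Category.assoc, D.F_b, hcom])
  have hkF : D₁.F.ker = D.F.ker.comap Φ := by
    refine (Groth.L13.MP.eq_of_mul_eq D₁.blowUp.1 (E := (centre f₁).ker.comap D₁.b) ?_).symm
    have h := congrArg (fun G => Scheme.IdealSheafData.comap G Φ) D.strict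
    rw [Groth.L22.Ideals.comap_mul, hΦe, ← Scheme.IdealSheafData.comap_comp, hΦ,
      Scheme.IdealSheafData.comap_comp, toP1_ker_comap hsq, ← D₁.strict] at h
    rw [mul_comm, h, mul_comm]
  let iP := ((centre f).ker.comap D.b).subschemeι
  let iP₁ := ((centre f₁).ker.comap D₁.b).subschemeι
  have hle : iP.ker ≤ (iP₁ ≫ Φ).ker := by
    rw [Scheme.IdealSheafData.ker_subschemeι, ← Scheme.IdealSheafData.map_ker iP₁ Φ,
      Scheme.IdealSheafData.le_map_iff_comap_le, hΦe, Scheme.IdealSheafData.ker_subschemeι]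
  let φ0 := IsClosedImmersion.lift iP (iP₁ ≫ Φ) hle
  have hφ0 : φ0 ≫ iP = iP₁ ≫ Φ := IsClosedImmersion.lift_fac _ _ _
  refine ⟨{
    Φ := Φ, Φ_b := hΦ, exc := hΦe
    it_Φ := ?_
    sqF := isPullback_of_ker _ _ _ _ hwF hkF
    φ0 := φ0, φ0_iP := hφ0
    φ0_π := ?_
    sq0 := ?_ }⟩
  · have h1 : (D₁.it ≫ Φ) ≫ D.b = φ ≫ P1.sect Y 0 := by
      rw [Category.assoc, hΦ, reassoc_of% D₁.hit.w, Groth.L07.BlowLib.sect_toP1]
    have h2 : D.hit.lift (D₁.it ≫ Φ) φ h1 = φ := (Category.comp_id _).symm.trans (D.hit.lift_snd _ _ _)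
    have h3 := D.hit.lift_fst (D₁.it ≫ Φ) φ h1
    rw [h2] at h3
    exact h3.symm
  · rw [← cancel_mono (centre f), Category.assoc, Category.assoc, D.π_centre, reassoc_of% hφ0, hΦ,
      ← reassoc_of% D₁.π_centre]
    congr 1
    exact (hsq.flip.paste_vert (isPullback_sect φ 1)).w.symm
  · rw [← cancel_mono iP, Category.assoc, Category.assoc, hφ0, reassoc_of% D₁.sq_iP.w, hwF, D.sq_iP.w,
      ← Category.assoc, Groth.L07.BlowLib.sect_toP1, Category.assoc]

end Groth.L12.RR
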