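import Groth.Agent.L12.RR.Def.ExcessK
import Groth.Agent.L12.RR.GRR.Core
import Groth.Agent.L12.RR.Models

/-!
# Graded consequences of the excess intersection formula
-/

set_option autoImplicit false
set_option maxHeartbeats 800000
set_option linter.style.haveILetI false
set_option linter.unusedSectionVars false
set_option backward.isDefEq.respectTransparency false
set_option backward.isDefEq.respectTransparency.types false

universe v u

open CategoryTheory CategoryTheory.Limits AlgebraicGeometry LambdaRing TensorProduct LaurentPolynomial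

attribute [local instance] HasDerivedCategory.standard

noncomputable section

namespace Groth.L12.RR

open Groth.L12.Kvb (KR toKR)
open Groth.L12.KBunQ (kc)

section Gr

variable {K : Type v} [CommRing K] [LambdaOps K] (P : PosStructure K)

theorem mem_rees_of_mem {n : ℕ} {x : K} (hx : x ∈ gammaFiltration P n) :
    LaurentPolynomial.C ((1 : ℕ) * x : K) * T (-(n : ℤ)) ∈ KGr.rees P :=
  Groth.L15.ChernChar.mem_rees P (by simpa using hx)

/-- The class of a multiple. -/
theorem grK_natCast_mul {n : ℕ} {x : K} {M : ℕ} (hM : 1 ≤ M) (hx : (M : K) * x ∈ gammaFiltration P n) :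
    KGr.grK P n x = ((1 : ℚ) / (M : ℚ)) • KGr.grK P n ((M : K) * x) := by
  have h : LaurentPolynomial.C ((M : K) * x) * T (-(n : ℤ)) ∈ KGr.rees P :=
    Groth.L15.ChernChar.mem_rees P (by simpa using hx)
  rw [GRR.grK_eq_of P n x hM h, GRR.grK_eq_of P n _ le_rfl (mem_rees_of_mem P hx), TensorProduct.smul_tmul']
  congr 1
  · simp
  · congr 1
    exact Subtype.ext (by simp)

theorem grK_mul {a b : ℕ} {x y : K} (hx : x ∈ gammaFiltration P a) (hy : y ∈ gammaFiltration P b) :
    KGr.grK P a x * KGr.grK P b y = KGr.grK P ((a + b : ℕ) : ℤ) (x * y) := by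
  rw [GRR.grK_eq_of P a x le_rfl (mem_rees_of_mem P hx), GRR.grK_eq_of P b y le_rfl (mem_rees_of_mem P hy),
    GRR.grK_eq_of P _ (x * y) le_rfl (mem_rees_of_mem P (Groth.L08.Lambda.mul_mem_gammaFiltration P hx hy)),
    Algebra.TensorProduct.tmul_mul_tmul, ← map_mul]
  congr 1
  · simp
  · congr 1
    refine Subtype.ext ?_
    show LaurentPolynomial.C _ * T _ * (LaurentPolynomial.C _ * T _) = LaurentPolynomial.C _ * T _
    rw [show (-((a + b : ℕ) : ℤ)) = -(a : ℤ) + -(b : ℤ) by push_cast; ring, T_add]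
    simp only [Nat.cast_one, one_mul, map_mul]
    ring

theorem grK_neg' {n : ℕ} {x : K} (hx : x ∈ gammaFiltration P n) :
    KGr.grK P n (-x) = -KGr.grK P n x := by
  rw [GRR.grK_eq_of P n x le_rfl (mem_rees_of_mem P hx), GRR.grK_eq_of P n (-x) le_rfl
    (mem_rees_of_mem P (neg_mem hx)), ← TensorProduct.tmul_neg, ← map_neg]
  congr 2
  refine Subtype.ext ?_
  show _ = -(LaurentPolynomial.C _ * T _)
  simp

theorem grK_sign {n : ℕ} {x : K} (hx : x ∈ gammaFiltration P n) (m : ℕ) :
    (-1 : KGr.Gr P) ^ m * KGr.grK P n x = KGr.grK P n ((-1 : K) ^ m * x) := by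
  induction m with
  | zero => rw [pow_zero, pow_zero, one_mul, one_mul]
  | succ m ih =>
    rw [pow_succ', mul_assoc, ih, show (-1 : K) ^ (m + 1) * x = -((-1 : K) ^ m * x) by ring, grK_neg' P (by
      rcases neg_one_pow_eq_or K m with h | h <;> rw [h]
      · rwa [one_mul]
      · rw [show (-1 : K) * x = -x by ring]; exact neg_mem hx)]
    exact (neg_one_mul (α := KGr.Gr P) _)

/-- A ring map compatible with the operations and the augmentations preserves the filtration. -/
theorem map_gammaFiltration {L : Type v} [CommRing L] [LambdaOps L] {Q : PosStructure L} (f : K →+* L)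
    (hl : ∀ i x, f (LambdaOps.lam i x) = LambdaOps.lam i (f x)) (ha : ∀ x, Q.aug (f x) = P.aug x)
    {n : ℕ} {x : K} (hx : x ∈ gammaFiltration P n) : f x ∈ gammaFiltration Q n := by
  rcases Nat.eq_zero_or_pos n with rfl | hn
  · simp [gammaFiltration]
  suffices h : gammaFiltration P n ≤ (gammaFiltration Q n).comap f.toAddMonoidHom from h hx
  nth_rewrite 1 [gammaFiltration]
  rw [if_neg (by omega), AddSubgroup.closure_le]
  rintro y ⟨l, hl0, hw, rfl⟩
  have := Groth.L08.Lambda.prod_mem_gammaFiltration Q (l.map fun p => (p.1, f p.2))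
    (fun p hp => by
      obtain ⟨q, hq, rfl⟩ := List.mem_map.1 hp
      rw [ha]; exact hl0 q hq) n (by simpa [List.map_map, Function.comp_def] using hw)
  rw [List.map_map] at this
  show f _ ∈ gammaFiltration Q n
  rw [map_list_prod, List.map_map]
  simpa [Function.comp_def, GRR.map_gamma f hl] using this

end Gr

/-- The top gamma operation of a bundle is its alternating sum of exterior powers, up to sign. -/
theorem gamma_rank {X : Scheme.{u}} [CompactSpace X] {m : ℕ} {E : X.Modules}
    (hE : FlatMod.IsFinLocFreeOfRank m E) :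
    LambdaRing.gamma m (kc X E - (m : KR X)) = (-1 : KR X) ^ m * lamA m (kc X E) := by
  obtain ⟨X', _, g, s, hg, hs, hm, hsum⟩ := exists_split_sum m X E hE
  have hs' : ∀ u ∈ s, Thin u := fun u hu => thin_of_line (hs u hu)
  apply hg.inj
  rw [GRR.map_gamma g hg.lam, map_mul, map_pow, map_neg, map_one, map_lamA g hg.lam, map_sub, map_natCast, hsum]
  subst hm
  rw [lamA_sum_thin hs']
  have e : s.sum - (Multiset.card s : KR X') = (s.map fun u => u - 1).sum := by
    rw [Multiset.sum_map_sub, Multiset.map_id', Multiset.map_const', Multiset.sum_replicate, nsmul_one]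
  rw [e, ← Groth.L08.Lambda.coeff_gammaSeries, GRR.gammaSeries_lines (fun k hk => thin_of_line
    Groth.L12.KBunQ.lineSet.one k hk) hs', GRR.serK, Groth.L22.Lambda.coeff_prod_one_add,
    show (-1 : KR X') ^ Multiset.card s * (s.map fun u => 1 - u).prod = (s.map fun u => u - 1).prod by
      rw [show (-1 : KR X') ^ Multiset.card s = (s.map fun _ => (-1 : KR X')).prod by
        rw [Multiset.map_const', Multiset.prod_replicate], ← Multiset.prod_map_mul]
      exact congrArg Multiset.prod (Multiset.map_congr rfl fun u _ => by ring)]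
  rw [Multiset.esymm, ← Multiset.card_map (fun u => u - 1) s, Multiset.powersetCard_self]
  simp

/-- A pullback of models is a homomorphism of λ-rings with augmentation. -/
theorem exists_hom_of_isPull {X Y : Scheme.{u}} [ConnectedSpace ↥X] [ConnectedSpace ↥Y] (f : X ⟶ Y)
    {KY : Type v} [CommRing KY] [LambdaOps KY] {PY : PosStructure KY} {φY : SGA6.Kvb Y →+ KY}
    (hKY : _root_.KRR.IsModel Y KY PY φY)
    {KX : Type v} [CommRing KX] [LambdaOps KX] {PX : PosStructure KX} {φX : SGA6.Kvb X →+ KX}
    (hKX : _root_.KRR.IsModel X KX PX φX) {g : KY →+ KX} (hg : _root_.KRR.IsPull f φY φX g) :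
    ∃ g' : KY →+* KX, (∀ z, g' z = g z) ∧ (∀ i z, g' (LambdaOps.lam i z) = LambdaOps.lam i (g' z)) ∧
      ∀ z, PX.aug (g' z) = PY.aug z := by
  obtain ⟨eY, hY, hYc, hYl⟩ := exists_equiv hKY
  obtain ⟨eX, hX, hXc, hXl⟩ := exists_equiv hKX
  have hsymm : ∀ i z, eY.symm (LambdaOps.lam i z) = LambdaOps.lam i (eY.symm z) := fun i z =>
    eY.injective (by rw [eY.apply_symm_apply, hYl, eY.apply_symm_apply])
  let g' : KY →+* KX := eX.toRingHom.comp ((pull f).comp eY.symm.toRingHom)
  have hgg : ∀ z, g' z = g z := fun z => by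
    have h := DFunLike.congr_fun (Groth.L12.KBunQ.KR_hom_ext (φ := g.comp eY.toAddMonoidHom)
      (ψ := eX.toAddMonoidHom.comp (pull f).toAddMonoidHom) fun M hM => by
        show g (eY _) = eX (pull f _)
        rw [hYc M hM, hg M hM, pull_kc f hM, hXc _ (Groth.L29.LocFree.pullback f hM)]) (eY.symm z)
    exact h.symm.trans (congrArg g (eY.apply_symm_apply z))
  refine ⟨g', hgg, fun i z => ?_, fun z => ?_⟩
  · show eX (pull f (eY.symm _)) = LambdaOps.lam i (eX (pull f (eY.symm z)))
    rw [hsymm, pull_lam, hXl]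
  · obtain ⟨a, rfl⟩ := hKY.bijective.2 z
    rw [hgg]
    refine DFunLike.congr_fun (Groth.L29.KSub.hom_ext (φ := PX.aug.toAddMonoidHom.comp (g.comp φY))
      (ψ := PY.aug.toAddMonoidHom.comp φY) fun M hM => ?_) a
    obtain ⟨r, hr⟩ := Groth.L18.KRRAmple.exists_rank (E := M) hM
    show PX.aug (g (φY (_root_.KRR.cl Y M))) = PY.aug (φY (_root_.KRR.cl Y M))
    rw [hg M hM, hKX.aug_cl r _ (Groth.L18.MapEpi.isFinLocFreeOfRank_pullback f hr), hKY.aug_cl r M hr]

end Groth.L12.RR
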