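import Groth.Agent.L12.RR.Push
import Groth.Agent.L12.KRes.PushPd
import Groth.Agent.L29.RelPC.PerfClosed
import Groth.Agent.L29.RelPC.TorStalk
import Groth.Agent.L19.PerfectHomCases
import Groth.Agent.L14.NLAmp.FiniteTor
import Groth.Agent.S1676

/-!
# Push forward of classes along perfect closed immersions
-/

set_option autoImplicit false
set_option maxHeartbeats 800000
set_option linter.style.haveILetI false
set_option linter.unusedSectionVars false
set_option backward.isDefEq.respectTransparency false
set_option backward.isDefEq.respectTransparency.types false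

universe v u

open CategoryTheory CategoryTheory.Limits AlgebraicGeometry TopologicalSpace RingTheory.Sequence

noncomputable section

namespace Groth.L12.RR

open Groth.L12.Kvb (KR toKR)
open Groth.L12.KBunQ (kc KR_hom_ext)
open Groth.L12.KRes (CohPd PdLE clPd)

/-- A morphism which is flat and locally of finite presentation is perfect. -/
theorem isPerfectMor_of_flat {X Y : Scheme.{u}} (g : X ⟶ Y) [Flat g] [LocallyOfFinitePresentation g] :
    MoreMor.IsPerfectMor g := by
  intro U V hU hV hle
  letI := (g.appLE V U hle).hom.toAlgebra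
  haveI : Module.Flat Γ(Y, V) Γ(X, U) := g.flat_appLE hV hU hle
  haveI : Algebra.FinitePresentation Γ(Y, V) Γ(X, U) := g.finitePresentation_appLE hV hU hle
  exact Groth.L19.PerfectHom.isPerfectHom_of_flat

/-- A closed immersion over a smooth scheme, of a perfect scheme over the base, is perfect. -/
theorem isPerfectMor_of_smooth {M P Y : Scheme.{u}} (k : M ⟶ P) (p : P ⟶ Y) [Smooth p] [IsSeparated p]
    (g : M ⟶ Y) (hk : k ≫ p = g) (hg : MoreMor.IsPerfectMor g) : MoreMor.IsPerfectMor k := by
  let Γk : M ⟶ pullback g p := pullback.lift (𝟙 M) k (by rw [Category.id_comp, hk])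
  have h1 : Γk ≫ pullback.fst g p = 𝟙 M := pullback.lift_fst _ _ _
  haveI : IsClosedImmersion (Γk ≫ pullback.fst g p) := by rw [h1]; infer_instance
  haveI : IsClosedImmersion Γk := IsClosedImmersion.of_comp Γk (pullback.fst g p)
  have hΓ := Groth.L29.RelPC.perfect_regularClosedImmersion Γk
    (Groth.Agent.S1676.result (pullback.fst g p) Γk h1)
  have hsnd : MoreMor.IsPerfectMor (pullback.snd g p) :=
    Groth.L29.RelPC.perfect_baseChange (IsPullback.of_hasPullback g p) hg
  rw [← pullback.lift_snd (𝟙 M) k (by rw [Category.id_comp, hk]) (f := g) (g := p)]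
  exact Groth.L29.RelPC.perfect_comp hΓ hsnd

variable {M P : Scheme.{u}} (k : M ⟶ P) [IsClosedImmersion k] [IsNoetherian M] [IsNoetherian P]

/-- The direct image of a bundle under a perfect closed immersion has finite projective dimension. -/
theorem cohPd_push_perfect (hk : MoreMor.IsPerfectMor k) (hPe : _root_.KRR.HasEnoughLocFree P)
    {F : M.Modules} (hF : FlatMod.IsFinLocFree F) : CohPd ((Scheme.Modules.pushforward k).obj F) := by
  refine Groth.L12.KRes.cohPd_of_pointwise hPe
    (Groth.L16.CohClosedPush.isCoh_push k (Groth.L16.NegPow.isCoh_of_isFinLocFree hF)) fun p => ?_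
  by_cases hp : p ∈ Set.range k
  · obtain ⟨z, rfl⟩ := hp
    obtain ⟨U, d, hzU, hTD⟩ := (Groth.L29.RelPC.perfect_iff_locTD.1 hk).2 z
    have htd := hTD z hzU
    let R := P.presheaf.stalk (k z)
    let S := M.presheaf.stalk z
    letI : Algebra R S := (k.stalkMap z).hom.toAlgebra
    haveI : Module.Finite R S := Module.Finite.of_surjective (Algebra.linearMap R S) (k.stalkMap_surjective z)
    haveI hS : HasProjectiveDimensionLT (ModuleCat.of R S) (d + 1) :=
      Groth.L14.NLAmp.hasProjectiveDimensionLT_of_torDim d htd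
    let g : R →+* S := Groth.L00.PullStalk.φ k z
    let N := (Groth.L00.Stk.F M z).obj F
    haveI : Module.Free S N := Groth.L18.LFP.free_stalk F hF z
    haveI : Module.Finite S N :=
      Groth.L18.LFP.finite_stalk F (Groth.L15.Ref.isFP_of_isCoh (Groth.L16.NegPow.isCoh_of_isFinLocFree hF)) z
    haveI : Nontrivial S := inferInstance
    let b := Module.finBasis S N
    haveI := Groth.L12.KRes.hasProjectiveDimensionLT_pi hS (Module.finrank S N)
    let e : ModuleCat.of R (Fin (Module.finrank S N) → S) ≅ (ModuleCat.restrictScalars g).obj N :=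
      LinearEquiv.toModuleIso (X₁ := Fin (Module.finrank S N) → S)
        (X₂ := ((ModuleCat.restrictScalars g).obj N : Type u))
        { b.equivFun.symm.toAddEquiv with
          map_smul' := fun c v => by
            change b.equivFun.symm (c • v) = g c • b.equivFun.symm v
            rw [← map_smul]
            congr 1 }
    haveI : HasProjectiveDimensionLT ((ModuleCat.restrictScalars g).obj N) (d + 1) :=
      hasProjectiveDimensionLT_of_iso e _
    exact ⟨d, hasProjectiveDimensionLT_of_iso (Groth.L17.ClosedPush.cIso k F z).symm _⟩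
  · haveI : Subsingleton ((Groth.L00.Stk.F P p).obj ((Scheme.Modules.pushforward k).obj F)) :=
      Groth.L17.ClosedPush.subsingleton_stalk_push k F hp
    haveI := (ModuleCat.isZero_of_subsingleton
      ((Groth.L00.Stk.F P p).obj ((Scheme.Modules.pushforward k).obj F))).hasProjectiveDimensionLT_zero
    exact ⟨0, hasProjectiveDimensionLT_of_ge _ 0 1 (Nat.zero_le _)⟩

variable (hk : MoreMor.IsPerfectMor k) (hMe : _root_.KRR.HasEnoughLocFree M) (hPe : _root_.KRR.HasEnoughLocFree P)

include hk hMe hPe in
theorem cohPd_push_perfect' : ∀ (n : ℕ) {A : M.Modules}, Coh.IsCoh A → PdLE n A →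
    CohPd ((Scheme.Modules.pushforward k).obj A)
  | 0, A, hc, hp => cohPd_push_perfect k hk hPe (Groth.L12.KRes.vb_iff.2 ⟨hc, hp⟩)
  | n + 1, A, hc, hp => by
    haveI := Groth.L17.PushQCoh.additive_push k
    obtain ⟨L, p, hL, hep⟩ := hMe A hc
    haveI := hep
    have hS : (ShortComplex.mk (kernel.ι p) p (kernel.condition p)).ShortExact :=
      ShortComplex.ShortExact.mk' (ShortComplex.exact_of_f_is_kernel _ (kernelIsKernel p)) inferInstance inferInstance
    exact Groth.L12.KRes.CohPd.right (Groth.L12.KRes.shortExact_push_closed k hS)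
      (cohPd_push_perfect' n (Groth.L12.KRes.isCoh_left hS (Groth.L12.KRes.vb_iff.1 hL).1 hc)
        (((Groth.L12.KRes.vb_iff.1 hL).2.mono (Nat.zero_le n)).left hS hp))
      (cohPd_push_perfect k hk hPe hL) (Groth.L16.CohClosedPush.isCoh_push k hc)

/-- Push forward along a perfect closed immersion. -/
def pushP : KR M →+ KR P where
  toFun x := toKR P ((Groth.L29.KSub.lift (fun F => clPd hPe ((Scheme.Modules.pushforward k).obj F))
    fun S hS h₁ h₂ h₃ => by
      haveI := Groth.L17.PushQCoh.additive_push k
      exact Groth.L12.KRes.clPd_shortExact hPe (Groth.L12.KRes.shortExact_push_closed k hS)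
        (cohPd_push_perfect k hk hPe h₁) (cohPd_push_perfect k hk hPe h₂) (cohPd_push_perfect k hk hPe h₃) :
    SGA6.Kvb M →+ SGA6.Kvb P) x)
  map_zero' := (congrArg (toKR P) (map_zero _)).trans (map_zero _)
  map_add' a b := (congrArg (toKR P) (map_add _ a b)).trans (map_add _ _ _)

theorem pushP_kc {F : M.Modules} (hF : FlatMod.IsFinLocFree F) :
    pushP k hk hPe (kc M F) = pd hPe ((Scheme.Modules.pushforward k).obj F) := by
  exact congrArg (toKR P) (Groth.L29.KSub.lift_clSub (P := fun F : M.Modules => FlatMod.IsFinLocFree F)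
    (fun F => clPd hPe ((Scheme.Modules.pushforward k).obj F)) (fun S hS h₁ h₂ h₃ => by
      haveI := Groth.L17.PushQCoh.additive_push k
      exact Groth.L12.KRes.clPd_shortExact hPe (Groth.L12.KRes.shortExact_push_closed k hS)
        (cohPd_push_perfect k hk hPe h₁) (cohPd_push_perfect k hk hPe h₂) (cohPd_push_perfect k hk hPe h₃)) hF)

include hMe in
theorem pushP_pd {A : M.Modules} (hA : CohPd A) :
    pushP k hk hPe (pd hMe A) = pd hPe ((Scheme.Modules.pushforward k).obj A) := by
  haveI := Groth.L17.PushQCoh.additive_push k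
  let T : KZero.K0sub (fun A : M.Modules => CohPd A) →+ KR P :=
    Groth.L29.KSub.lift (fun A => pd hPe ((Scheme.Modules.pushforward k).obj A)) fun S hS h₁ h₂ h₃ =>
      pd_shortExact hPe (Groth.L12.KRes.shortExact_push_closed k hS)
        (cohPd_push_perfect' k hk hMe hPe _ h₁.1 h₁.2.choose_spec)
        (cohPd_push_perfect' k hk hMe hPe _ h₂.1 h₂.2.choose_spec)
        (cohPd_push_perfect' k hk hMe hPe _ h₃.1 h₃.2.choose_spec)
  have hT : T.comp (Groth.L12.KRes.toPd hMe) = (pushP k hk hPe).comp (toKR M) :=
    Groth.L29.KSub.hom_ext fun F hF => by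
      show T (Groth.L12.KRes.toPd hMe (_root_.KRR.cl M F)) = pushP k hk hPe (kc M F)
      rw [Groth.L12.KRes.toPd_cl hMe hF]
      exact (Groth.L29.KSub.lift_clSub _ _ ((Groth.L12.KRes.hyp hMe).le F hF)).trans
        (pushP_kc k hk hPe hF).symm
  have h := DFunLike.congr_fun hT (clPd hMe A)
  rw [AddMonoidHom.comp_apply, Groth.L12.KRes.toPd_clPd] at h
  exact h.symm.trans (Groth.L29.KSub.lift_clSub _ _ hA)

end Groth.L12.RR
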