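import Groth.Agent.L12.RR.Def.Center
import Groth.Agent.L02.RelCartier.CurveSum

/-!
# The pieces of the deformation to the normal cone
-/

set_option autoImplicit false
set_option maxHeartbeats 800000
set_option linter.style.haveILetI false
set_option linter.unusedSectionVars false
set_option backward.isDefEq.respectTransparency false
set_option backward.isDefEq.respectTransparency.types false

universe u

open CategoryTheory CategoryTheory.Limits AlgebraicGeometry TopologicalSpace

noncomputable section

namespace Groth.L12.RR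

variable {X Y : Scheme.{u}} {f : X ⟶ Y} [IsClosedImmersion f]
  {M : Scheme.{u}} {b : M ⟶ CohB1.ProjSpaceOver 1 Y} (hb : BlowUp.IsBlowUp b (centre f).ker)
  {F : CohB1.ProjSpaceOver 1 X ⟶ M} (hF : F ≫ b = P1.toP1 f)

include hb hF in
/-- The deformation is a regular closed immersion of codimension `d`. -/
theorem regular_F (hf : Mor2.IsRegularClosedImmersion f) {d : ℕ}
    (hd : FlatMod.IsFinLocFreeOfRank d (Omega.conormal f)) :
    Mor2.IsRegularClosedImmersion F ∧ FlatMod.IsFinLocFreeOfRank d (Omega.conormal F) := by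
  have hcod := codim_of_regular f hf hd
  have h := Groth.L07.BlowLib.regularAt_deformation f f hcod (fun v => by
    obtain ⟨D, hv, -, rs, hlen, hrs, hk⟩ := hcod.2 v
    refine ⟨D, hv, rs, [], hlen, ?_, (Scheme.Hom.ker_apply f D).trans hk, ?_⟩
    · rw [List.append_nil]; exact Groth.L07.BlowLib.regMod_bot_of_isWeaklyRegular hrs.toIsWeaklyRegular
    · rw [List.append_nil]; exact (Scheme.Hom.ker_apply f D).trans hk) b hb (𝟙 _)
    (Groth.L07.BlowLib.isBlowUp_id (by rw [centre_comap_toP1]; exact isEffCartier_sect' X 1)) F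
    (by rw [hF, Category.id_comp])
  haveI := h.1
  exact regular_of_codim F h.2

include hb in
/-- The fibre at zero. -/
theorem exists_it : ∃ it : Y ⟶ M, IsPullback it (𝟙 Y) b (P1.sect Y 0) ∧ IsClosedImmersion it ∧
    BlowUp.IsEffCartierIdeal it.ker ∧ it.ker = (P1.sect Y 0).ker.comap b := by
  haveI := isClosedImmersion_sect' Y 0
  haveI := isClosedImmersion_sect' Y 1
  haveI := Groth.L22.Ideals.isIso_restrict_compl hb
  obtain ⟨it, hit⟩ := exists_lift_isIso b (centre f).ker.support.compl (P1.sect Y 0) fun y hy => by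
    change P1.sect Y 0 y ∈ ((centre f).ker.support : Set _) at hy
    rw [Scheme.Hom.support_ker, (centre f).isClosedEmbedding.isClosed_range.closure_eq] at hy
    obtain ⟨x, hx⟩ := hy
    exact sect_apply_ne y (f x) hx.symm
  haveI hc : IsClosedImmersion it := MorphismProperty.of_isPullback hit.flip inferInstance
  have hk : it.ker = (P1.sect Y 0).ker.comap b := ker_eq_comap hit
  exact ⟨it, hit, hc, hk ▸ Groth.L22.Ideals.isEffCartier_comap hb (isEffCartier_sect' Y 0), hk⟩

include hF in
theorem sq_it {it : Y ⟶ M} (hit : IsPullback it (𝟙 Y) b (P1.sect Y 0)) :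
    IsPullback f (P1.sect X 0) it F := by
  have h0 := isPullback_sect f 0
  have hitb : it ≫ b = P1.sect Y 0 := hit.w.trans (Category.id_comp _)
  let l := hit.lift (P1.sect X 0 ≫ F) f (by rw [Category.assoc, hF, h0.w])
  have hl : l = f := (Category.comp_id l).symm.trans (hit.lift_snd _ _ _)
  have hw : f ≫ it = P1.sect X 0 ≫ F := by rw [← hl]; exact hit.lift_fst _ _ _
  have h1 : ∀ c : PullbackCone it F, c.fst ≫ P1.sect Y 0 = c.snd ≫ P1.toP1 f := fun c => by
    rw [← hitb, ← hF, reassoc_of% c.condition]
  refine ⟨⟨hw⟩, ⟨PullbackCone.IsLimit.mk _ (fun c => h0.lift c.fst c.snd (h1 c)) (fun c => h0.lift_fst _ _ _)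
    (fun c => h0.lift_snd _ _ _) (fun c m hm hm' => ?_)⟩⟩
  refine h0.hom_ext ?_ ?_
  · rw [h0.lift_fst]; exact hm
  · rw [h0.lift_snd]; exact hm'

include hb hF in
/-- The fibre at infinity. -/
theorem exists_iP [IsClosedImmersion F] :
    ∃ (f0 : X ⟶ ((centre f).ker.comap b).subscheme) (π : ((centre f).ker.comap b).subscheme ⟶ X),
      f0 ≫ π = 𝟙 X ∧ π ≫ centre f = ((centre f).ker.comap b).subschemeι ≫ b ∧ IsClosedImmersion f0 ∧
      IsPullback f0 (P1.sect X 1) ((centre f).ker.comap b).subschemeι F := by
  haveI := isClosedImmersion_sect' Y 1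
  haveI := isClosedImmersion_sect' X 1
  let e := (centre f).ker.comap b
  have hle : e.subschemeι.ker ≤ (P1.sect X 1 ≫ F).ker := by
    rw [Scheme.IdealSheafData.ker_subschemeι, ← Scheme.IdealSheafData.map_ker,
      Scheme.IdealSheafData.le_map_iff_comap_le, exc_comap_F hb hF]
  let f0 := IsClosedImmersion.lift e.subschemeι (P1.sect X 1 ≫ F) hle
  have hf0 : f0 ≫ e.subschemeι = P1.sect X 1 ≫ F := IsClosedImmersion.lift_fac _ _ _
  let π := IsClosedImmersion.lift (centre f) (e.subschemeι ≫ b) (by
    show _ ≤ _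
    rw [← Scheme.IdealSheafData.map_ker e.subschemeι b, Scheme.IdealSheafData.le_map_iff_comap_le,
      Scheme.IdealSheafData.ker_subschemeι])
  have hπ : π ≫ centre f = e.subschemeι ≫ b := IsClosedImmersion.lift_fac _ _ _
  haveI : IsClosedImmersion (f0 ≫ e.subschemeι) := by rw [hf0]; infer_instance
  haveI : IsClosedImmersion f0 := IsClosedImmersion.of_comp f0 e.subschemeι
  refine ⟨f0, π, ?_, hπ, inferInstance, (isPullback_of_ker (P1.sect X 1) f0 F e.subschemeι hf0.symm ?_).flip⟩
  · rw [← cancel_mono (centre f), Category.assoc, hπ, reassoc_of% hf0, hF, Category.id_comp,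
      ← (isPullback_sect f 1).w]
  · rw [Scheme.IdealSheafData.ker_subschemeι, exc_comap_F hb hF]

include hb in
theorem cartier_iP : BlowUp.IsEffCartierIdeal ((centre f).ker.comap b).subschemeι.ker := by
  rw [Scheme.IdealSheafData.ker_subschemeι]; exact hb.1

include hb hF in
/-- The elementary imbedding at infinity is regular. -/
theorem regular_f0 [IsClosedImmersion F] [IsLocallyNoetherian M]
    (hFr : Mor2.IsRegularClosedImmersion F) {d : ℕ} (hFd : FlatMod.IsFinLocFreeOfRank d (Omega.conormal F))
    {f0 : X ⟶ ((centre f).ker.comap b).subscheme} [IsClosedImmersion f0]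
    (hsq : IsPullback f0 (P1.sect X 1) ((centre f).ker.comap b).subschemeι F) :
    Mor2.IsRegularClosedImmersion f0 ∧ FlatMod.IsFinLocFreeOfRank d (Omega.conormal f0) := by
  haveI : IsLocallyNoetherian ((centre f).ker.comap b).subscheme :=
    LocallyOfFiniteType.isLocallyNoetherian ((centre f).ker.comap b).subschemeι
  exact regular_bc_cartier hsq hFr hFd (cartier_iP hb)
    (by rw [Scheme.IdealSheafData.ker_subschemeι, exc_comap_F hb hF]; exact isEffCartier_sect' X 1)

include hb hF in
/-- The residual divisor at infinity misses the deformation. -/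
theorem exists_rest : ∃ rest : M.IdealSheafData, BlowUp.IsEffCartierIdeal rest ∧
    (centre f).ker.comap b * rest = (P1.sect Y 1).ker.comap b ∧
    ∀ z : rest.subscheme, rest.subschemeι z ∉ Set.range F := by
  haveI := isClosedImmersion_sect' X 1
  haveI := isClosedImmersion_toP1 f
  haveI := isClosedImmersion_sect' Y 1
  obtain ⟨rest, hr, hmul⟩ := Groth.L02.RelCartier.exists_eff_quot hb.1
    (Groth.L22.Ideals.isEffCartier_comap hb (isEffCartier_sect' Y 1))
    (Scheme.IdealSheafData.comap_mono b ((centre_eq_sup f).ge.trans' le_sup_right))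
  refine ⟨rest, hr, hmul, ?_⟩
  have h := congrArg (fun G => Scheme.IdealSheafData.comap G F) hmul
  rw [Groth.L22.Ideals.comap_mul, exc_comap_F hb hF, ← Scheme.IdealSheafData.comap_comp, hF,
    ← ker_eq_comap (isPullback_sect f 1).flip] at h
  have htop : rest.comap F = ⊤ := Groth.L13.MP.eq_of_mul_eq (isEffCartier_sect' X 1) (E := (P1.sect X 1).ker) (by
    rw [mul_comm, h]
    exact (Scheme.IdealSheafData.ext (funext fun U => by
      rw [Scheme.IdealSheafData.ideal_mul, Pi.mul_apply, Scheme.IdealSheafData.ideal_top]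
      exact (Ideal.top_mul _).symm)))
  rintro z ⟨w, hw⟩
  have hmem : w ∈ (rest.comap F).support := by
    rw [Scheme.IdealSheafData.support_comap]
    show F w ∈ rest.support
    rw [hw]
    exact rest.range_subschemeι.le ⟨z, rfl⟩
  rw [htop, Scheme.IdealSheafData.support_top] at hmem
  exact hmem

end Groth.L12.RR
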