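import Groth.Agent.L11.BlowSmooth.Sch
import Groth.Agent.L13.LocalPair.Pair
import Mathlib.AlgebraicGeometry.Morphisms.ClosedImmersion
import Mathlib.AlgebraicGeometry.Noetherian

/-!
# The strict transform of a subscheme containing the centre as a Cartier divisor
-/

set_option autoImplicit false
set_option maxHeartbeats 800000
set_option linter.style.haveILetI false
set_option linter.unusedSectionVars false
set_option backward.isDefEq.respectTransparency false
set_option backward.isDefEq.respectTransparency.types false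

universe u

open CategoryTheory CategoryTheory.Limits AlgebraicGeometry TopologicalSpace

noncomputable section

namespace Groth.L12.RR

open Groth.L22 Groth.L13.BU
open Groth.L11.BlowSmooth (SC sh sfr ev exists_blowUp_chart comap_fromSpec exists_closed_chart exists_preimage)

theorem sfr_self {A : Type u} [CommRing A] {c : ℕ} (f : Fin c → A) (k : Fin c) : sfr f k k = 1 := by
  have h := Groth.L11.BlowSmooth.ev_X_self f k
  rwa [ev, MvPolynomial.eval₂Hom_X'] at h

/-- A quotient of a chart killing all the fractions but the trivial one is generated by the base. -/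
theorem quot_surjective {A : Type u} [CommRing A] {c : ℕ} (f : Fin c → A) (k : Fin c) (I : Ideal (SC f k))
    (h : ∀ j, j ≠ k → sfr f k j ∈ I) : Function.Surjective ((Ideal.Quotient.mk I).comp (sh f k)) := by
  intro z
  obtain ⟨z, rfl⟩ := Ideal.Quotient.mk_surjective z
  obtain ⟨n, w, hw, rfl⟩ := frac_surjective _ _ (Groth.L11.BlowSmooth.mem_pow_one f k) z
  obtain ⟨P, hP⟩ := Groth.L11.BlowSmooth.frac_mem_range_ev f k n w hw
  rw [← hP]
  clear hP
  induction P using MvPolynomial.induction_on with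
  | C r => exact ⟨r, by rw [ev, MvPolynomial.eval₂Hom_C]; rfl⟩
  | add p q hp hq =>
    obtain ⟨a, ha⟩ := hp
    obtain ⟨b, hb⟩ := hq
    exact ⟨a + b, by rw [map_add, map_add, map_add, ha, hb]⟩
  | mul_X p j hp =>
    obtain ⟨a, ha⟩ := hp
    rw [map_mul, map_mul]
    by_cases hj : j = k
    · subst hj
      refine ⟨a, ?_⟩
      rw [Groth.L11.BlowSmooth.ev_X_self, map_one, mul_one, ha]
    · refine ⟨0, ?_⟩
      rw [map_zero, ev, MvPolynomial.eval₂Hom_X', Ideal.Quotient.eq_zero_iff_mem.2 (h j hj), mul_zero]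

variable {P M : Scheme.{u}} {b : M ⟶ P}

/-- The inverse image of an ideal in a chart. -/
theorem comap_chart (G : P.IdealSheafData) (U : P.affineOpens) {C : Type u} [CommRing C] (φ : Γ(P, U.1) →+* C)
    (j : Spec (CommRingCat.of C) ⟶ M) (hj : j ≫ b = Spec.map (CommRingCat.ofHom φ) ≫ U.2.fromSpec) :
    (G.comap b).comap j = idealOf ((G.ideal U).map φ) := by
  refine Scheme.IdealSheafData.ext_of_isAffine ?_
  rw [← Scheme.IdealSheafData.comap_comp, hj, Scheme.IdealSheafData.comap_comp, comap_fromSpec, comap_SpecMap,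
    idealOf_top]

theorem idealOf_le {A : Type u} [CommRing A] {I J : Ideal A}
    (h : (idealOf I).ideal ⟨⊤, isAffineOpen_top _⟩ = (idealOf J).ideal ⟨⊤, isAffineOpen_top _⟩) : I = J := by
  rw [idealOf_top, idealOf_top] at h
  exact Ideals.map_hom_inj (Scheme.ΓSpecIso (CommRingCat.of A)).symm h

theorem exists_idealOf {A : Type u} [CommRing A] (R : (Spec (CommRingCat.of A)).IdealSheafData) :
    ∃ I : Ideal A, R = idealOf I :=
  ⟨(R.ideal ⟨⊤, isAffineOpen_top _⟩).map (Scheme.ΓSpecIso (CommRingCat.of A)).hom.hom,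
    Scheme.IdealSheafData.ext_of_isAffine (by
      rw [idealOf_top, Ideal.map_map, ← CommRingCat.hom_comp, Iso.hom_inv_id, CommRingCat.hom_id, Ideal.map_id])⟩

/-- In a chart the strict transform contains the fractions of the equations of `V(J)`. -/
theorem exists_chart_ideal {J K : P.IdealSheafData} {R : M.IdealSheafData} (hR : K.comap b * R = J.comap b)
    (U : P.affineOpens) {c : ℕ} (f : Fin c → Γ(P, U.1)) (hf : K.ideal U = Ideal.span (Set.range f)) (k : Fin c)
    (j : Spec (CommRingCat.of (SC f k)) ⟶ M)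
    (hjb : j ≫ b = Spec.map (CommRingCat.ofHom (sh f k)) ≫ U.2.fromSpec) :
    ∃ I : Ideal (SC f k), R.comap j = idealOf I ∧ ∀ i, f i ∈ J.ideal U → sfr f k i ∈ I := by
  obtain ⟨I, hI⟩ := exists_idealOf (R.comap j)
  refine ⟨I, hI, fun i hi => ?_⟩
  have h1 := congrArg (fun G => Scheme.IdealSheafData.comap G j) hR
  rw [Ideals.comap_mul, comap_chart K U (sh f k) j hjb, comap_chart J U (sh f k) j hjb, hI] at h1
  have h2 := congrArg (fun G => Scheme.IdealSheafData.ideal G ⟨⊤, isAffineOpen_top _⟩) h1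
  simp only [Scheme.IdealSheafData.ideal_mul, Pi.mul_apply, idealOf_top, ← Ideal.map_mul] at h2
  have h3 := Ideals.map_hom_inj (Scheme.ΓSpecIso (CommRingCat.of (SC f k))).symm h2
  have hfr : ∀ l, sh f k (f k) * sfr f k l = sh f k (f l) := fun l =>
    (chartHom_eq _ _ (Groth.L11.BlowSmooth.mem_pow_one f k) (f l) (Groth.L11.BlowSmooth.mem_pow_one f l)).symm
  have hKk : (K.ideal U).map (sh f k) ≤ Ideal.span {sh f k (f k)} := by
    rw [hf, Ideal.map_span, Ideal.span_le]
    rintro _ ⟨_, ⟨l, rfl⟩, rfl⟩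
    exact Ideal.mem_span_singleton.2 (Dvd.intro _ (hfr l))
  have hmem : sh f k (f i) ∈ Ideal.span {sh f k (f k)} * I :=
    Ideal.mul_mono_left hKk (h3.ge (Ideal.mem_map_of_mem _ hi))
  obtain ⟨z, hz, he⟩ := Ideal.mem_span_singleton_mul.1 hmem
  rwa [(mul_cancel_left_mem_nonZeroDivisors
    (chartHom_nonZeroDivisor _ _ (Groth.L11.BlowSmooth.mem_pow_one f k))).1 (he.trans (hfr i).symm)] at hz

theorem not_mem_support_top {C : Type u} [CommRing C] (a : Spec (CommRingCat.of C)) :
    a ∉ (idealOf (⊤ : Ideal C)).support := by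
  intro h
  rw [Scheme.IdealSheafData.mem_support_iff_of_mem (U := ⟨⊤, isAffineOpen_top _⟩) trivial, idealOf_top,
    Ideal.map_top, Scheme.mem_zeroLocus_iff] at h
  exact h 1 trivial (by rw [Scheme.basicOpen_of_isUnit _ isUnit_one]; trivial)

/-- All points of the strict transform over a chart of the base lie in the last chart. -/
theorem exists_last_chart {J K : P.IdealSheafData} (hb : BlowUp.IsBlowUp b K) {R : M.IdealSheafData}
    (hR : K.comap b * R = J.comap b) (U : P.affineOpens) {c : ℕ} (f : Fin c → Γ(P, U.1))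
    (hf : K.ideal U = Ideal.span (Set.range f)) (l : Fin c) (hl : ∀ i, i ≠ l → f i ∈ J.ideal U)
    (z : R.subscheme) (hz : b (R.subschemeι z) ∈ U.1) :
    ∃ j : Spec (CommRingCat.of (SC f l)) ⟶ M, IsOpenImmersion j ∧ R.subschemeι z ∈ Set.range j ∧
      j ≫ b = Spec.map (CommRingCat.ofHom (sh f l)) ≫ U.2.fromSpec := by
  obtain ⟨k, j, hj, hmem, hjb⟩ := exists_blowUp_chart b K hb U f hf (R.subschemeι z) hz
  by_cases hk : k = l
  · subst hk; exact ⟨j, hj, hmem, hjb⟩
  exfalso
  obtain ⟨a, ha⟩ := hmem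
  obtain ⟨I, hI, hfr⟩ := exists_chart_ideal hR U f hf k j hjb
  have hI1 : I = ⊤ := (Ideal.eq_top_iff_one I).2 (sfr_self f k ▸ hfr k (hl k hk))
  refine not_mem_support_top a ?_
  rw [← hI1, ← hI, Scheme.IdealSheafData.support_comap]
  show j a ∈ R.support
  rw [ha]
  exact R.range_subschemeι.le ⟨z, rfl⟩

/-- The strict transform over a chart of the base. -/
theorem exists_piece {J K : P.IdealSheafData} (hb : BlowUp.IsBlowUp b K) {R : M.IdealSheafData}
    (hR : K.comap b * R = J.comap b) (U : P.affineOpens) {c : ℕ} (f : Fin c → Γ(P, U.1))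
    (hf : K.ideal U = Ideal.span (Set.range f)) (l : Fin c) (hl : ∀ i, i ≠ l → f i ∈ J.ideal U)
    (z₀ : R.subscheme) (hz₀ : b (R.subschemeι z₀) ∈ U.1) :
    ∃ (Z : Scheme.{u}) (q : Z ⟶ R.subscheme) (φ : Z ⟶ Spec Γ(P, U.1)), IsClosedImmersion φ ∧
      IsPullback q φ (R.subschemeι ≫ b) U.2.fromSpec := by
  obtain ⟨j, hj, -, hjb⟩ := exists_last_chart hb hR U f hf l hl z₀ hz₀
  obtain ⟨I, hI, hfr⟩ := exists_chart_ideal hR U f hf l j hjb
  obtain ⟨q, hqo, hqι, hqc⟩ := exists_closed_chart R.subschemeι j I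
    (by rw [Scheme.IdealSheafData.ker_subschemeι, hI])
  let φ : Spec (CommRingCat.of (SC f l ⧸ I)) ⟶ Spec Γ(P, U.1) :=
    Spec.map (CommRingCat.ofHom ((Ideal.Quotient.mk I).comp (sh f l)))
  haveI : IsClosedImmersion φ :=
    IsClosedImmersion.spec_of_surjective _ (quot_surjective f l I fun i hi => hfr i (hl i hi))
  have hw : q ≫ R.subschemeι ≫ b = φ ≫ U.2.fromSpec := by
    simp only [φ, reassoc_of% hqι, hjb, CommRingCat.ofHom_comp, Spec.map_comp, Category.assoc]
  refine ⟨_, q, φ, inferInstance, (IsOpenImmersion.isPullback φ q U.2.fromSpec _ hw ?_).flip⟩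
  ext z
  constructor
  · intro hzr
    have hzU : b (R.subschemeι z) ∈ U.1 := U.2.range_fromSpec.le hzr
    obtain ⟨j', hj', hmem, hjb'⟩ := exists_last_chart hb hR U f hf l hl z hzU
    have hC : BlowUp.IsEffCartierIdeal (K.comap (j ≫ b)) := by
      rw [Scheme.IdealSheafData.comap_comp]
      exact Groth.L13.LocalPair.isEffCartier_comap_open j hb.1
    obtain ⟨_, _, huniq⟩ := hb.2 _ (j ≫ b) hC
    have : j' = j := (huniq j' (hjb'.trans hjb.symm)).trans (huniq j rfl).symm
    exact hqc z (this ▸ hmem)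
  · rintro ⟨a, rfl⟩
    exact ⟨φ a, by rw [← Scheme.Hom.comp_apply, ← hw, Scheme.Hom.comp_apply]⟩

/-- If the centre is cut out in `V(J)` by an effective Cartier divisor, the strict transform of `V(J)` is a
closed subscheme of the base. -/
theorem isClosedImmersion_strict [IsLocallyNoetherian P] {J D K : P.IdealSheafData}
    (hD : BlowUp.IsEffCartierIdeal D) (hK : K = J ⊔ D) (hb : BlowUp.IsBlowUp b K) {R : M.IdealSheafData}
    (hR : K.comap b * R = J.comap b) : IsClosedImmersion (R.subschemeι ≫ b) := by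
  classical
  let g := R.subschemeι ≫ b
  choose U hxU T hT hDU using hD
  refine IsZariskiLocalAtTarget.of_openCover (P := @IsClosedImmersion)
    (P.openCoverOfIsOpenCover (fun x => (U x).1) (IsOpenCover.mk (eq_top_iff.2 fun x _ =>
      Opens.mem_iSup.2 ⟨x, hxU x⟩))) fun x => ?_
  change IsClosedImmersion (pullback.snd g (U x).1.ι)
  haveI : IsNoetherianRing Γ(P, (U x).1) := IsLocallyNoetherian.component_noetherian (U x)
  obtain ⟨r, js, hjs⟩ := Submodule.fg_iff_exists_fin_generating_family.1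
    ((isNoetherianRing_iff_ideal_fg _).1 inferInstance (J.ideal (U x)))
  let f : Fin (r + 1) → Γ(P, (U x).1) := Fin.snoc js (T x)
  have hrange : Set.range f = insert (T x) (Set.range js) := Fin.range_snoc _ _
  have hf : K.ideal (U x) = Ideal.span (Set.range f) := by
    rw [hK, hrange, Ideal.span_insert, Scheme.IdealSheafData.ideal_sup, Pi.sup_apply, hDU x,
      show Ideal.span (Set.range js) = J.ideal (U x) from hjs, sup_comm]
  have hl : ∀ i, i ≠ Fin.last r → f i ∈ J.ideal (U x) := fun i hi => by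
    obtain ⟨l, rfl⟩ := Fin.exists_castSucc_eq.2 hi
    rw [show f l.castSucc = js l from Fin.snoc_castSucc (α := fun _ => Γ(P, (U x).1)) _ _ _, ← hjs]
    exact Submodule.subset_span ⟨l, rfl⟩
  by_cases hne : ∃ z, g z ∈ (U x).1
  swap
  · haveI : IsEmpty ↥(pullback g (U x).1.ι) := ⟨fun w => hne ⟨pullback.fst g (U x).1.ι w, by
      rw [← Scheme.Hom.comp_apply, pullback.condition, Scheme.Hom.comp_apply]
      exact (pullback.snd g (U x).1.ι w).2⟩⟩
    exact IsClosedImmersion.of_isPreimmersion _ (by rw [Set.range_eq_empty]; exact isClosed_empty)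
  obtain ⟨z₀, hz₀⟩ := hne
  obtain ⟨Z, q, φ, hφ, hpb⟩ := exists_piece hb hR (U x) f hf (Fin.last r) hl z₀ hz₀
  haveI := hφ
  have hpb2 : IsPullback q (φ ≫ (U x).2.isoSpec.inv) g (U x).1.ι :=
    hpb.of_iso (Iso.refl _) (Iso.refl _) (U x).2.isoSpec.symm (Iso.refl _) (by simp) (by simp) (by simp [g])
      (by simp)
  rw [← hpb2.isoPullback_inv_snd]
  infer_instance

end Groth.L12.RR
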